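/-
The set `Cfsg.leechSet` is a lattice: membership test, closure under addition, norms.
-/
import Cfsg.Agent.Lib.Spor.GolayBasic
import Cfsg.Prelude.Def_Spor_Conway

namespace CfsgLib.Spor.Leech

open Cfsg

/-- The second binary digit of each coordinate. -/
def digit (x : GolayPt → ℤ) : GolayPt → ZMod 2 := fun i => ((x i / 2 : ℤ) : ZMod 2)

/-- The common parity. -/
def par (x : GolayPt → ℤ) : ℤ := x none % 2

/-- The membership test. -/
def IsLeech (x : GolayPt → ℤ) : Prop :=
  (∀ i, x i % 2 = par x) ∧ digit x ∈ golayCode ∧ (∑ i, x i) % 8 = 4 * par x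

theorem zmod2_cast_eq_zero (a : ℤ) : ((a : ℤ) : ZMod 2) = 0 ↔ a % 2 = 0 :=
  (ZMod.intCast_zmod_eq_zero_iff_dvd a 2).trans Int.dvd_iff_emod_eq_zero

theorem mem_supports_support₂ {w : GolayPt → ZMod 2} :
    support₂ w ∈ supports (golayCode : Set (GolayPt → ZMod 2)) ↔ w ∈ golayCode :=
  ⟨fun ⟨v, hv, e⟩ => support₂_injective e ▸ hv, fun h => ⟨w, h, rfl⟩⟩

theorem one_mem : (1 : GolayPt → ZMod 2) ∈ golayCode := Submodule.subset_span (Set.mem_union_right _ rfl)

theorem mem_leechSet_iff {x : GolayPt → ℤ} : x ∈ leechSet ↔ IsLeech x := by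
  constructor
  · rintro ⟨m, hpar, hsum, hk⟩
    have hp : ∀ i, x i % 2 = par x := fun i => (hpar i).trans (hpar none).symm
    refine ⟨hp, ?_, ?_⟩
    · refine mem_supports_support₂.1 ?_
      have e : support₂ (digit x) = Finset.univ.filter fun i => x i ≡ 2 + par x [ZMOD 4] := by
        ext i
        rw [support₂, Finset.mem_filter, Finset.mem_filter]
        simp only [digit, Finset.mem_univ, true_and, ne_eq, zmod2_cast_eq_zero, Int.ModEq]
        have := hp i
        omega
      rw [e]; exact hk _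
    · have h2 : x none % 2 = m % 2 := hpar none
      have h8 : (∑ i, x i) % 8 = (4 * m) % 8 := hsum
      simp only [par]
      omega
  · rintro ⟨hp, hd, hs⟩
    refine ⟨par x, fun i => ?_, ?_, fun k => ?_⟩
    · have := hp i; simp only [Int.ModEq, par] at this ⊢; omega
    · simp only [Int.ModEq, par] at hs ⊢; omega
    · by_cases hk : k % 2 = par x
      · by_cases h2 : k % 4 = 2 + par x
        · have e : (Finset.univ.filter fun i => x i ≡ k [ZMOD 4]) = support₂ (digit x) := by
            ext i
            rw [support₂, Finset.mem_filter, Finset.mem_filter]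
            simp only [digit, Finset.mem_univ, true_and, ne_eq, zmod2_cast_eq_zero, Int.ModEq]
            have := hp i
            omega
          rw [e]; exact mem_supports_support₂.2 hd
        · have e : (Finset.univ.filter fun i => x i ≡ k [ZMOD 4]) = support₂ (1 + digit x) := by
            ext i
            rw [support₂, Finset.mem_filter, Finset.mem_filter]
            simp only [digit, Finset.mem_univ, true_and, ne_eq, Int.ModEq, Pi.add_apply, Pi.one_apply]
            rw [show (1 : ZMod 2) + ((x i / 2 : ℤ) : ZMod 2) = ((1 + x i / 2 : ℤ) : ZMod 2) by push_cast; rfl,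
              zmod2_cast_eq_zero]
            have := hp i
            omega
          rw [e]; exact mem_supports_support₂.2 (add_mem one_mem hd)
      · have e : (Finset.univ.filter fun i => x i ≡ k [ZMOD 4]) = ∅ := by
          refine Finset.filter_false_of_mem fun i _ => ?_
          have := hp i
          simp only [Int.ModEq]
          omega
        rw [e]; exact Spor.empty_mem_supports_golayCode

theorem digit_add (x y : GolayPt → ℤ) (i : GolayPt) :
    digit (x + y) i = digit x i + digit y i + ((x i % 2 * (y i % 2) : ℤ) : ZMod 2) := by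
  simp only [digit, Pi.add_apply]
  rw [← Int.cast_add, ← Int.cast_add]
  congr 1
  rcases Int.emod_two_eq_zero_or_one (x i) with h | h <;>
    rcases Int.emod_two_eq_zero_or_one (y i) with h' | h' <;> rw [h, h'] <;> omega

theorem digit_neg (x : GolayPt → ℤ) (i : GolayPt) :
    digit (-x) i = digit x i + ((x i % 2 : ℤ) : ZMod 2) := by
  simp only [digit, Pi.neg_apply]
  rw [← Int.cast_add, ← sub_eq_zero, ← Int.cast_sub, zmod2_cast_eq_zero]
  rcases Int.emod_two_eq_zero_or_one (x i) with h | h <;> rw [h] <;> omega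

theorem isLeech_zero : IsLeech 0 := by
  refine ⟨fun _ => rfl, ?_, rfl⟩
  rw [show digit (0 : GolayPt → ℤ) = 0 from funext fun _ => by simp [digit]]
  exact zero_mem _

theorem isLeech_add {x y : GolayPt → ℤ} (hx : IsLeech x) (hy : IsLeech y) : IsLeech (x + y) := by
  obtain ⟨hpx, hdx, hsx⟩ := hx
  obtain ⟨hpy, hdy, hsy⟩ := hy
  refine ⟨fun i => ?_, ?_, ?_⟩
  · have := hpx i; have := hpy i
    simp only [par, Pi.add_apply] at *
    omega
  · have e : digit (x + y) = digit x + digit y + ((par x * par y : ℤ) : ZMod 2) • 1 := funext fun i => by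
      simp [digit_add, hpx i, hpy i]
    rw [e]
    exact add_mem (add_mem hdx hdy) (Submodule.smul_mem _ _ one_mem)
  · have : (∑ i, (x + y) i) = (∑ i, x i) + ∑ i, y i := Finset.sum_add_distrib
    simp only [par, Pi.add_apply] at *
    omega

theorem isLeech_neg {x : GolayPt → ℤ} (hx : IsLeech x) : IsLeech (-x) := by
  obtain ⟨hpx, hdx, hsx⟩ := hx
  refine ⟨fun i => ?_, ?_, ?_⟩
  · have := hpx i
    simp only [par, Pi.neg_apply] at *
    omega
  · have e : digit (-x) = digit x + ((par x : ℤ) : ZMod 2) • 1 := funext fun i => by simp [digit_neg, hpx i]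
    rw [e]
    exact add_mem hdx (Submodule.smul_mem _ _ one_mem)
  · simp only [par, Pi.neg_apply, Finset.sum_neg_distrib] at *
    omega

/-- `leechSet` as a subgroup. -/
def lattice : AddSubgroup (GolayPt → ℤ) where
  carrier := leechSet
  zero_mem' := mem_leechSet_iff.2 isLeech_zero
  add_mem' hx hy := mem_leechSet_iff.2 (isLeech_add (mem_leechSet_iff.1 hx) (mem_leechSet_iff.1 hy))
  neg_mem' hx := mem_leechSet_iff.2 (isLeech_neg (mem_leechSet_iff.1 hx))

theorem leechLattice_eq : leechLattice = lattice := AddSubgroup.closure_eq lattice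

theorem mem_iff {x : GolayPt → ℤ} : x ∈ leechLattice ↔ IsLeech x := by
  rw [leechLattice_eq]; exact mem_leechSet_iff

theorem exists_subgroup : ∃ L : AddSubgroup (GolayPt → ℤ), (L : Set (GolayPt → ℤ)) = leechSet := ⟨lattice, rfl⟩

/-! ### Code words -/

theorem code_sum_zero {w : GolayPt → ZMod 2} (hw : w ∈ golayCode) : ∑ i, w i = 0 := by
  simpa using golayCode_self_orthogonal one_mem hw

theorem code_card {w : GolayPt → ZMod 2} (hw : w ∈ golayCode) :
    (support₂ w).card = 0 ∨ (support₂ w).card = 8 ∨ (support₂ w).card = 12 ∨ (support₂ w).card = 16 ∨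
      (support₂ w).card = 24 := by
  exact card_of_mem_supports ⟨w, hw, rfl⟩

theorem support₂_eq_empty {w : GolayPt → ZMod 2} : (support₂ w).card = 0 ↔ w = 0 := by
  simp [support₂, Finset.filter_eq_empty_iff, funext_iff]

/-! ### Norms -/

theorem sqNorm_dvd {x : GolayPt → ℤ} (hx : x ∈ leechLattice) : (16 : ℤ) ∣ sqNorm x := by
  obtain ⟨hp, hd, hs⟩ := mem_iff.1 hx
  rcases Int.emod_two_eq_zero_or_one (x none) with h0 | h0
  · have key : ∀ i, (x i) ^ 2 = 4 * (x i / 2) ^ 2 := fun i => by
      have : x i = 2 * (x i / 2) := by have := hp i; simp only [par] at this; omega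
      conv_lhs => rw [this]
      ring
    have hw : ∀ i, (x i / 2) ^ 2 % 4 = if digit x i ≠ 0 then 1 else 0 := fun i => by
      simp only [digit, ne_eq, zmod2_cast_eq_zero]
      have hsq : (x i / 2) ^ 2 % 4 = ((x i / 2) % 4) * ((x i / 2) % 4) % 4 := by rw [sq, Int.mul_emod]
      split_ifs with h <;> rw [hsq] <;>
        rcases (by omega : (x i / 2) % 4 = 0 ∨ (x i / 2) % 4 = 1 ∨ (x i / 2) % 4 = 2 ∨ (x i / 2) % 4 = 3) with
          e | e | e | e <;> rw [e] <;> omega
    rw [sqNorm, Finset.sum_congr rfl fun i _ => key i, ← Finset.mul_sum]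
    have h4 : (4 : ℤ) ∣ ∑ i, (x i / 2) ^ 2 := by
      rw [Int.dvd_iff_emod_eq_zero, Finset.sum_int_mod, Finset.sum_congr rfl fun i _ => hw i]
      rw [Finset.sum_ite, Finset.sum_const_zero, add_zero, Finset.sum_const, nsmul_one]
      rw [show (Finset.univ.filter fun i => digit x i ≠ 0) = support₂ (digit x) from rfl]
      rcases code_card hd with h | h | h | h | h <;> rw [h] <;> rfl
    obtain ⟨t, ht⟩ := h4
    exact ⟨t, by rw [ht]; ring⟩
  · have key : ∀ i, (x i) ^ 2 = 1 + 4 * (x i / 2 * (x i / 2 + 1)) := fun i => by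
      have : x i = 2 * (x i / 2) + 1 := by have := hp i; simp only [par] at this; omega
      conv_lhs => rw [this]
      ring
    have hhalf : ∀ i, x i / 2 * (x i / 2 + 1) % 4 = (2 * ((x i / 2 + 1) / 2)) % 4 := fun i => by
      rw [Int.mul_emod]
      rcases (by omega : (x i / 2) % 4 = 0 ∨ (x i / 2) % 4 = 1 ∨ (x i / 2) % 4 = 2 ∨ (x i / 2) % 4 = 3) with
        e | e | e | e <;>
      · have h1 : (x i / 2 + 1) % 4 = ((x i / 2) % 4 + 1) % 4 := by omega
        rw [h1, e]; omega
    -- count the coordinates congruent to 1 or 3 modulo 4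
    have hsum : ∑ i, x i = 24 + 4 * (∑ i, (x i / 2 + 1) / 2) - 2 * ((support₂ (digit x)).card : ℤ) := by
      have : ∀ i, x i = 1 + 4 * ((x i / 2 + 1) / 2) - 2 * (if digit x i ≠ 0 then 1 else 0) := fun i => by
        simp only [digit, ne_eq, zmod2_cast_eq_zero]
        have := hp i; simp only [par] at this
        split_ifs <;> omega
      conv_lhs => rw [Finset.sum_congr rfl fun i _ => this i]
      rw [Finset.sum_sub_distrib, Finset.sum_add_distrib, ← Finset.mul_sum, ← Finset.mul_sum, Finset.sum_ite,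
        Finset.sum_const_zero, add_zero, Finset.sum_const, Finset.sum_const, nsmul_one, nsmul_one,
        Finset.card_univ, show Fintype.card GolayPt = 24 by decide +kernel]
      rfl
    have h4 : (∑ i, x i / 2 * (x i / 2 + 1)) % 4 = (2 * ∑ i, (x i / 2 + 1) / 2) % 4 := by
      rw [Finset.sum_int_mod, Finset.sum_congr rfl fun i _ => hhalf i, ← Finset.sum_int_mod, Finset.mul_sum]
    rw [sqNorm, Finset.sum_congr rfl fun i _ => key i, Finset.sum_add_distrib, Finset.sum_const, nsmul_one,
      ← Finset.mul_sum, Finset.card_univ, show Fintype.card GolayPt = 24 by decide +kernel]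
    have hw := code_card hd
    simp only [par] at hs
    rw [Int.dvd_iff_emod_eq_zero]
    push_cast
    omega

theorem sqNorm_nonneg (x : GolayPt → ℤ) : 0 ≤ sqNorm x := Finset.sum_nonneg fun _ _ => sq_nonneg _

theorem sqNorm_eq_zero {x : GolayPt → ℤ} : sqNorm x = 0 ↔ x = 0 := by
  rw [sqNorm, Finset.sum_eq_zero_iff_of_nonneg fun _ _ => sq_nonneg _]
  simp [funext_iff]

theorem sqNorm_min {x : GolayPt → ℤ} (hx : x ∈ leechLattice) (h0 : x ≠ 0) : 32 ≤ sqNorm x := by
  obtain ⟨t, ht⟩ := sqNorm_dvd hx
  have hpos : 0 < sqNorm x := lt_of_le_of_ne (sqNorm_nonneg x) fun e => h0 (sqNorm_eq_zero.1 e.symm)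
  by_contra hlt
  have h16 : sqNorm x = 16 := by omega
  obtain ⟨hp, hd, hs⟩ := mem_iff.1 hx
  rcases Int.emod_two_eq_zero_or_one (x none) with hn | hn
  · have hterm : ∀ i, (if digit x i ≠ 0 then (4 : ℤ) else 0) ≤ x i ^ 2 := fun i => by
      split_ifs with h
      · simp only [digit, ne_eq, zmod2_cast_eq_zero] at h
        have := hp i; simp only [par] at this
        rcases (by omega : 2 ≤ x i ∨ x i ≤ -2) with h2 | h2 <;> nlinarith
      · exact sq_nonneg _
    have h := Finset.sum_le_sum (s := Finset.univ) fun i _ => hterm i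
    rw [Finset.sum_ite, Finset.sum_const_zero, add_zero, Finset.sum_const, nsmul_eq_mul,
      show (Finset.univ.filter fun i => digit x i ≠ 0) = support₂ (digit x) from rfl] at h
    have h4 : 4 * ((support₂ (digit x)).card : ℤ) ≤ 16 := by
      rw [mul_comm]; exact h.trans (le_of_eq h16)
    have hz : digit x = 0 := support₂_eq_empty.1 (by rcases code_card hd with e | e | e | e | e <;> omega)
    -- all coordinates are divisible by four, and their quarters have even sum
    have hdiv : ∀ i, x i = 4 * (x i / 4) := fun i => by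
      have h2 : ((x i / 2 : ℤ) : ZMod 2) = 0 := congrFun hz i
      rw [zmod2_cast_eq_zero] at h2
      have := hp i; simp only [par] at this
      omega
    have hsq : ∑ i, (x i / 4) ^ 2 = 1 := by
      have : sqNorm x = 16 * ∑ i, (x i / 4) ^ 2 := by
        rw [sqNorm, Finset.mul_sum]
        refine Finset.sum_congr rfl fun i _ => ?_
        conv_lhs => rw [hdiv i]
        ring
      omega
    have hsum : (∑ i, x i / 4) % 2 = 0 := by
      have : ∑ i, x i = 4 * ∑ i, x i / 4 := by rw [Finset.mul_sum]; exact Finset.sum_congr rfl fun i _ => hdiv i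
      simp only [par] at hs
      omega
    have hpar : (∑ i, (x i / 4) ^ 2) % 2 = (∑ i, x i / 4) % 2 := by
      rw [Finset.sum_int_mod, Finset.sum_int_mod (f := fun i => x i / 4)]
      congr 1
      refine Finset.sum_congr rfl fun i _ => ?_
      rw [sq, Int.mul_emod]
      rcases Int.emod_two_eq_zero_or_one (x i / 4) with e | e <;> rw [e] <;> rfl
    omega
  · have hterm : ∀ i, (1 : ℤ) ≤ x i ^ 2 := fun i => by
      have := hp i; simp only [par] at this
      rcases (by omega : 1 ≤ x i ∨ x i ≤ -1) with h2 | h2 <;> nlinarith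
    have h := Finset.sum_le_sum (s := Finset.univ) fun i _ => hterm i
    rw [Finset.sum_const, nsmul_one, Finset.card_univ, show Fintype.card GolayPt = 24 by decide +kernel] at h
    rw [sqNorm] at h16
    rw [h16] at h
    norm_num at h

/-! ### Short congruent vectors -/

theorem sqNorm_add (x y : GolayPt → ℤ) : sqNorm (x + y) = sqNorm x + 2 * dotInt x y + sqNorm y := by
  simp only [sqNorm, dotInt, Finset.mul_sum, ← Finset.sum_add_distrib, Pi.add_apply]
  exact Finset.sum_congr rfl fun i _ => by ring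

theorem sqNorm_sub (x y : GolayPt → ℤ) : sqNorm (x - y) = sqNorm x - 2 * dotInt x y + sqNorm y := by
  simp only [sqNorm, dotInt, Finset.mul_sum, ← Finset.sum_add_distrib, ← Finset.sum_sub_distrib, Pi.sub_apply]
  exact Finset.sum_congr rfl fun i _ => by ring

theorem sqNorm_two_nsmul (x : GolayPt → ℤ) : sqNorm (2 • x) = 4 * sqNorm x := by
  simp only [sqNorm, Finset.mul_sum, Pi.smul_apply, nsmul_eq_mul]
  exact Finset.sum_congr rfl fun i _ => by push_cast; ring

theorem short_congr {x y : GolayPt → ℤ} (hy : y ∈ leechLattice) (hxy : x ≠ y)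
    (hxn : sqNorm x ≤ 64) (hyn : sqNorm y ≤ 64) (hc : ∃ z ∈ leechLattice, x - y = 2 • z) :
    x = -y ∨ (sqNorm x = 64 ∧ sqNorm y = 64 ∧ dotInt x y = 0) := by
  obtain ⟨z, hz, e⟩ := hc
  by_cases hneg : x = -y
  · exact Or.inl hneg
  right
  have e' : x + y = 2 • (z + y) := by
    rw [nsmul_add, ← e, two_nsmul]; abel
  have h1 : 32 ≤ sqNorm z := sqNorm_min hz fun h => hxy (sub_eq_zero.1 (by rw [e, h, nsmul_zero]))
  have h2 : 32 ≤ sqNorm (z + y) := sqNorm_min (add_mem hz hy) fun h =>
    hneg (eq_neg_of_add_eq_zero_left (by rw [e', h, nsmul_zero]))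
  have hs1 : sqNorm (x - y) = 4 * sqNorm z := by rw [e, sqNorm_two_nsmul]
  have hs2 : sqNorm (x + y) = 4 * sqNorm (z + y) := by rw [e', sqNorm_two_nsmul]
  rw [sqNorm_sub] at hs1
  rw [sqNorm_add] at hs2
  omega

theorem short_congr_norm {v w : GolayPt → ℤ} (hv : v ∈ leechLattice) (hw : w ∈ leechLattice) (hvn : sqNorm v ≤ 64)
    (hwn : sqNorm w ≤ 64) (hc : ∃ z ∈ leechLattice, v - w = 2 • z) :
    sqNorm v = sqNorm w ∧ (sqNorm v < 64 → w = v ∨ w = -v) := by
  by_cases h : v = w
  · subst h; exact ⟨rfl, fun _ => Or.inl rfl⟩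
  rcases short_congr hw h hvn hwn hc with h' | ⟨h1, h2, -⟩
  · subst h'
    refine ⟨?_, fun _ => Or.inr (neg_neg w).symm⟩
    simp [sqNorm]
  · exact ⟨h1.trans h2.symm, fun hlt => absurd h1 (ne_of_lt hlt)⟩

end CfsgLib.Spor.Leech
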