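/-
Generators, index, and the obvious symmetries of the lattice.
-/
import Cfsg.Agent.Lib.Spor.Leech.Basic
import Cfsg.Agent.Lib.Spor.M24Basic

namespace CfsgLib.Spor.Leech

open Cfsg
open scoped Pointwise

/-- The integer vector `(−3, 1²³)`. -/
def oddVec : GolayPt → ℤ := fun p => if p = none then -3 else 1

/-- Twice the indicator of a mask. -/
def twoVec (m : ℕ) : GolayPt → ℤ := fun p => if m.testBit (ptIdx p) then 2 else 0

/-- `4e_p + 4e_q`. -/
def fourVec (p q : GolayPt) : GolayPt → ℤ := Pi.single p 4 + Pi.single q 4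

theorem digit_twoVec (m : ℕ) : digit (twoVec m) = word m := by
  funext p
  simp only [digit, twoVec, word]
  cases m.testBit (ptIdx p) <;> simp

theorem sum_twoVec (m : ℕ) : ∑ p, twoVec m p = 2 * (pop 24 m : ℤ) := by
  simp only [twoVec]
  rw [← card_pts, pts, Finset.sum_ite, Finset.sum_const_zero, add_zero, Finset.sum_const, nsmul_eq_mul]
  push_cast
  ring

theorem twoVec_mem {m : ℕ} (h : word m ∈ golayCode) : twoVec m ∈ leechLattice := by
  refine mem_iff.2 ⟨fun i => ?_, by rw [digit_twoVec]; exact h, ?_⟩
  · simp only [par, twoVec]; split_ifs <;> rfl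
  · rw [sum_twoVec]
    have hp : par (twoVec m) = 0 := by simp only [par, twoVec]; split_ifs <;> rfl
    rw [hp, ← card_pts]
    have := code_card h
    rw [support₂_word] at this
    omega

theorem oddVec_mem : oddVec ∈ leechLattice := by
  refine mem_iff.2 ⟨by decide +kernel, ?_, by decide +kernel⟩
  rw [show digit oddVec = word (maskWord (digit oddVec)) from (word_maskWord _).symm, word_mem_golayCode_iff]
  decide +kernel

theorem fourVec_mem (p q : GolayPt) : fourVec p q ∈ leechLattice := by
  have h2 : ∀ i, fourVec p q i % 4 = 0 := fun i => by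
    simp only [fourVec, Pi.add_apply, Pi.single_apply]; split_ifs <;> rfl
  refine mem_iff.2 ⟨fun i => ?_, ?_, ?_⟩
  · have := h2 i; have := h2 none; simp only [par]; omega
  · have : digit (fourVec p q) = 0 := funext fun i => by
      simp only [digit, Pi.zero_apply, zmod2_cast_eq_zero]; have := h2 i; omega
    rw [this]; exact zero_mem _
  · have hp : par (fourVec p q) = 0 := by have := h2 none; simp only [par]; omega
    rw [hp, fourVec]
    simp [Finset.sum_add_distrib]

theorem leech_le {H : AddSubgroup (GolayPt → ℤ)} (hodd : oddVec ∈ H) (htwo : ∀ r ∈ rows, twoVec r ∈ H)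
    (hfour : ∀ p q, fourVec p q ∈ H) : leechLattice ≤ H := by
  intro x hx
  -- remove the parity
  obtain ⟨k, hk, hev⟩ : ∃ k : ℤ, k • oddVec ∈ H ∧ par (x - k • oddVec) = 0 := by
    refine ⟨par x, H.zsmul_mem hodd _, ?_⟩
    simp only [par, Pi.sub_apply, Pi.smul_apply, oddVec, if_true, smul_eq_mul]
    omega
  have hk' : k • oddVec ∈ leechLattice := leechLattice.zsmul_mem oddVec_mem _
  suffices ∀ y ∈ leechLattice, par y = 0 → y ∈ H by
    have := H.add_mem (this _ (leechLattice.sub_mem hx hk') hev) hk
    rwa [sub_add_cancel] at this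
  intro y hy hy0
  -- realise the digit word
  have key : ∀ l : List ℕ, (∀ r ∈ l, r ∈ rows) → ∀ m ∈ spanList l,
      ∃ h ∈ H, h ∈ leechLattice ∧ par h = 0 ∧ digit h = word m := by
    intro l
    induction l with
    | nil =>
      intro _ m hm
      simp only [spanList, List.mem_singleton] at hm
      subst hm
      exact ⟨0, H.zero_mem, zero_mem _, rfl, by rw [word_zero]; exact funext fun i => by simp [digit]⟩
    | cons r l ih =>
      intro hl m hm
      have ih' := ih fun r' hr' => hl r' (List.mem_cons_of_mem _ hr')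
      simp only [spanList, List.mem_append, List.mem_map] at hm
      rcases hm with hm | ⟨a, ha, rfl⟩
      · exact ih' m hm
      · obtain ⟨h, hH, hL, hp, hd⟩ := ih' a ha
        have hr := hl r List.mem_cons_self
        have hrp : par (twoVec r) = 0 := by simp only [par, twoVec]; split_ifs <;> rfl
        refine ⟨twoVec r + h, H.add_mem (htwo r hr) hH, add_mem (twoVec_mem (word_row_mem hr)) hL, ?_, ?_⟩
        · simp only [par, Pi.add_apply] at *; omega
        · funext i
          rw [digit_add, word_xor, digit_twoVec, hd, Pi.add_apply]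
          have := (mem_iff.1 (twoVec_mem (word_row_mem hr))).1 i
          rw [hrp] at this
          simp [this]
  obtain ⟨hp, hd, hs⟩ := mem_iff.1 hy
  obtain ⟨m, hm, hme⟩ := exists_codeList hd
  obtain ⟨h, hH, hL, hhp, hhd⟩ := key rows (fun r hr => hr) m hm
  rw [← sub_add_cancel y h]
  refine H.add_mem ?_ hH
  obtain ⟨hp', hd', hs'⟩ := mem_iff.1 (sub_mem hy hL)
  set z := y - h with hz
  have hz0 : par z = 0 := by simp only [hz, par, Pi.sub_apply] at *; omega
  have hz4 : ∀ i, z i = 4 * (z i / 4) := fun i => by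
    have e : ((y i / 2 : ℤ) : ZMod 2) = ((h i / 2 : ℤ) : ZMod 2) := by
      show digit y i = digit h i
      rw [← hme, hhd]
    rw [← sub_eq_zero, ← Int.cast_sub, zmod2_cast_eq_zero] at e
    have := hp i; have := (mem_iff.1 hL).1 i
    simp only [hz, par, Pi.sub_apply] at *
    omega
  have hdecomp : z = (∑ p, (z p / 4) • fourVec p none) - ((∑ p, z p / 4) / 2) • fourVec none none := by
    funext i
    simp only [Pi.sub_apply, Finset.sum_apply, Pi.smul_apply, fourVec, Pi.add_apply, smul_eq_mul, mul_add,
      Finset.sum_add_distrib, Pi.single_apply, mul_ite, mul_zero, Finset.sum_ite_eq, Finset.mem_univ, if_true]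
    have heven : (∑ p, z p / 4) % 2 = 0 := by
      have : ∑ p, z p = 4 * ∑ p, z p / 4 := by rw [Finset.mul_sum]; exact Finset.sum_congr rfl fun p _ => hz4 p
      omega
    have := hz4 i
    split_ifs with hi
    · rw [← Finset.sum_mul]
      omega
    · simp only [Finset.sum_const_zero]; omega
  rw [hdecomp]
  exact H.sub_mem (sum_mem fun p _ => H.zsmul_mem (hfour _ _) _) (H.zsmul_mem (hfour _ _) _)

theorem twoVec_norm (m : ℕ) : sqNorm (twoVec m) = 4 * (pop 24 m : ℤ) := by
  rw [← card_pts, sqNorm, pts,
    show (∑ p, twoVec m p ^ 2) = ∑ p, if m.testBit (ptIdx p) then (4 : ℤ) else 0 from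
      Finset.sum_congr rfl fun p _ => by simp only [twoVec]; split_ifs <;> rfl,
    Finset.sum_ite, Finset.sum_const_zero, add_zero, Finset.sum_const, nsmul_eq_mul]
  push_cast
  ring

theorem norm_pair {p q : GolayPt} (h : p ≠ q) (a b : ℤ) :
    sqNorm (Pi.single p a + Pi.single q b) = a ^ 2 + b ^ 2 := by
  have : ∀ i, ((Pi.single p a + Pi.single q b : GolayPt → ℤ) i) ^ 2 =
      (Pi.single p (a ^ 2) : GolayPt → ℤ) i + (Pi.single q (b ^ 2) : GolayPt → ℤ) i := fun i => by
    simp only [Pi.add_apply, Pi.single_apply]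
    split_ifs with h1 h2 <;> simp_all
  rw [sqNorm, Finset.sum_congr rfl fun i _ => this i, Finset.sum_add_distrib]
  simp

theorem closure_min : AddSubgroup.closure {x : GolayPt → ℤ | x ∈ leechLattice ∧ sqNorm x = 32} = leechLattice := by
  refine le_antisymm ((AddSubgroup.closure_le _).2 fun x hx => hx.1) ?_
  set H := AddSubgroup.closure {x : GolayPt → ℤ | x ∈ leechLattice ∧ sqNorm x = 32}
  have hne : ∀ p q, p ≠ q → fourVec p q ∈ H := fun p q h =>
    AddSubgroup.subset_closure ⟨fourVec_mem p q, by rw [fourVec, norm_pair h]; rfl⟩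
  refine leech_le (AddSubgroup.subset_closure ⟨oddVec_mem, by decide +kernel⟩) (fun r hr => ?_) fun p q => ?_
  · refine AddSubgroup.subset_closure ⟨twoVec_mem (word_row_mem hr), ?_⟩
    rw [twoVec_norm, (by decide +kernel : ∀ r ∈ rows, pop 24 r = 8) r hr]; rfl
  · rcases eq_or_ne p q with rfl | h
    · obtain ⟨r, hr⟩ : ∃ r, r ≠ p := exists_ne p
      have hm : Pi.single p (4 : ℤ) + Pi.single r (-4) ∈ H := by
        refine AddSubgroup.subset_closure ⟨?_, by rw [norm_pair hr.symm]; rfl⟩
        have : (Pi.single p (4 : ℤ) + Pi.single r (-4) : GolayPt → ℤ) = fourVec p r - fourVec r r := by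
          funext i; simp only [fourVec, Pi.add_apply, Pi.sub_apply, Pi.single_apply]; split_ifs <;> rfl
        rw [this]; exact sub_mem (fourVec_mem p r) (fourVec_mem r r)
      have : fourVec p p = fourVec p r + (Pi.single p (4 : ℤ) + Pi.single r (-4)) := by
        funext i; simp only [fourVec, Pi.add_apply, Pi.single_apply]; split_ifs <;> rfl
      rw [this]; exact H.add_mem (hne p r hr.symm) hm
    · exact hne p q h

/-! ### Symmetries -/

theorem perm_mem {σ : Equiv.Perm GolayPt} (hσ : σ ∈ M24) {x : GolayPt → ℤ} (hx : x ∈ leechLattice) :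
    (fun i => x (σ i)) ∈ leechLattice := by
  obtain ⟨hp, hd, hs⟩ := mem_iff.1 hx
  have hp0 : par (fun i => x (σ i)) = par x := hp (σ none)
  refine mem_iff.2 ⟨fun i => (hp (σ i)).trans hp0.symm, ?_, ?_⟩
  · refine mem_supports_support₂.1 ?_
    have e : support₂ (digit fun i => x (σ i)) = σ⁻¹ • support₂ (digit x) := by
      ext i
      rw [Finset.mem_inv_smul_finset_iff, support₂, support₂, Finset.mem_filter, Finset.mem_filter]
      simp [digit, Equiv.Perm.smul_def]
    rw [e]
    exact smul_mem_supports (M24.inv_mem hσ) (mem_supports_support₂.2 hd)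
  · rw [hp0, Equiv.sum_comp σ x]; exact hs

theorem sign_mem {c : Finset GolayPt} (hc : c ∈ supports (golayCode : Set (GolayPt → ZMod 2)))
    {x : GolayPt → ℤ} (hx : x ∈ leechLattice) : (fun i => if i ∈ c then -x i else x i) ∈ leechLattice := by
  obtain ⟨w, hw, rfl⟩ := hc
  obtain ⟨hp, hd, hs⟩ := mem_iff.1 hx
  set y : GolayPt → ℤ := fun i => if i ∈ support₂ w then -x i else x i with hy
  have hp' : ∀ i, y i % 2 = par x := fun i => by
    have := hp i
    simp only [hy, par] at *
    split_ifs <;> omega
  have hpy : par y = par x := hp' none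
  refine mem_iff.2 ⟨fun i => (hp' i).trans hpy.symm, ?_, ?_⟩
  · have e : digit y = digit x + ((par x : ℤ) : ZMod 2) • w := funext fun i => by
      have hmem : i ∈ support₂ w ↔ w i ≠ 0 := by rw [support₂, Finset.mem_filter]; simp
      by_cases h : i ∈ support₂ w
      · have : digit y i = digit (-x) i := by simp [digit, hy, h]
        rw [this, digit_neg, hp i, Pi.add_apply, Pi.smul_apply,
          show w i = 1 from ((by decide : ∀ z : ZMod 2, z = 0 ∨ z = 1) (w i)).resolve_left (hmem.1 h)]
        simp
      · have : digit y i = digit x i := by simp [digit, hy, h]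
        rw [this, Pi.add_apply, Pi.smul_apply, show w i = 0 from not_not.1 (mt hmem.2 h)]
        simp
    rw [e]; exact add_mem hd (Submodule.smul_mem _ _ hw)
  · rw [hpy]
    have hdiff : ∀ i, y i = x i - 2 * (if i ∈ support₂ w then x i else 0) := fun i => by
      simp only [hy]; split_ifs <;> ring
    rw [Finset.sum_congr rfl fun i _ => hdiff i, Finset.sum_sub_distrib, ← Finset.mul_sum, Finset.sum_ite_mem,
      Finset.univ_inter]
    -- the coordinates on the word add up to a multiple of four
    have h4 : (∑ i ∈ support₂ w, x i) % 4 = 0 := by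
      have hx4 : ∀ i, x i % 4 = par x + 2 * ((x i / 2) % 2) := fun i => by
        have := hp i; simp only [par] at *; omega
      rw [Finset.sum_int_mod, Finset.sum_congr rfl fun i _ => hx4 i, Finset.sum_add_distrib, Finset.sum_const,
        ← Finset.mul_sum]
      have h2 : (∑ i ∈ support₂ w, (x i / 2) % 2) % 2 = 0 := by
        rw [← Finset.sum_int_mod, ← zmod2_cast_eq_zero, Int.cast_sum]
        have h0 : ∑ i, w i * digit x i = 0 := golayCode_self_orthogonal hw hd
        refine Eq.trans ?_ h0
        rw [support₂, Finset.sum_filter]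
        refine Finset.sum_congr rfl fun i _ => ?_
        rcases (by decide : ∀ z : ZMod 2, z = 0 ∨ z = 1) (w i) with e | e <;> simp [e, digit]
      have hw4 := code_card hw
      rcases Int.emod_two_eq_zero_or_one (x none) with e | e <;>
        simp only [par, e, nsmul_eq_mul, mul_zero, mul_one] <;> omega
    omega

/-! ### A totally singular subgroup, and the index -/

theorem card_code : Nat.card golayCode = 4096 := by
  rw [← SetLike.coe_sort_coe, Nat.card_coe_set_eq,
    show (golayCode : Set (GolayPt → ZMod 2)) = word '' ↑codeList.toFinset from ?_, Set.InjOn.ncard_image,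
    Set.ncard_coe_finset, List.toFinset_card_of_nodup codeList_nodup]
  · decide +kernel
  · intro a ha b hb e
    rw [List.coe_toFinset, Set.mem_ofPred_eq] at ha hb
    exact eq_of_pts_eq (codeList_spec ha).1 (codeList_spec hb).1 (by rw [← support₂_word, e, support₂_word])
  · ext w
    simp only [SetLike.mem_coe, Set.mem_image, List.coe_toFinset, Set.mem_ofPred_eq]
    exact ⟨fun h => exists_codeList h, fun ⟨m, hm, e⟩ => e ▸ (codeList_spec hm).2⟩

/-- The code generated by the all-ones word. -/
def oneLine : Submodule (ZMod 2) (GolayPt → ZMod 2) := Submodule.span (ZMod 2) {1}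

/-- Parity and digit class. -/
def classHom : leechLattice →+ ZMod 2 × (golayCode ⧸ oneLine.comap golayCode.subtype) where
  toFun x := (((par (x : GolayPt → ℤ) : ℤ) : ZMod 2), Submodule.Quotient.mk ⟨digit x, (mem_iff.1 x.2).2.1⟩)
  map_zero' := by
    refine Prod.ext (by simp [par]) ?_
    refine (Submodule.Quotient.mk_eq_zero _).2 ?_
    show digit 0 ∈ oneLine
    rw [show digit (0 : GolayPt → ℤ) = 0 from funext fun _ => by simp [digit]]
    exact zero_mem _
  map_add' x y := by
    refine Prod.ext ?_ ?_
    · simp only [Prod.fst_add, ← Int.cast_add]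
      rw [← sub_eq_zero, ← Int.cast_sub, zmod2_cast_eq_zero]
      simp only [par, AddSubgroup.coe_add, Pi.add_apply]
      omega
    · simp only [Prod.snd_add, ← Submodule.Quotient.mk_add]
      rw [Submodule.Quotient.eq]
      refine Submodule.mem_span_singleton.2 ⟨((par (x : GolayPt → ℤ) * par (y : GolayPt → ℤ) : ℤ) : ZMod 2), ?_⟩
      funext i
      simp only [Submodule.subtype_apply, AddSubgroup.coe_add, AddSubgroupClass.coe_sub, Submodule.coe_sub,
        Submodule.coe_add, Pi.sub_apply, Pi.add_apply, Pi.smul_apply, Pi.one_apply, digit_add,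
        (mem_iff.1 x.2).1 i, (mem_iff.1 y.2).1 i]
      simp

theorem classHom_surjective : Function.Surjective classHom := by
  rintro ⟨a, q⟩
  obtain ⟨⟨w, hw⟩, rfl⟩ := Submodule.Quotient.mk_surjective _ q
  obtain ⟨m, hm, rfl⟩ := exists_codeList hw
  have hodd : digit oddVec ∈ golayCode := (mem_iff.1 oddVec_mem).2.1
  rcases (by decide : ∀ z : ZMod 2, z = 0 ∨ z = 1) a with rfl | rfl
  · refine ⟨⟨twoVec m, twoVec_mem hw⟩, Prod.ext ?_ ?_⟩
    · show ((par (twoVec m) : ℤ) : ZMod 2) = 0
      simp only [par, twoVec]; split_ifs <;> rfl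
    · exact congrArg Submodule.Quotient.mk (Subtype.ext (digit_twoVec m))
  · obtain ⟨m', hm', e⟩ := exists_codeList (add_mem hodd hw)
    refine ⟨⟨twoVec m' + oddVec, add_mem (twoVec_mem (codeList_spec hm').2) oddVec_mem⟩, Prod.ext ?_ ?_⟩
    · show ((par (twoVec m' + oddVec) : ℤ) : ZMod 2) = 1
      simp only [par, twoVec, Pi.add_apply]; split_ifs <;> rfl
    · refine congrArg Submodule.Quotient.mk (Subtype.ext (funext fun i => ?_))
      show digit (twoVec m' + oddVec) i = word m i
      have h2 : twoVec m' i % 2 = 0 := by simp only [twoVec]; split_ifs <;> rfl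
      rw [digit_add, digit_twoVec, h2, e]
      simp only [Pi.add_apply, zero_mul, Int.cast_zero, add_zero]
      rw [add_comm (digit oddVec i), add_assoc, CharTwo.add_self_eq_zero, add_zero]

theorem card_target : Nat.card (ZMod 2 × (golayCode ⧸ oneLine.comap golayCode.subtype)) = 2 ^ 12 := by
  have hone : Nat.card (oneLine.comap golayCode.subtype) = 2 := by
    have hle : oneLine ≤ golayCode := Submodule.span_le.2 (Set.singleton_subset_iff.2 one_mem)
    rw [Nat.card_congr (Submodule.comapSubtypeEquivOfLe hle).toEquiv]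
    have : (oneLine : Set (GolayPt → ZMod 2)) = {0, 1} := by
      ext w
      simp only [oneLine, SetLike.mem_coe, Submodule.mem_span_singleton, Set.mem_insert_iff, Set.mem_singleton_iff]
      constructor
      · rintro ⟨a, rfl⟩
        rcases (by decide : ∀ z : ZMod 2, z = 0 ∨ z = 1) a with e | e <;> simp [e]
      · rintro (rfl | rfl)
        · exact ⟨0, zero_smul _ _⟩
        · exact ⟨1, one_smul _ _⟩
    rw [← SetLike.coe_sort_coe, Nat.card_coe_set_eq, this, Set.ncard_pair]
    exact fun h => one_ne_zero (congrFun h none).symm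
  have h := Submodule.card_eq_card_quotient_mul_card (oneLine.comap golayCode.subtype)
  rw [card_code, hone] at h
  rw [Nat.card_prod, Nat.card_zmod]
  omega

theorem totally_singular : ∃ A : AddSubgroup (GolayPt → ℤ), A ≤ leechLattice ∧
    (∀ v ∈ leechLattice, (2 : ℤ) • v ∈ A) ∧ (A.addSubgroupOf leechLattice).index = 2 ^ 12 ∧
    ∀ v ∈ A, (32 : ℤ) ∣ sqNorm v := by
  have hle : classHom.ker.map leechLattice.subtype ≤ leechLattice := by
    rintro _ ⟨x, -, rfl⟩; exact x.2
  refine ⟨classHom.ker.map leechLattice.subtype, hle, fun v hv => ⟨(2 : ℤ) • ⟨v, hv⟩, ?_, rfl⟩, ?_, ?_⟩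
  · show classHom ((2 : ℤ) • ⟨v, hv⟩) = 0
    rw [map_zsmul, two_zsmul]
    refine Prod.ext (CharTwo.add_self_eq_zero _) ?_
    obtain ⟨q, hq⟩ := Submodule.Quotient.mk_surjective _ (classHom ⟨v, hv⟩).2
    rw [Prod.snd_add, ← hq, ← Submodule.Quotient.mk_add]
    refine (Submodule.Quotient.mk_eq_zero _).2 ?_
    rw [show q + q = 0 from Subtype.ext (funext fun i => CharTwo.add_self_eq_zero _)]
    exact zero_mem _
  · rw [AddSubgroup.addSubgroupOf, AddSubgroup.comap_map_eq_self_of_injective Subtype.val_injective,
      AddSubgroup.index_ker, AddMonoidHom.range_eq_top.2 classHom_surjective]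
    exact (Nat.card_congr AddSubgroup.topEquiv.toEquiv).trans card_target
  · rintro _ ⟨⟨x, hx⟩, hk, rfl⟩
    obtain ⟨hp, hd, hs⟩ := mem_iff.1 hx
    have hk1 : par x = 0 := by
      have := congrArg Prod.fst (hk : classHom ⟨x, hx⟩ = 0)
      rw [show (classHom ⟨x, hx⟩).1 = ((par x : ℤ) : ZMod 2) from rfl, Prod.fst_zero, zmod2_cast_eq_zero] at this
      simp only [par] at *; omega
    have hk2 : digit x = 0 ∨ digit x = 1 := by
      have h := congrArg Prod.snd (hk : classHom ⟨x, hx⟩ = 0)
      rw [show (classHom ⟨x, hx⟩).2 = Submodule.Quotient.mk ⟨digit x, hd⟩ from rfl, Prod.snd_zero,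
        Submodule.Quotient.mk_eq_zero] at h
      obtain ⟨a, ha⟩ := Submodule.mem_span_singleton.1 (show digit x ∈ oneLine from h)
      rcases (by decide : ∀ z : ZMod 2, z = 0 ∨ z = 1) a with e | e
      · exact Or.inl (by rw [← ha, e, zero_smul])
      · exact Or.inr (by rw [← ha, e, one_smul])
    -- halves all even with even sum of halves of halves, or all odd
    have hhalf : ∀ i, x i = 2 * (x i / 2) := fun i => by have := hp i; simp only [par] at *; omega
    have e4 : sqNorm x = 4 * ∑ i, (x i / 2) ^ 2 := by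
      rw [sqNorm, Finset.mul_sum]
      refine Finset.sum_congr rfl fun i _ => ?_
      conv_lhs => rw [hhalf i]
      ring
    show (32 : ℤ) ∣ sqNorm x
    have h8 : (∑ i, (x i / 2) ^ 2) % 8 = 0 := by
      rcases hk2 with h | h
      · have hq : ∀ i, x i / 2 = 2 * (x i / 2 / 2) := fun i => by
          have h' : ((x i / 2 : ℤ) : ZMod 2) = 0 := congrFun h i
          rw [zmod2_cast_eq_zero] at h'
          omega
        have hev : (∑ i, x i / 2 / 2) % 2 = 0 := by
          have : ∑ i, x i = 4 * ∑ i, x i / 2 / 2 := by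
            rw [Finset.mul_sum]
            exact Finset.sum_congr rfl fun i _ => by have := hhalf i; have := hq i; omega
          omega
        have hsq : ∑ i, (x i / 2) ^ 2 = 4 * ∑ i, (x i / 2 / 2) ^ 2 := by
          rw [Finset.mul_sum]
          refine Finset.sum_congr rfl fun i _ => ?_
          conv_lhs => rw [hq i]
          ring
        have hpar : (∑ i, (x i / 2 / 2) ^ 2) % 2 = (∑ i, x i / 2 / 2) % 2 := by
          rw [Finset.sum_int_mod, Finset.sum_int_mod (f := fun i => x i / 2 / 2)]
          congr 1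
          refine Finset.sum_congr rfl fun i _ => ?_
          rw [sq, Int.mul_emod]
          rcases Int.emod_two_eq_zero_or_one (x i / 2 / 2) with e | e <;> rw [e] <;> rfl
        omega
      · have : ∀ i, (x i / 2) ^ 2 % 8 = 1 := fun i => by
          have h' : ((x i / 2 : ℤ) : ZMod 2) = 1 := congrFun h i
          have hodd : (x i / 2) % 2 = 1 := by
            rcases Int.emod_two_eq_zero_or_one (x i / 2) with e | e
            · rw [(zmod2_cast_eq_zero _).2 e] at h'; exact absurd h' zero_ne_one
            · exact e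
          rw [sq, Int.mul_emod]
          rcases (by omega : (x i / 2) % 8 = 1 ∨ (x i / 2) % 8 = 3 ∨ (x i / 2) % 8 = 5 ∨ (x i / 2) % 8 = 7) with
            e | e | e | e <;> rw [e] <;> rfl
        rw [Finset.sum_int_mod, Finset.sum_congr rfl fun i _ => this i]
        decide +kernel
    omega

end CfsgLib.Spor.Leech
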