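/-
The lattice has index 2^36 among all integer vectors.
-/
import Cfsg.Agent.Lib.Spor.Leech.Span

namespace CfsgLib.Spor.Leech

open Cfsg

/-- Differences from the coordinate at the extra point, modulo two. -/
def parityHom : (GolayPt → ℤ) →+ ({p : GolayPt // p ≠ none} → ZMod 2) where
  toFun x p := ((x p.1 - x none : ℤ) : ZMod 2)
  map_zero' := by funext p; simp
  map_add' x y := by funext p; simp only [Pi.add_apply]; push_cast; ring

theorem mem_parityKer {x : GolayPt → ℤ} : x ∈ parityHom.ker ↔ ∀ i, x i % 2 = par x := by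
  rw [AddMonoidHom.mem_ker]
  constructor
  · intro h i
    rcases eq_or_ne i none with rfl | hi
    · rfl
    · have := congrFun h ⟨i, hi⟩
      rw [show parityHom x ⟨i, hi⟩ = ((x i - x none : ℤ) : ZMod 2) from rfl, Pi.zero_apply, zmod2_cast_eq_zero] at this
      simp only [par]; omega
  · intro h
    funext p
    rw [show parityHom x p = ((x p.1 - x none : ℤ) : ZMod 2) from rfl, Pi.zero_apply, zmod2_cast_eq_zero]
    have := h p.1
    simp only [par] at this
    omega

/-- The digit word modulo the code. -/
def digitHom : parityHom.ker →+ (GolayPt → ZMod 2) ⧸ golayCode where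
  toFun x := Submodule.Quotient.mk (digit x)
  map_zero' := by
    refine (Submodule.Quotient.mk_eq_zero _).2 ?_
    show digit 0 ∈ golayCode
    exact isLeech_zero.2.1
  map_add' x y := by
    rw [← Submodule.Quotient.mk_add, Submodule.Quotient.eq]
    have hx := mem_parityKer.1 x.2
    have hy := mem_parityKer.1 y.2
    have e : digit ((x + y : parityHom.ker) : GolayPt → ℤ) - (digit (x : GolayPt → ℤ) + digit (y : GolayPt → ℤ)) =
        ((par (x : GolayPt → ℤ) * par (y : GolayPt → ℤ) : ℤ) : ZMod 2) • 1 := by
      funext i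
      simp [digit_add, hx i, hy i]
    rw [e]
    exact Submodule.smul_mem _ _ one_mem

theorem mem_digitKer {x : parityHom.ker} : x ∈ digitHom.ker ↔ digit (x : GolayPt → ℤ) ∈ golayCode :=
  AddMonoidHom.mem_ker.trans (Submodule.Quotient.mk_eq_zero _)

theorem sum_mod_four {x : GolayPt → ℤ} (hp : ∀ i, x i % 2 = par x) (hd : digit x ∈ golayCode) :
    (∑ i, x i) % 4 = 0 := by
  have hx4 : ∀ i, x i % 4 = par x + 2 * ((x i / 2) % 2) := fun i => by
    have := hp i; simp only [par] at *; omega
  have h2 : (∑ i, (x i / 2) % 2) % 2 = 0 := by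
    rw [← Finset.sum_int_mod, ← zmod2_cast_eq_zero, Int.cast_sum]
    exact code_sum_zero hd
  rw [Finset.sum_int_mod, Finset.sum_congr rfl fun i _ => hx4 i, Finset.sum_add_distrib, Finset.sum_const,
    ← Finset.mul_sum, Finset.card_univ, show Fintype.card GolayPt = 24 by decide +kernel, nsmul_eq_mul]
  push_cast
  omega

/-- The half of the congruence on the coordinate sum that is left. -/
def sumHom : digitHom.ker →+ ZMod 2 where
  toFun x := (((∑ i, ((x : parityHom.ker) : GolayPt → ℤ) i) / 4 - par ((x : parityHom.ker) : GolayPt → ℤ) : ℤ) : ZMod 2)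
  map_zero' := by simp [par]
  map_add' := by
    intro a b
    rw [← Int.cast_add, ← sub_eq_zero, ← Int.cast_sub, zmod2_cast_eq_zero]
    have ha := sum_mod_four (mem_parityKer.1 (a : parityHom.ker).2) (mem_digitKer.1 a.2)
    have hb := sum_mod_four (mem_parityKer.1 (b : parityHom.ker).2) (mem_digitKer.1 b.2)
    simp only [par, AddSubgroup.coe_add, Pi.add_apply, Finset.sum_add_distrib]
    omega

theorem mem_sumKer {x : digitHom.ker} :
    x ∈ sumHom.ker ↔ ((x : parityHom.ker) : GolayPt → ℤ) ∈ leechLattice := by
  rw [AddMonoidHom.mem_ker, mem_iff]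
  refine (zmod2_cast_eq_zero _).trans ?_
  have h4 := sum_mod_four (mem_parityKer.1 (x : parityHom.ker).2) (mem_digitKer.1 x.2)
  refine ⟨fun h => ⟨mem_parityKer.1 (x : parityHom.ker).2, mem_digitKer.1 x.2, ?_⟩, fun h => ?_⟩
  · simp only [par] at *; omega
  · have := h.2.2; simp only [par] at *; omega

theorem index_leech : leechLattice.index = 2 ^ 36 := by
  have e1 : parityHom.ker.index = 2 ^ 23 := by
    have hs : Function.Surjective parityHom := fun f => by
      refine ⟨fun i => if h : i = none then 0 else (f ⟨i, h⟩).val, funext fun p => ?_⟩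
      show (((dite _ _ _ : ℤ)) - _ : ℤ) = f p
      simp [p.2]
    rw [AddSubgroup.index_ker, AddMonoidHom.range_eq_top.2 hs, Nat.card_congr AddSubgroup.topEquiv.toEquiv,
      Nat.card_fun, Nat.card_zmod,
      show Nat.card {p : GolayPt // p ≠ none} = 23 by rw [Nat.card_eq_fintype_card]; decide +kernel]
  have hPle : leechLattice ≤ parityHom.ker := fun x hx => mem_parityKer.2 (mem_iff.1 hx).1
  let D : AddSubgroup (GolayPt → ℤ) := digitHom.ker.map parityHom.ker.subtype
  have hLD : leechLattice ≤ D := fun x hx => ⟨⟨x, hPle hx⟩, mem_digitKer.2 (mem_iff.1 hx).2.1, rfl⟩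
  have hDP : D ≤ parityHom.ker := by rintro _ ⟨x, -, rfl⟩; exact x.2
  have e2 : D.relIndex parityHom.ker = 4096 := by
    have hs : Function.Surjective digitHom := fun q => by
      obtain ⟨w, rfl⟩ := Submodule.Quotient.mk_surjective _ q
      refine ⟨⟨twoVec (maskWord w), mem_parityKer.2 fun i => ?_⟩, congrArg Submodule.Quotient.mk ?_⟩
      · simp only [par, twoVec]; split_ifs <;> rfl
      · show digit (twoVec (maskWord w)) = w
        rw [digit_twoVec, word_maskWord]
    rw [AddSubgroup.relIndex, AddSubgroup.addSubgroupOf, AddSubgroup.comap_map_eq_self_of_injective Subtype.val_injective,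
      AddSubgroup.index_ker, AddMonoidHom.range_eq_top.2 hs, Nat.card_congr AddSubgroup.topEquiv.toEquiv]
    have h := Submodule.card_eq_card_quotient_mul_card golayCode
    rw [card_code, Nat.card_fun, Nat.card_zmod,
      show Nat.card GolayPt = 24 by rw [Nat.card_eq_fintype_card]; decide +kernel] at h
    omega
  have e3 : leechLattice.relIndex D = 2 := by
    have hs : Function.Surjective sumHom := fun a => by
      rcases (by decide : ∀ z : ZMod 2, z = 0 ∨ z = 1) a with rfl | rfl
      · exact ⟨0, map_zero _⟩
      · have hP : (Pi.single none 4 : GolayPt → ℤ) ∈ parityHom.ker := mem_parityKer.2 fun i => by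
          simp only [par, Pi.single_apply]; split_ifs <;> rfl
        refine ⟨⟨⟨_, hP⟩, mem_digitKer.2 ?_⟩, ?_⟩
        · rw [show digit (Pi.single none 4 : GolayPt → ℤ) = 0 from funext fun i => by
            simp only [digit, Pi.single_apply]; split_ifs <;> rfl]
          exact zero_mem _
        · show (((∑ i, (Pi.single none 4 : GolayPt → ℤ) i) / 4 - par (Pi.single none 4) : ℤ) : ZMod 2) = 1
          simp [par]
    let ι : digitHom.ker →+ (GolayPt → ℤ) := parityHom.ker.subtype.comp digitHom.ker.subtype
    have hι : Function.Injective ι := Subtype.val_injective.comp Subtype.val_injective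
    have hrange : ι.range = D := by
      ext x
      constructor
      · rintro ⟨a, rfl⟩; exact ⟨a.1, a.2, rfl⟩
      · rintro ⟨a, ha, rfl⟩; exact ⟨⟨a, ha⟩, rfl⟩
    have hker : leechLattice.comap ι = sumHom.ker := by
      ext a; rw [AddSubgroup.mem_comap, mem_sumKer]; rfl
    have h := leechLattice.index_comap ι
    rw [hker, hrange, AddSubgroup.index_ker, AddMonoidHom.range_eq_top.2 hs,
      Nat.card_congr AddSubgroup.topEquiv.toEquiv, Nat.card_zmod] at h
    exact h.symm
  rw [← AddSubgroup.relIndex_mul_index hPle, ← AddSubgroup.relIndex_mul_relIndex _ _ _ hLD hDP, e1, e2, e3]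
  norm_num

end CfsgLib.Spor.Leech
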