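/-
Shapes of short lattice vectors: magnitudes, signs, and how many vectors there are of each shape.
-/
import Cfsg.Agent.Lib.Spor.Leech.Span

namespace CfsgLib.Spor.Leech

open Cfsg

/-- The magnitude `a` on `A`, `b` on `B` and `r` elsewhere. -/
def mag (a b r : ℕ) (A B : Finset GolayPt) (i : GolayPt) : ℕ := if i ∈ A then a else if i ∈ B then b else r

/-- The vector with magnitudes `mag` and minus signs on `M`. -/
def mkVec (a b r : ℕ) (A B M : Finset GolayPt) : GolayPt → ℤ :=
  fun i => if i ∈ M then -(mag a b r A B i : ℤ) else (mag a b r A B i : ℤ)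

/-- The coordinates of absolute value `k`. -/
def lvl (x : GolayPt → ℤ) (k : ℕ) : Finset GolayPt := Finset.univ.filter fun i => (x i).natAbs = k

/-- Their number. -/
def cnt (x : GolayPt → ℤ) (k : ℕ) : ℕ := (lvl x k).card

/-- `p` coordinates of absolute value `a`, `q` of absolute value `b`, the rest of absolute value `r`. -/
def HasShape (a b r p q : ℕ) (x : GolayPt → ℤ) : Prop :=
  cnt x a = p ∧ cnt x b = q ∧ cnt x r = 24 - p - q ∧ p + q ≤ 24

theorem mem_lvl {x : GolayPt → ℤ} {k : ℕ} {i : GolayPt} : i ∈ lvl x k ↔ (x i).natAbs = k := by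
  rw [lvl, Finset.mem_filter]; simp

theorem natAbs_mkVec (a b r : ℕ) (A B M : Finset GolayPt) (i : GolayPt) :
    (mkVec a b r A B M i).natAbs = mag a b r A B i := by
  simp only [mkVec]; split_ifs <;> simp

theorem lvl_mkVec {a b r : ℕ} (hab : a ≠ b) (har : a ≠ r) (hbr : b ≠ r) {A B : Finset GolayPt} (h : Disjoint A B)
    (M : Finset GolayPt) :
    lvl (mkVec a b r A B M) a = A ∧ lvl (mkVec a b r A B M) b = B ∧ lvl (mkVec a b r A B M) r = (A ∪ B)ᶜ := by
  refine ⟨?_, ?_, ?_⟩ <;> ext i <;>
    simp only [mem_lvl, natAbs_mkVec, mag, Finset.mem_compl, Finset.mem_union] <;>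
    have hd : i ∈ A → i ∉ B := fun hA hB => Finset.disjoint_left.1 h hA hB <;>
    split_ifs with h1 h2 <;> simp_all [eq_comm]

theorem card_golayPt : Fintype.card GolayPt = 24 := by decide +kernel

theorem hasShape_mkVec {a b r p q : ℕ} (hab : a ≠ b) (har : a ≠ r) (hbr : b ≠ r) {A B : Finset GolayPt}
    (h : Disjoint A B) (hA : A.card = p) (hB : B.card = q) (M : Finset GolayPt) :
    HasShape a b r p q (mkVec a b r A B M) := by
  obtain ⟨e1, e2, e3⟩ := lvl_mkVec hab har hbr h M
  have hle : (A ∪ B).card ≤ 24 := card_golayPt ▸ Finset.card_le_univ _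
  rw [Finset.card_union_of_disjoint h, hA, hB] at hle
  refine ⟨by rw [cnt, e1, hA], by rw [cnt, e2, hB], ?_, hle⟩
  rw [cnt, e3, Finset.card_compl, Finset.card_union_of_disjoint h, card_golayPt, hA, hB]
  omega

theorem disjoint_lvl (x : GolayPt → ℤ) {a b : ℕ} (h : a ≠ b) : Disjoint (lvl x a) (lvl x b) :=
  Finset.disjoint_left.2 fun i hi hi' => h ((mem_lvl.1 hi).symm.trans (mem_lvl.1 hi'))

theorem eq_mkVec {a b r p q : ℕ} (hab : a ≠ b) (har : a ≠ r) (hbr : b ≠ r) {x : GolayPt → ℤ}
    (h : HasShape a b r p q x) :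
    x = mkVec a b r (lvl x a) (lvl x b) (Finset.univ.filter fun i => x i < 0) := by
  obtain ⟨h1, h2, h3, h4⟩ := h
  have hcov : lvl x a ∪ lvl x b ∪ lvl x r = Finset.univ := by
    refine Finset.eq_univ_of_card _ ?_
    rw [Finset.card_union_of_disjoint (Finset.disjoint_union_left.2 ⟨disjoint_lvl x har, disjoint_lvl x hbr⟩),
      Finset.card_union_of_disjoint (disjoint_lvl x hab), card_golayPt]
    simp only [cnt] at h1 h2 h3
    omega
  funext i
  have hi : i ∈ lvl x a ∪ lvl x b ∪ lvl x r := by rw [hcov]; exact Finset.mem_univ i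
  simp only [Finset.mem_union, mem_lvl] at hi
  have hmag : mag a b r (lvl x a) (lvl x b) i = (x i).natAbs := by
    simp only [mag, mem_lvl]
    split_ifs with ha hb <;> tauto
  simp only [mkVec, hmag, Finset.mem_filter, Finset.mem_univ, true_and]
  split_ifs <;> omega

/-- Counting one shape. -/
theorem ncard_shape {a b r p q : ℕ} (hab : a ≠ b) (har : a ≠ r) (hbr : b ≠ r) {ι : Type*} (Ps : Finset ι)
    (fA fB : ι → Finset GolayPt) (Ms : ι → Finset (Finset GolayPt)) (K : ℕ)
    (hinj : ∀ P ∈ Ps, ∀ P' ∈ Ps, fA P = fA P' → fB P = fB P' → P = P')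
    (hP : ∀ P ∈ Ps, Disjoint (fA P) (fB P) ∧ (fA P).card = p ∧ (fB P).card = q ∧ (Ms P).card = K)
    (hsound : ∀ P ∈ Ps, ∀ M ∈ Ms P,
      mkVec a b r (fA P) (fB P) M ∈ leechLattice ∧ ∀ i ∈ M, mag a b r (fA P) (fB P) i ≠ 0)
    (hcompl : ∀ A B M, Disjoint A B → A.card = p → B.card = q → (∀ i ∈ M, mag a b r A B i ≠ 0) →
      mkVec a b r A B M ∈ leechLattice → ∃ P ∈ Ps, fA P = A ∧ fB P = B ∧ M ∈ Ms P) :
    {x | x ∈ leechLattice ∧ HasShape a b r p q x}.Finite ∧
      {x | x ∈ leechLattice ∧ HasShape a b r p q x}.ncard = Ps.card * K := by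
  classical
  have e : {x | x ∈ leechLattice ∧ HasShape a b r p q x} =
      (fun z : (_ : ι) × Finset GolayPt => mkVec a b r (fA z.1) (fB z.1) z.2) '' ↑(Ps.sigma Ms) := by
    ext x
    simp only [Set.mem_ofPred_eq, Set.mem_image, Finset.coe_sigma, Set.mem_sigma_iff, Finset.mem_coe]
    constructor
    · rintro ⟨hx, hs⟩
      have ex := eq_mkVec hab har hbr hs
      obtain ⟨P, hP', eA, eB, hM⟩ := hcompl (lvl x a) (lvl x b) (Finset.univ.filter fun i => x i < 0)
        (disjoint_lvl x hab) hs.1 hs.2.1 (fun i hi h0 => by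
          have h0' := (natAbs_mkVec a b r (lvl x a) (lvl x b) (Finset.univ.filter fun i => x i < 0) i).trans h0
          rw [← ex] at h0'
          rw [Finset.mem_filter] at hi
          omega) (ex ▸ hx)
      exact ⟨⟨P, _⟩, ⟨hP', hM⟩, by simp only [eA, eB]; exact ex.symm⟩
    · rintro ⟨⟨P, M⟩, ⟨hP', hM⟩, rfl⟩
      exact ⟨(hsound P hP' M hM).1, hasShape_mkVec hab har hbr (hP P hP').1 (hP P hP').2.1 (hP P hP').2.2.1 M⟩
  have hinjOn : Set.InjOn (fun z : (_ : ι) × Finset GolayPt => mkVec a b r (fA z.1) (fB z.1) z.2)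
      ↑(Ps.sigma Ms) := by
    rintro ⟨P, M⟩ h ⟨P', M'⟩ h' eq
    simp only [Finset.coe_sigma, Set.mem_sigma_iff, Finset.mem_coe] at h h'
    have l := lvl_mkVec hab har hbr (hP P h.1).1 M
    have l' := lvl_mkVec hab har hbr (hP P' h'.1).1 M'
    simp only at eq
    rw [eq] at l
    obtain rfl := hinj P h.1 P' h'.1 (l.1.symm.trans l'.1) (l.2.1.symm.trans l'.2.1)
    congr 1
    ext i
    have hi := congrFun eq i
    simp only [mkVec] at hi
    constructor <;> intro hm <;> by_contra hn
    · rw [if_pos hm, if_neg hn] at hi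
      exact (hsound P h.1 M h.2).2 i hm (by omega)
    · rw [if_pos hm, if_neg hn] at hi
      exact (hsound P h.1 M' h'.2).2 i hm (by omega)
  refine ⟨e ▸ (Finset.finite_toSet _).image _, ?_⟩
  rw [e, hinjOn.ncard_image, Set.ncard_coe_finset, Finset.card_sigma,
    Finset.sum_congr rfl fun P h => (hP P h).2.2.2, Finset.sum_const, smul_eq_mul]

/-! ### Membership -/

theorem sum_mag (a b r : ℕ) {A B : Finset GolayPt} (h : Disjoint A B) :
    ∑ i, (mag a b r A B i : ℤ) = a * A.card + b * B.card + r * (24 - A.card - B.card : ℕ) := by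
  rw [← Finset.sum_add_sum_compl (A ∪ B), Finset.sum_union h]
  have e1 : ∀ i ∈ A, (mag a b r A B i : ℤ) = a := fun i hi => by simp [mag, hi]
  have e2 : ∀ i ∈ B, (mag a b r A B i : ℤ) = b := fun i hi => by
    simp [mag, hi, Finset.disjoint_right.1 h hi]
  have e3 : ∀ i ∈ (A ∪ B)ᶜ, (mag a b r A B i : ℤ) = r := fun i hi => by
    rw [Finset.mem_compl, Finset.mem_union, not_or] at hi
    simp [mag, hi.1, hi.2]
  rw [Finset.sum_congr rfl e1, Finset.sum_congr rfl e2, Finset.sum_congr rfl e3, Finset.sum_const, Finset.sum_const,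
    Finset.sum_const, Finset.card_compl, Finset.card_union_of_disjoint h, card_golayPt, nsmul_eq_mul, nsmul_eq_mul,
    nsmul_eq_mul, Nat.sub_add_eq]
  ring

theorem mkVec_empty (a b r : ℕ) (A B : Finset GolayPt) :
    mkVec a b r A B ∅ = fun i => (mag a b r A B i : ℤ) := by
  funext i; simp [mkVec]

theorem sum_mkVec (a b r : ℕ) (A B M : Finset GolayPt) :
    ∑ i, mkVec a b r A B M i = (∑ i, (mag a b r A B i : ℤ)) - 2 * ∑ i ∈ M, (mag a b r A B i : ℤ) := by
  have : ∀ i, mkVec a b r A B M i = (mag a b r A B i : ℤ) - 2 * (if i ∈ M then (mag a b r A B i : ℤ) else 0) :=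
    fun i => by simp only [mkVec]; split_ifs <;> ring
  rw [Finset.sum_congr rfl fun i _ => this i, Finset.sum_sub_distrib, ← Finset.mul_sum, Finset.sum_ite_mem,
    Finset.univ_inter]

theorem even_mem_iff {a b : ℕ} (ha : a % 2 = 0) (hb : b % 2 = 0) {A B : Finset GolayPt} (h : Disjoint A B)
    (M : Finset GolayPt) :
    mkVec a b 0 A B M ∈ leechLattice ↔
      (Finset.univ.filter fun i => mag a b 0 A B i % 4 = 2) ∈ supports (golayCode : Set (GolayPt → ZMod 2)) ∧
      ((a : ℤ) * A.card + b * B.card - 2 * ∑ i ∈ M, (mag a b 0 A B i : ℤ)) % 8 = 0 := by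
  have hev : ∀ i, mag a b 0 A B i % 2 = 0 := fun i => by simp only [mag]; split_ifs <;> omega
  have hpar : ∀ i, mkVec a b 0 A B M i % 2 = 0 := fun i => by
    have := hev i; simp only [mkVec]; split_ifs <;> omega
  have hp0 : par (mkVec a b 0 A B M) = 0 := hpar none
  have hsupp : support₂ (digit (mkVec a b 0 A B M)) = Finset.univ.filter fun i => mag a b 0 A B i % 4 = 2 := by
    ext i
    rw [support₂, Finset.mem_filter, Finset.mem_filter]
    simp only [digit, Finset.mem_univ, true_and, ne_eq, zmod2_cast_eq_zero]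
    have := hev i
    simp only [mkVec]
    split_ifs <;> omega
  rw [mem_iff, IsLeech, hp0, ← hsupp, mem_supports_support₂, sum_mkVec, sum_mag a b 0 h]
  simp [hpar]

theorem odd_mem_iff {A B : Finset GolayPt} (h : Disjoint A B) (hpq : (A.card + B.card) % 2 = 1)
    (M : Finset GolayPt) :
    mkVec 3 5 1 A B M ∈ leechLattice ↔ symmDiff A M ∈ supports (golayCode : Set (GolayPt → ZMod 2)) := by
  have hsupp : ∀ N, support₂ (digit (mkVec 3 5 1 A B N)) = symmDiff A N := fun N => by
    ext i
    rw [support₂, Finset.mem_filter, Finset.mem_symmDiff]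
    simp only [digit, Finset.mem_univ, true_and, ne_eq, zmod2_cast_eq_zero, mkVec, mag]
    by_cases hA : i ∈ A <;> by_cases hB : i ∈ B <;> by_cases hN : i ∈ N <;> simp [hA, hB, hN]
  constructor
  · intro hm
    rw [← hsupp M]
    exact mem_supports_support₂.2 (mem_iff.1 hm).2.1
  · intro hc
    have hbase : mkVec 3 5 1 A B A ∈ leechLattice := by
      have hpar : ∀ i, mkVec 3 5 1 A B A i % 2 = 1 := fun i => by
        simp only [mkVec, mag]; split_ifs <;> rfl
      refine mem_iff.2 ⟨fun i => (hpar i).trans (hpar none).symm, mem_supports_support₂.1 ?_, ?_⟩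
      · rw [hsupp, symmDiff_self]; exact Spor.empty_mem_supports_golayCode
      · rw [show par (mkVec 3 5 1 A B A) = 1 from hpar none, sum_mkVec, sum_mag 3 5 1 h]
        have e : ∑ i ∈ A, (mag 3 5 1 A B i : ℤ) = 3 * A.card := by
          rw [Finset.sum_congr rfl fun i hi => show (mag 3 5 1 A B i : ℤ) = 3 by simp [mag, hi], Finset.sum_const,
            nsmul_eq_mul]
          ring
        rw [e]
        have hle : A.card + B.card ≤ 24 := by
          rw [← Finset.card_union_of_disjoint h, ← card_golayPt]; exact Finset.card_le_univ _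
        omega
    have := sign_mem hc hbase
    convert this using 1
    funext i
    simp only [mkVec, Finset.mem_symmDiff]
    by_cases hA : i ∈ A <;> by_cases hM : i ∈ M <;> simp [hA, hM]

/-! ### Numbers of sign sets and position sets -/

theorem card_parity_subsets {S T : Finset GolayPt} (hT : T ⊆ S) {j : GolayPt} (hj : j ∈ T) (e : ℕ) :
    (S.powerset.filter fun M => (M ∩ T).card % 2 = e % 2).card = 2 ^ (S.card - 1) := by
  have hjS := hT hj
  rw [← Finset.card_erase_of_mem hjS, ← Finset.card_powerset]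
  refine Finset.card_bij' (fun M _ => M.erase j)
    (fun N _ => if (N ∩ T).card % 2 = e % 2 then N else insert j N) ?_ ?_ ?_ ?_
  · intro M hM
    rw [Finset.mem_filter, Finset.mem_powerset] at hM
    exact Finset.mem_powerset.2 (Finset.erase_subset_erase j hM.1)
  · intro N hN
    rw [Finset.mem_powerset] at hN
    rw [Finset.mem_filter, Finset.mem_powerset]
    split_ifs with hp
    · exact ⟨hN.trans (Finset.erase_subset j S), hp⟩
    · refine ⟨Finset.insert_subset hjS (hN.trans (Finset.erase_subset j S)), ?_⟩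
      have hjN : j ∉ N := fun hh => Finset.notMem_erase j S (hN hh)
      rw [Finset.insert_inter_of_mem hj, Finset.card_insert_of_notMem fun hh => hjN (Finset.mem_inter.1 hh).1]
      omega
  · intro M hM
    rw [Finset.mem_filter, Finset.mem_powerset] at hM
    by_cases hjM : j ∈ M
    · have hcard : ((M.erase j) ∩ T).card + 1 = (M ∩ T).card := by
        rw [Finset.erase_inter, Finset.card_erase_add_one (Finset.mem_inter.2 ⟨hjM, hj⟩)]
      rw [if_neg (by omega), Finset.insert_erase hjM]
    · rw [Finset.erase_eq_of_notMem hjM, if_pos hM.2]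
  · intro N hN
    rw [Finset.mem_powerset] at hN
    have hjN : j ∉ N := fun hh => Finset.notMem_erase j S (hN hh)
    split_ifs with hp
    · exact Finset.erase_eq_of_notMem hjN
    · exact Finset.erase_insert hjN

/-- Two disjoint position sets of given sizes. -/
def allPairs (p q : ℕ) : Finset ((_ : Finset GolayPt) × Finset GolayPt) :=
  (Finset.powersetCard p Finset.univ).sigma fun A => Finset.powersetCard q Aᶜ

theorem mem_allPairs {p q : ℕ} {P : (_ : Finset GolayPt) × Finset GolayPt} :
    P ∈ allPairs p q ↔ Disjoint P.1 P.2 ∧ P.1.card = p ∧ P.2.card = q := by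
  simp only [allPairs, Finset.mem_sigma, Finset.mem_powersetCard, Finset.subset_univ, true_and,
    Finset.subset_compl_iff_disjoint_left]
  tauto

theorem card_allPairs (p q : ℕ) : (allPairs p q).card = Nat.choose 24 p * Nat.choose (24 - p) q := by
  rw [allPairs, Finset.card_sigma, Finset.sum_congr rfl fun A hA => show (Finset.powersetCard q Aᶜ).card =
      Nat.choose (24 - p) q by
    rw [Finset.card_powersetCard, Finset.card_compl, card_golayPt, (Finset.mem_powersetCard.1 hA).2],
    Finset.sum_const, Finset.card_powersetCard, Finset.card_univ, card_golayPt, smul_eq_mul]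

/-- The supports of the code words of a given weight. -/
def wordSets (w : ℕ) : Finset (Finset GolayPt) := (codeList.filter fun m => pop 24 m == w).toFinset.image pts

theorem mem_wordSets {w : ℕ} {s : Finset GolayPt} :
    s ∈ wordSets w ↔ s ∈ supports (golayCode : Set (GolayPt → ZMod 2)) ∧ s.card = w := by
  have h := Set.ext_iff.1 (wordsOfWeight_eq w) s
  exact h.symm

/-- A word of weight `w` and `q` positions outside it. -/
def wordPairs (w q : ℕ) : Finset ((_ : Finset GolayPt) × Finset GolayPt) :=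
  (wordSets w).sigma fun A => Finset.powersetCard q Aᶜ

theorem mem_wordPairs {w q : ℕ} {P : (_ : Finset GolayPt) × Finset GolayPt} :
    P ∈ wordPairs w q ↔ Disjoint P.1 P.2 ∧ (P.1 ∈ supports (golayCode : Set (GolayPt → ZMod 2)) ∧ P.1.card = w) ∧
      P.2.card = q := by
  simp only [wordPairs, Finset.mem_sigma, mem_wordSets, Finset.mem_powersetCard,
    Finset.subset_compl_iff_disjoint_left]
  tauto

theorem card_wordPairs (w q N : ℕ) (hN : (codeList.filter fun m => pop 24 m == w).length = N) :
    (wordPairs w q).card = N * Nat.choose (24 - w) q := by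
  rw [wordPairs, Finset.card_sigma, Finset.sum_congr rfl fun A hA => show (Finset.powersetCard q Aᶜ).card =
      Nat.choose (24 - w) q by
    rw [Finset.card_powersetCard, Finset.card_compl, card_golayPt, (mem_wordSets.1 hA).2],
    Finset.sum_const, smul_eq_mul]
  congr 1
  rw [← Set.ncard_coe_finset, wordSets, ← wordsOfWeight_eq, ncard_wordsOfWeight, hN]

end CfsgLib.Spor.Leech
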