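/-
The numbers of lattice vectors of each short shape, and of norms 32, 48 and 64.
-/
import Cfsg.Agent.Lib.Spor.Leech.Shapes

namespace CfsgLib.Spor.Leech

open Cfsg

/-- The lattice vectors of a shape. -/
def shapeSet (a b r p q : ℕ) : Set (GolayPt → ℤ) := {x | x ∈ leechLattice ∧ HasShape a b r p q x}

theorem mag_ne_zero_iff {a b : ℕ} (ha : a ≠ 0) (hb : b ≠ 0) {A B : Finset GolayPt} {i : GolayPt} :
    mag a b 0 A B i ≠ 0 ↔ i ∈ A ∪ B := by
  simp only [mag, Finset.mem_union]; split_ifs <;> simp_all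

theorem sum_mag_sub (a b : ℕ) {A B M : Finset GolayPt} (h : Disjoint A B) (hM : M ⊆ A ∪ B) :
    ∑ i ∈ M, (mag a b 0 A B i : ℤ) = a * (M ∩ A).card + b * (M ∩ B).card := by
  have e : M = (M ∩ A) ∪ (M ∩ B) := by
    rw [← Finset.inter_union_distrib_left, Finset.inter_eq_left.2 hM]
  have hd : Disjoint (M ∩ A) (M ∩ B) := h.mono Finset.inter_subset_right Finset.inter_subset_right
  conv_lhs => rw [e]
  rw [Finset.sum_union hd,
    Finset.sum_congr rfl fun i hi => show (mag a b 0 A B i : ℤ) = a by simp [mag, (Finset.mem_inter.1 hi).2],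
    Finset.sum_congr rfl fun i hi => show (mag a b 0 A B i : ℤ) = b by
      have := (Finset.mem_inter.1 hi).2
      simp [mag, this, Finset.disjoint_right.1 h this],
    Finset.sum_const, Finset.sum_const, nsmul_eq_mul, nsmul_eq_mul]
  ring

/-- All coordinates divisible by four. -/
theorem count_quad {a b p : ℕ} (ha : a % 4 = 0) (hb : b % 4 = 0) (ha0 : a ≠ 0) (hb0 : b ≠ 0) (hab : a ≠ b)
    (h8 : a * p % 8 = 0) :
    (shapeSet a b 0 p 0).Finite ∧ (shapeSet a b 0 p 0).ncard = Nat.choose 24 p * 2 ^ p := by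
  have hfilt : ∀ A B : Finset GolayPt,
      (Finset.univ.filter fun i => mag a b 0 A B i % 4 = 2) = ∅ := fun A B =>
    Finset.filter_false_of_mem fun i _ => by simp only [mag]; split_ifs <;> simp [ha, hb]
  have h := ncard_shape (p := p) (q := 0) hab ha0 hb0 (allPairs p 0) (fun P => P.1) (fun P => P.2)
    (fun P => P.1.powerset) (2 ^ p)
    (fun P _ P' _ e e' => Sigma.ext e (heq_of_eq e')) (fun P hP => by
      obtain ⟨h1, h2, h3⟩ := mem_allPairs.1 hP
      exact ⟨h1, h2, h3, by rw [Finset.card_powerset, h2]⟩) (fun P hP M hM => by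
      obtain ⟨h1, h2, h3⟩ := mem_allPairs.1 hP
      have hM := Finset.mem_powerset.1 hM
      refine ⟨(even_mem_iff (by omega) (by omega) h1 M).2 ⟨?_, ?_⟩, fun i hi =>
        (mag_ne_zero_iff ha0 hb0).2 (Finset.mem_union_left _ (hM hi))⟩
      · rw [hfilt]; exact Spor.empty_mem_supports_golayCode
      · rw [sum_mag_sub a b h1 (hM.trans Finset.subset_union_left), h2, h3,
          show (M ∩ P.2) = ∅ by rw [Finset.card_eq_zero.1 h3, Finset.inter_empty]]
        obtain ⟨k, hk⟩ : 4 ∣ a := Nat.dvd_of_mod_eq_zero ha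
        obtain ⟨l, hl⟩ : 8 ∣ a * p := Nat.dvd_of_mod_eq_zero h8
        have hl' : (a : ℤ) * p = 8 * l := by exact_mod_cast hl
        rw [hl', hk]
        push_cast
        simp only [Finset.card_empty, Nat.cast_zero, mul_zero, add_zero]
        rw [show (8 : ℤ) * l - 2 * (4 * k * (M ∩ P.1).card) = 8 * (l - k * (M ∩ P.1).card) by ring]
        exact Int.mul_emod_right _ _) (fun A B M h hA hB hM _ => by
      refine ⟨⟨A, B⟩, mem_allPairs.2 ⟨h, hA, hB⟩, rfl, rfl, Finset.mem_powerset.2 fun i hi => ?_⟩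
      have := (mag_ne_zero_iff ha0 hb0).1 (hM i hi)
      rw [Finset.card_eq_zero.1 hB, Finset.union_empty] at this
      exact this)
  rw [card_allPairs] at h
  simpa [shapeSet] using h

/-- A word of weight `w` in magnitude 2 and `q` further coordinates of magnitude 4. -/
theorem count_word {w q N : ℕ} (hw : w % 2 = 0) (hw0 : 0 < w)
    (hN : (codeList.filter fun m => pop 24 m == w).length = N) :
    (shapeSet 2 4 0 w q).Finite ∧ (shapeSet 2 4 0 w q).ncard = N * Nat.choose (24 - w) q * 2 ^ (w + q - 1) := by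
  have hfilt : ∀ A B : Finset GolayPt, Disjoint A B →
      (Finset.univ.filter fun i => mag 2 4 0 A B i % 4 = 2) = A := fun A B h => by
    ext i
    rw [Finset.mem_filter]
    simp only [Finset.mem_univ, true_and, mag]
    split_ifs <;> simp_all
  have hcond : ∀ {A B M : Finset GolayPt}, Disjoint A B → M ⊆ A ∪ B → A.card = w → B.card = q →
      ((((2 : ℕ) : ℤ) * A.card + ((4 : ℕ) : ℤ) * B.card - 2 * ∑ i ∈ M, (mag 2 4 0 A B i : ℤ)) % 8 = 0 ↔
        (M ∩ A).card % 2 = (w / 2 + q) % 2) := fun {A B M} h hM hA hB => by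
    rw [sum_mag_sub 2 4 h hM, hA, hB]
    push_cast
    omega
  have h := ncard_shape (a := 2) (b := 4) (r := 0) (p := w) (q := q) (by norm_num) (by norm_num) (by norm_num)
    (wordPairs w q) (fun P => P.1) (fun P => P.2)
    (fun P => (P.1 ∪ P.2).powerset.filter fun M => (M ∩ P.1).card % 2 = (w / 2 + q) % 2) (2 ^ (w + q - 1))
    (fun P _ P' _ e e' => Sigma.ext e (heq_of_eq e')) (fun P hP => by
      obtain ⟨h1, ⟨-, h2⟩, h3⟩ := mem_wordPairs.1 hP
      obtain ⟨j, hj⟩ := Finset.card_pos.1 (by omega : 0 < P.1.card)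
      refine ⟨h1, h2, h3, ?_⟩
      rw [card_parity_subsets Finset.subset_union_left hj, Finset.card_union_of_disjoint h1, h2, h3])
    (fun P hP M hM => by
      obtain ⟨h1, ⟨hs, h2⟩, h3⟩ := mem_wordPairs.1 hP
      rw [Finset.mem_filter, Finset.mem_powerset] at hM
      refine ⟨(even_mem_iff (by norm_num) (by norm_num) h1 M).2 ⟨(hfilt _ _ h1).symm ▸ hs,
        (hcond h1 hM.1 h2 h3).2 hM.2⟩, fun i hi => (mag_ne_zero_iff (by norm_num) (by norm_num)).2 (hM.1 hi)⟩)
    (fun A B M h hA hB hM hmem => by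
      obtain ⟨hs, hsum⟩ := (even_mem_iff (by norm_num) (by norm_num) h M).1 hmem
      rw [hfilt A B h] at hs
      have hsub : M ⊆ A ∪ B := fun i hi => (mag_ne_zero_iff (by norm_num) (by norm_num)).1 (hM i hi)
      exact ⟨⟨A, B⟩, mem_wordPairs.2 ⟨h, ⟨hs, hA⟩, hB⟩, rfl, rfl,
        Finset.mem_filter.2 ⟨Finset.mem_powerset.2 hsub, (hcond h hsub hA hB).1 hsum⟩⟩)
  rw [card_wordPairs w q N hN] at h
  exact h

theorem card_octad_list : (codeList.filter fun m => pop 24 m == 8).length = 759 := by decide +kernel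
theorem card_dodecad_list : (codeList.filter fun m => pop 24 m == 12).length = 2576 := by decide +kernel
theorem card_sixteen_list : (codeList.filter fun m => pop 24 m == 16).length = 759 := by decide +kernel

theorem exists_pointed (w N : ℕ) (hN : (codeList.filter fun m => pop 24 m == w).length = N) :
    ∃ Ps : Finset ((_ : Finset GolayPt) × GolayPt),
      (∀ P, P ∈ Ps ↔ (P.1 ∈ supports (golayCode : Set (GolayPt → ZMod 2)) ∧ P.1.card = w) ∧ P.2 ∈ P.1) ∧
        Ps.card = N * w := by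
  refine ⟨(wordSets w).sigma fun o => o, fun P => by rw [Finset.mem_sigma, mem_wordSets], ?_⟩
  rw [Finset.card_sigma, Finset.sum_congr rfl fun o ho => (mem_wordSets.1 ho).2, Finset.sum_const, smul_eq_mul]
  congr 1
  rw [← Set.ncard_coe_finset, wordSets, ← wordsOfWeight_eq, ncard_wordsOfWeight, hN]

theorem count_six : (shapeSet 2 6 0 7 1).Finite ∧ (shapeSet 2 6 0 7 1).ncard = 759 * 8 * 128 := by
  have hfilt : ∀ A B : Finset GolayPt,
      (Finset.univ.filter fun i => mag 2 6 0 A B i % 4 = 2) = A ∪ B := fun A B => by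
    ext i
    rw [Finset.mem_filter, Finset.mem_union]
    simp only [Finset.mem_univ, true_and, mag]
    split_ifs <;> simp_all
  have hcond : ∀ {A B M : Finset GolayPt}, Disjoint A B → M ⊆ A ∪ B → A.card = 7 → B.card = 1 →
      ((((2 : ℕ) : ℤ) * A.card + ((6 : ℕ) : ℤ) * B.card - 2 * ∑ i ∈ M, (mag 2 6 0 A B i : ℤ)) % 8 = 0 ↔
        (M ∩ (A ∪ B)).card % 2 = 1 % 2) := fun {A B M} h hM hA hB => by
    rw [sum_mag_sub 2 6 h hM, hA, hB, Finset.inter_union_distrib_left,
      Finset.card_union_of_disjoint (h.mono Finset.inter_subset_right Finset.inter_subset_right)]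
    push_cast
    omega
  obtain ⟨Ps, hPs, hcard⟩ := exists_pointed 8 759 card_octad_list
  have h := ncard_shape (a := 2) (b := 6) (r := 0) (p := 7) (q := 1) (by norm_num) (by norm_num) (by norm_num)
    Ps (fun P => P.1.erase P.2) (fun P => {P.2})
    (fun P => P.1.powerset.filter fun M => (M ∩ P.1).card % 2 = 1 % 2) 128
    (fun P hP P' hP' e e' => by
      obtain ⟨o, j⟩ := P; obtain ⟨o', j'⟩ := P'
      obtain rfl : j = j' := Finset.singleton_injective e'
      have h1 : j ∈ o := ((hPs _).1 hP).2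
      have h2 : j ∈ o' := ((hPs _).1 hP').2
      have he : o.erase j = o'.erase j := e
      have : o = o' := by rw [← Finset.insert_erase h1, ← Finset.insert_erase h2, he]
      subst this; rfl)
    (fun P hP => by
      obtain ⟨⟨-, h8⟩, hj⟩ := (hPs P).1 hP
      refine ⟨Finset.disjoint_singleton_right.2 (Finset.notMem_erase _ _),
        by rw [Finset.card_erase_of_mem hj, h8], Finset.card_singleton _, ?_⟩
      rw [card_parity_subsets (Finset.Subset.refl _) hj, h8]; norm_num)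
    (fun P hP M hM => by
      obtain ⟨⟨hs, h8⟩, hj⟩ := (hPs P).1 hP
      have hu : P.1.erase P.2 ∪ {P.2} = P.1 := by rw [Finset.union_comm, ← Finset.insert_eq, Finset.insert_erase hj]
      rw [Finset.mem_filter, Finset.mem_powerset] at hM
      have hd : Disjoint (P.1.erase P.2) ({P.2} : Finset GolayPt) :=
        Finset.disjoint_singleton_right.2 (Finset.notMem_erase _ _)
      refine ⟨(even_mem_iff (by norm_num) (by norm_num) hd M).2 ⟨by rw [hfilt, hu]; exact hs, ?_⟩,
        fun i hi => (mag_ne_zero_iff (by norm_num) (by norm_num)).2 (by rw [hu]; exact hM.1 hi)⟩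
      refine (hcond hd (by rw [hu]; exact hM.1) (by rw [Finset.card_erase_of_mem hj, h8]) (Finset.card_singleton _)).2 ?_
      rw [hu]; exact hM.2)
    (fun A B M h hA hB hM hmem => by
      obtain ⟨hs, hsum⟩ := (even_mem_iff (by norm_num) (by norm_num) h M).1 hmem
      rw [hfilt] at hs
      obtain ⟨j, rfl⟩ := Finset.card_eq_one.1 hB
      have hsub : M ⊆ A ∪ {j} := fun i hi => (mag_ne_zero_iff (by norm_num) (by norm_num)).1 (hM i hi)
      have h8 : (A ∪ {j}).card = 8 := by rw [Finset.card_union_of_disjoint h, hA, hB]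
      refine ⟨⟨A ∪ {j}, j⟩, (hPs _).2 ⟨⟨hs, h8⟩, Finset.mem_union_right _ (Finset.mem_singleton_self j)⟩, ?_, rfl,
        Finset.mem_filter.2 ⟨Finset.mem_powerset.2 hsub, (hcond h hsub hA hB).1 hsum⟩⟩
      rw [Finset.union_comm, ← Finset.insert_eq, Finset.erase_insert (Finset.disjoint_singleton_right.1 h)])
  rw [hcard] at h
  exact h

/-- The odd shapes: `p` threes and `q` fives. -/
theorem count_odd {p q : ℕ} (hpq : (p + q) % 2 = 1) :
    (shapeSet 3 5 1 p q).Finite ∧
      (shapeSet 3 5 1 p q).ncard = Nat.choose 24 p * Nat.choose (24 - p) q * 4096 := by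
  have hC : (codeList.toFinset.image pts).card = 4096 := by
    rw [Finset.card_image_of_injOn, List.toFinset_card_of_nodup codeList_nodup]
    · decide +kernel
    · intro a ha b hb e
      simp only [List.coe_toFinset, Set.mem_ofPred_eq] at ha hb
      exact eq_of_pts_eq (codeList_spec ha).1 (codeList_spec hb).1 e
  have hmem : ∀ {s : Finset GolayPt}, s ∈ codeList.toFinset.image pts ↔
      s ∈ supports (golayCode : Set (GolayPt → ZMod 2)) := fun {s} => by
    rw [Finset.mem_image, mem_supports_iff]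
    simp only [List.mem_toFinset]
    refine ⟨fun ⟨m, hm, e⟩ => ?_, fun h => ⟨_, h, pts_maskPts s⟩⟩
    rwa [← e, maskPts_pts (codeList_spec hm).1]
  have h := ncard_shape (a := 3) (b := 5) (r := 1) (p := p) (q := q) (by norm_num) (by norm_num) (by norm_num)
    (allPairs p q) (fun P => P.1) (fun P => P.2)
    (fun P => (codeList.toFinset.image pts).image (symmDiff P.1)) 4096
    (fun P _ P' _ e e' => Sigma.ext e (heq_of_eq e')) (fun P hP => by
      obtain ⟨h1, h2, h3⟩ := mem_allPairs.1 hP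
      exact ⟨h1, h2, h3, by rw [Finset.card_image_of_injective _ (symmDiff_right_injective _), hC]⟩)
    (fun P hP M hM => by
      obtain ⟨h1, h2, h3⟩ := mem_allPairs.1 hP
      obtain ⟨c, hc, rfl⟩ := Finset.mem_image.1 hM
      refine ⟨(odd_mem_iff h1 (by omega) _).2 ?_, fun i _ => by simp only [mag]; split_ifs <;> norm_num⟩
      rw [← symmDiff_assoc, symmDiff_self, bot_symmDiff]
      exact hmem.1 hc)
    (fun A B M h hA hB _ hm => by
      refine ⟨⟨A, B⟩, mem_allPairs.2 ⟨h, hA, hB⟩, rfl, rfl, Finset.mem_image.2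
        ⟨symmDiff A M, hmem.2 ((odd_mem_iff h (by omega) M).1 hm), ?_⟩⟩
      show symmDiff A (symmDiff A M) = M
      rw [← symmDiff_assoc, symmDiff_self, bot_symmDiff])
  rw [card_allPairs] at h
  exact h

/-! ### Which shapes occur -/

theorem natAbs_le_eight {x : GolayPt → ℤ} (h : sqNorm x ≤ 64) (i : GolayPt) : (x i).natAbs < 9 := by
  have hle : x i ^ 2 ≤ sqNorm x :=
    Finset.single_le_sum (f := fun i => x i ^ 2) (fun j _ => sq_nonneg _) (Finset.mem_univ i)
  by_contra hbig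
  rcases (by omega : 9 ≤ x i ∨ x i ≤ -9) with h9 | h9 <;> nlinarith

theorem cnt_equations {x : GolayPt → ℤ} (h : sqNorm x ≤ 64) :
    cnt x 0 + cnt x 1 + cnt x 2 + cnt x 3 + cnt x 4 + cnt x 5 + cnt x 6 + cnt x 7 + cnt x 8 = 24 ∧
    sqNorm x = (cnt x 1 + 4 * cnt x 2 + 9 * cnt x 3 + 16 * cnt x 4 + 25 * cnt x 5 + 36 * cnt x 6 + 49 * cnt x 7 +
      64 * cnt x 8 : ℕ) := by
  have hmaps : ∀ i ∈ (Finset.univ : Finset GolayPt), (x i).natAbs ∈ Finset.range 9 := fun i _ =>
    Finset.mem_range.2 (natAbs_le_eight h i)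
  refine ⟨?_, ?_⟩
  · have := Finset.card_eq_sum_card_fiberwise hmaps
    rw [Finset.card_univ, card_golayPt] at this
    simp only [Finset.sum_range_succ, Finset.sum_range_zero, zero_add] at this
    exact this.symm
  · have h1 : sqNorm x = ∑ k ∈ Finset.range 9, ∑ i ∈ Finset.univ.filter (fun i => (x i).natAbs = k), x i ^ 2 :=
      (Finset.sum_fiberwise_of_maps_to hmaps _).symm
    have h2 : ∀ k, ∑ i ∈ Finset.univ.filter (fun i => (x i).natAbs = k), x i ^ 2 = ((k * k * cnt x k : ℕ) : ℤ) :=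
      fun k => by
        rw [Finset.sum_congr rfl fun i hi => show x i ^ 2 = ((k * k : ℕ) : ℤ) by
          rw [Finset.mem_filter] at hi
          rw [← hi.2, sq]
          push_cast
          exact (abs_mul_abs_self (x i)).symm,
          Finset.sum_const, nsmul_eq_mul, cnt, lvl]
        push_cast
        ring
    rw [h1, Finset.sum_congr rfl fun k _ => h2 k]
    simp only [Finset.sum_range_succ, Finset.sum_range_zero, zero_add]
    push_cast
    ring

theorem cnt_eq_zero {x : GolayPt → ℤ} {k : ℕ} (h : ∀ i, (x i).natAbs ≠ k) : cnt x k = 0 :=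
  Finset.card_eq_zero.2 (Finset.filter_false_of_mem fun i _ => h i)

theorem cnt_parity {x : GolayPt → ℤ} (hx : x ∈ leechLattice) :
    (cnt x 1 = 0 ∧ cnt x 3 = 0 ∧ cnt x 5 = 0 ∧ cnt x 7 = 0 ∧
      (sqNorm x ≤ 64 → cnt x 2 + cnt x 6 = 0 ∨ cnt x 2 + cnt x 6 = 8 ∨ cnt x 2 + cnt x 6 = 12 ∨
        cnt x 2 + cnt x 6 = 16 ∨ cnt x 2 + cnt x 6 = 24)) ∨
    (cnt x 0 = 0 ∧ cnt x 2 = 0 ∧ cnt x 4 = 0 ∧ cnt x 6 = 0 ∧ cnt x 8 = 0) := by
  obtain ⟨hp, hd, hs⟩ := mem_iff.1 hx
  rcases Int.emod_two_eq_zero_or_one (x none) with h | h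
  · left
    have he : ∀ i, x i % 2 = 0 := fun i => (hp i).trans h
    refine ⟨cnt_eq_zero fun i => ?_, cnt_eq_zero fun i => ?_, cnt_eq_zero fun i => ?_, cnt_eq_zero fun i => ?_,
      fun hn => ?_⟩
    iterate 4 (have := he i; omega)
    have e : support₂ (digit x) = lvl x 2 ∪ lvl x 6 := by
      ext i
      rw [support₂, Finset.mem_filter, Finset.mem_union, mem_lvl, mem_lvl]
      simp only [digit, Finset.mem_univ, true_and, ne_eq, zmod2_cast_eq_zero]
      have := he i
      have := natAbs_le_eight hn i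
      omega
    have := code_card hd
    rw [e, Finset.card_union_of_disjoint (disjoint_lvl x (by norm_num))] at this
    exact this
  · right
    have he : ∀ i, x i % 2 = 1 := fun i => (hp i).trans h
    refine ⟨cnt_eq_zero fun i => ?_, cnt_eq_zero fun i => ?_, cnt_eq_zero fun i => ?_, cnt_eq_zero fun i => ?_,
      cnt_eq_zero fun i => ?_⟩
    iterate 5 (have := he i; omega)

theorem not_three_fours {x : GolayPt → ℤ} (hx : x ∈ leechLattice) (h : HasShape 4 8 0 3 0 x) : False := by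
  have e := eq_mkVec (by norm_num) (by norm_num) (by norm_num) h
  rw [e] at hx
  obtain ⟨-, hsum⟩ := (even_mem_iff (by norm_num) (by norm_num) (disjoint_lvl x (by norm_num)) _).1 hx
  have h3 : (lvl x 4).card = 3 := h.1
  have h0 : (lvl x 8).card = 0 := h.2.1
  have h4 : ∀ i, mag 4 8 0 (lvl x 4) (lvl x 8) i % 4 = 0 := fun i => by simp only [mag]; split_ifs <;> rfl
  rw [h3, h0] at hsum
  have hm : (∑ i ∈ Finset.univ.filter fun i => x i < 0, (mag 4 8 0 (lvl x 4) (lvl x 8) i : ℤ)) % 4 = 0 := by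
    rw [Finset.sum_int_mod, Finset.sum_congr rfl fun i _ => show (mag 4 8 0 (lvl x 4) (lvl x 8) i : ℤ) % 4 = 0 by
      exact_mod_cast h4 i, Finset.sum_const_zero]
    rfl
  push_cast at hsum
  omega

theorem shape_norm {a b r p q : ℕ} (hab : a ≠ b) (har : a ≠ r) (hbr : b ≠ r) {x : GolayPt → ℤ}
    (h : HasShape a b r p q x) : sqNorm x = (a * a * p + b * b * q + r * r * (24 - p - q) : ℕ) := by
  obtain ⟨h1, h2, h3, h4⟩ := h
  have hcov : lvl x a ∪ lvl x b ∪ lvl x r = Finset.univ := by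
    refine Finset.eq_univ_of_card _ ?_
    rw [Finset.card_union_of_disjoint (Finset.disjoint_union_left.2 ⟨disjoint_lvl x har, disjoint_lvl x hbr⟩),
      Finset.card_union_of_disjoint (disjoint_lvl x hab), card_golayPt]
    simp only [cnt] at h1 h2 h3
    omega
  have h2' : ∀ k, ∑ i ∈ lvl x k, x i ^ 2 = ((k * k * cnt x k : ℕ) : ℤ) := fun k => by
    rw [Finset.sum_congr rfl fun i hi => show x i ^ 2 = ((k * k : ℕ) : ℤ) by
      rw [← mem_lvl.1 hi, sq]
      push_cast
      exact (abs_mul_abs_self (x i)).symm,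
      Finset.sum_const, nsmul_eq_mul, cnt]
    push_cast
    ring
  rw [sqNorm, ← hcov, Finset.sum_union (Finset.disjoint_union_left.2 ⟨disjoint_lvl x har, disjoint_lvl x hbr⟩),
    Finset.sum_union (disjoint_lvl x hab), h2', h2', h2', h1, h2, h3]
  push_cast
  ring

/-- The vectors of a shape have the norm of the shape. -/
theorem mem_shapeSet_norm {a b r p q : ℕ} (hab : a ≠ b) (har : a ≠ r) (hbr : b ≠ r) {x : GolayPt → ℤ}
    (h : x ∈ shapeSet a b r p q) {n : ℤ} (hn : ((a * a * p + b * b * q + r * r * (24 - p - q) : ℕ) : ℤ) = n) :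
    x ∈ leechLattice ∧ sqNorm x = n := ⟨h.1, (shape_norm hab har hbr h.2).trans hn⟩

theorem set32 : {x : GolayPt → ℤ | x ∈ leechLattice ∧ sqNorm x = 32} =
    shapeSet 4 8 0 2 0 ∪ shapeSet 2 4 0 8 0 ∪ shapeSet 3 5 1 1 0 := by
  ext x
  refine ⟨?_, ?_⟩
  · rintro ⟨hx, hn⟩
    obtain ⟨e1, e2⟩ := cnt_equations (x := x) (by omega)
    rw [hn] at e2
    norm_cast at e2
    simp only [shapeSet, Set.mem_union, Set.mem_ofPred_eq, HasShape, hx, true_and]
    rcases cnt_parity hx with ⟨h1, h3, h5, h7, hw⟩ | ⟨h0, h2, h4, h6, h8⟩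
    · simp only [h1, h3, h5, h7, mul_zero, zero_add, add_zero] at e1 e2  ⊢
      rcases hw (by omega) with hw | hw | hw | hw | hw <;> omega
    · simp only [h0, h2, h4, h6, h8, mul_zero, zero_add, add_zero] at e1 e2 ⊢
      omega
  · rintro ((h | h) | h) <;> exact mem_shapeSet_norm (by norm_num) (by norm_num) (by norm_num) h (by norm_num)

theorem set48 : {x : GolayPt → ℤ | x ∈ leechLattice ∧ sqNorm x = 48} =
    shapeSet 2 4 0 12 0 ∪ shapeSet 3 5 1 3 0 ∪ shapeSet 2 4 0 8 1 ∪ shapeSet 3 5 1 0 1 := by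
  ext x
  refine ⟨?_, ?_⟩
  · rintro ⟨hx, hn⟩
    obtain ⟨e1, e2⟩ := cnt_equations (x := x) (by omega)
    rw [hn] at e2
    norm_cast at e2
    have hno : ¬ HasShape 4 8 0 3 0 x := fun h => not_three_fours hx h
    simp only [shapeSet, Set.mem_union, Set.mem_ofPred_eq, HasShape, hx, true_and] at hno ⊢
    rcases cnt_parity hx with ⟨h1, h3, h5, h7, hw⟩ | ⟨h0, h2, h4, h6, h8⟩
    · simp only [h1, h3, h5, h7, mul_zero, zero_add, add_zero] at e1 e2 hno ⊢
      rcases hw (by omega) with hw | hw | hw | hw | hw <;> omega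
    · simp only [h0, h2, h4, h6, h8, mul_zero, zero_add, add_zero] at e1 e2 ⊢
      omega
  · rintro (((h | h) | h) | h) <;> exact mem_shapeSet_norm (by norm_num) (by norm_num) (by norm_num) h (by norm_num)

theorem set64 : {x : GolayPt → ℤ | x ∈ leechLattice ∧ sqNorm x = 64} =
    shapeSet 8 4 0 1 0 ∪ shapeSet 4 8 0 4 0 ∪ shapeSet 2 4 0 8 2 ∪ shapeSet 2 6 0 7 1 ∪ shapeSet 2 4 0 12 1 ∪
      shapeSet 2 4 0 16 0 ∪ shapeSet 3 5 1 5 0 ∪ shapeSet 3 5 1 2 1 := by
  ext x
  refine ⟨?_, ?_⟩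
  · rintro ⟨hx, hn⟩
    obtain ⟨e1, e2⟩ := cnt_equations (x := x) (by omega)
    rw [hn] at e2
    norm_cast at e2
    simp only [shapeSet, Set.mem_union, Set.mem_ofPred_eq, HasShape, hx, true_and]
    rcases cnt_parity hx with ⟨h1, h3, h5, h7, hw⟩ | ⟨h0, h2, h4, h6, h8⟩
    · simp only [h1, h3, h5, h7, mul_zero, zero_add, add_zero] at e1 e2  ⊢
      obtain h8 | h8 : cnt x 8 = 0 ∨ cnt x 8 = 1 := by omega
      all_goals obtain h6 | h6 : cnt x 6 = 0 ∨ cnt x 6 = 1 := by omega
      all_goals rcases hw (by omega) with hw | hw | hw | hw | hw <;> omega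
    · simp only [h0, h2, h4, h6, h8, mul_zero, zero_add, add_zero] at e1 e2 ⊢
      omega
  · rintro (((((((h | h) | h) | h) | h) | h) | h) | h) <;>
      exact mem_shapeSet_norm (by norm_num) (by norm_num) (by norm_num) h (by norm_num)

theorem disjoint_shapeSet {a b r p q a' b' r' p' q' : ℕ}
    (h : ∀ f : ℕ → ℕ, f a = p → f b = q → f r = 24 - p - q → f a' = p' → f b' = q' → f r' = 24 - p' - q' →
      (r ≠ r' → f r + f r' ≤ 24) → False) :
    Disjoint (shapeSet a b r p q) (shapeSet a' b' r' p' q') :=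
  Set.disjoint_left.2 fun x hx hx' => h (cnt x) hx.2.1 hx.2.2.1 hx.2.2.2.1 hx'.2.1 hx'.2.2.1 hx'.2.2.2.1 fun hr => by
    rw [cnt, cnt, ← Finset.card_union_of_disjoint (disjoint_lvl x hr), ← card_golayPt]
    exact Finset.card_le_univ _

theorem choose_values : Nat.choose 24 1 = 24 ∧ Nat.choose 24 2 = 276 ∧ Nat.choose 24 3 = 2024 ∧
    Nat.choose 24 4 = 10626 ∧ Nat.choose 24 5 = 42504 ∧ Nat.choose 16 1 = 16 ∧ Nat.choose 16 2 = 120 ∧
    Nat.choose 22 1 = 22 ∧ Nat.choose 12 1 = 12 := by decide +kernel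

theorem ncard32 : {x : GolayPt → ℤ | x ∈ leechLattice ∧ sqNorm x = 32}.ncard = 196560 := by
  have d12 : Disjoint (shapeSet 4 8 0 2 0) (shapeSet 2 4 0 8 0) := disjoint_shapeSet fun f => by intros; omega
  have d13 : Disjoint (shapeSet 4 8 0 2 0) (shapeSet 3 5 1 1 0) := disjoint_shapeSet fun f => by intros; omega
  have d23 : Disjoint (shapeSet 2 4 0 8 0) (shapeSet 3 5 1 1 0) := disjoint_shapeSet fun f => by intros; omega
  obtain ⟨f1, c1⟩ := count_quad (a := 4) (b := 8) (p := 2) rfl rfl (by norm_num) (by norm_num) (by norm_num) rfl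
  obtain ⟨f2, c2⟩ := count_word (w := 8) (q := 0) rfl (by norm_num) card_octad_list
  obtain ⟨f3, c3⟩ := count_odd (p := 1) (q := 0) rfl
  have g2 := f1.union f2
  rw [set32, Set.ncard_union_eq (Set.disjoint_union_left.2 ⟨d13, d23⟩) g2 f3,
    Set.ncard_union_eq d12 f1 f2,
    c1,
    c2,
    c3]
  norm_num [choose_values, Nat.choose_zero_right]

theorem ncard48 : {x : GolayPt → ℤ | x ∈ leechLattice ∧ sqNorm x = 48}.ncard = 16773120 := by
  have d12 : Disjoint (shapeSet 2 4 0 12 0) (shapeSet 3 5 1 3 0) := disjoint_shapeSet fun f => by intros; omega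
  have d13 : Disjoint (shapeSet 2 4 0 12 0) (shapeSet 2 4 0 8 1) := disjoint_shapeSet fun f => by intros; omega
  have d14 : Disjoint (shapeSet 2 4 0 12 0) (shapeSet 3 5 1 0 1) := disjoint_shapeSet fun f => by intros; omega
  have d23 : Disjoint (shapeSet 3 5 1 3 0) (shapeSet 2 4 0 8 1) := disjoint_shapeSet fun f => by intros; omega
  have d24 : Disjoint (shapeSet 3 5 1 3 0) (shapeSet 3 5 1 0 1) := disjoint_shapeSet fun f => by intros; omega
  have d34 : Disjoint (shapeSet 2 4 0 8 1) (shapeSet 3 5 1 0 1) := disjoint_shapeSet fun f => by intros; omega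
  obtain ⟨f1, c1⟩ := count_word (w := 12) (q := 0) rfl (by norm_num) card_dodecad_list
  obtain ⟨f2, c2⟩ := count_odd (p := 3) (q := 0) rfl
  obtain ⟨f3, c3⟩ := count_word (w := 8) (q := 1) rfl (by norm_num) card_octad_list
  obtain ⟨f4, c4⟩ := count_odd (p := 0) (q := 1) rfl
  have g2 := f1.union f2
  have g3 := g2.union f3
  rw [set48, Set.ncard_union_eq (Set.disjoint_union_left.2 ⟨(Set.disjoint_union_left.2 ⟨d14, d24⟩), d34⟩) g3 f4,
    Set.ncard_union_eq (Set.disjoint_union_left.2 ⟨d13, d23⟩) g2 f3,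
    Set.ncard_union_eq d12 f1 f2,
    c1,
    c2,
    c3,
    c4]
  norm_num [choose_values, Nat.choose_zero_right]

theorem ncard64 : {x : GolayPt → ℤ | x ∈ leechLattice ∧ sqNorm x = 64}.ncard = 398034000 := by
  have d12 : Disjoint (shapeSet 8 4 0 1 0) (shapeSet 4 8 0 4 0) := disjoint_shapeSet fun f => by intros; omega
  have d13 : Disjoint (shapeSet 8 4 0 1 0) (shapeSet 2 4 0 8 2) := disjoint_shapeSet fun f => by intros; omega
  have d14 : Disjoint (shapeSet 8 4 0 1 0) (shapeSet 2 6 0 7 1) := disjoint_shapeSet fun f => by intros; omega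
  have d15 : Disjoint (shapeSet 8 4 0 1 0) (shapeSet 2 4 0 12 1) := disjoint_shapeSet fun f => by intros; omega
  have d16 : Disjoint (shapeSet 8 4 0 1 0) (shapeSet 2 4 0 16 0) := disjoint_shapeSet fun f => by intros; omega
  have d17 : Disjoint (shapeSet 8 4 0 1 0) (shapeSet 3 5 1 5 0) := disjoint_shapeSet fun f => by intros; omega
  have d18 : Disjoint (shapeSet 8 4 0 1 0) (shapeSet 3 5 1 2 1) := disjoint_shapeSet fun f => by intros; omega
  have d23 : Disjoint (shapeSet 4 8 0 4 0) (shapeSet 2 4 0 8 2) := disjoint_shapeSet fun f => by intros; omega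
  have d24 : Disjoint (shapeSet 4 8 0 4 0) (shapeSet 2 6 0 7 1) := disjoint_shapeSet fun f => by intros; omega
  have d25 : Disjoint (shapeSet 4 8 0 4 0) (shapeSet 2 4 0 12 1) := disjoint_shapeSet fun f => by intros; omega
  have d26 : Disjoint (shapeSet 4 8 0 4 0) (shapeSet 2 4 0 16 0) := disjoint_shapeSet fun f => by intros; omega
  have d27 : Disjoint (shapeSet 4 8 0 4 0) (shapeSet 3 5 1 5 0) := disjoint_shapeSet fun f => by intros; omega
  have d28 : Disjoint (shapeSet 4 8 0 4 0) (shapeSet 3 5 1 2 1) := disjoint_shapeSet fun f => by intros; omega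
  have d34 : Disjoint (shapeSet 2 4 0 8 2) (shapeSet 2 6 0 7 1) := disjoint_shapeSet fun f => by intros; omega
  have d35 : Disjoint (shapeSet 2 4 0 8 2) (shapeSet 2 4 0 12 1) := disjoint_shapeSet fun f => by intros; omega
  have d36 : Disjoint (shapeSet 2 4 0 8 2) (shapeSet 2 4 0 16 0) := disjoint_shapeSet fun f => by intros; omega
  have d37 : Disjoint (shapeSet 2 4 0 8 2) (shapeSet 3 5 1 5 0) := disjoint_shapeSet fun f => by intros; omega
  have d38 : Disjoint (shapeSet 2 4 0 8 2) (shapeSet 3 5 1 2 1) := disjoint_shapeSet fun f => by intros; omega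
  have d45 : Disjoint (shapeSet 2 6 0 7 1) (shapeSet 2 4 0 12 1) := disjoint_shapeSet fun f => by intros; omega
  have d46 : Disjoint (shapeSet 2 6 0 7 1) (shapeSet 2 4 0 16 0) := disjoint_shapeSet fun f => by intros; omega
  have d47 : Disjoint (shapeSet 2 6 0 7 1) (shapeSet 3 5 1 5 0) := disjoint_shapeSet fun f => by intros; omega
  have d48 : Disjoint (shapeSet 2 6 0 7 1) (shapeSet 3 5 1 2 1) := disjoint_shapeSet fun f => by intros; omega
  have d56 : Disjoint (shapeSet 2 4 0 12 1) (shapeSet 2 4 0 16 0) := disjoint_shapeSet fun f => by intros; omega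
  have d57 : Disjoint (shapeSet 2 4 0 12 1) (shapeSet 3 5 1 5 0) := disjoint_shapeSet fun f => by intros; omega
  have d58 : Disjoint (shapeSet 2 4 0 12 1) (shapeSet 3 5 1 2 1) := disjoint_shapeSet fun f => by intros; omega
  have d67 : Disjoint (shapeSet 2 4 0 16 0) (shapeSet 3 5 1 5 0) := disjoint_shapeSet fun f => by intros; omega
  have d68 : Disjoint (shapeSet 2 4 0 16 0) (shapeSet 3 5 1 2 1) := disjoint_shapeSet fun f => by intros; omega
  have d78 : Disjoint (shapeSet 3 5 1 5 0) (shapeSet 3 5 1 2 1) := disjoint_shapeSet fun f => by intros; omega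
  obtain ⟨f1, c1⟩ := count_quad (a := 8) (b := 4) (p := 1) rfl rfl (by norm_num) (by norm_num) (by norm_num) rfl
  obtain ⟨f2, c2⟩ := count_quad (a := 4) (b := 8) (p := 4) rfl rfl (by norm_num) (by norm_num) (by norm_num) rfl
  obtain ⟨f3, c3⟩ := count_word (w := 8) (q := 2) rfl (by norm_num) card_octad_list
  obtain ⟨f4, c4⟩ := count_six
  obtain ⟨f5, c5⟩ := count_word (w := 12) (q := 1) rfl (by norm_num) card_dodecad_list
  obtain ⟨f6, c6⟩ := count_word (w := 16) (q := 0) rfl (by norm_num) card_sixteen_list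
  obtain ⟨f7, c7⟩ := count_odd (p := 5) (q := 0) rfl
  obtain ⟨f8, c8⟩ := count_odd (p := 2) (q := 1) rfl
  have g2 := f1.union f2
  have g3 := g2.union f3
  have g4 := g3.union f4
  have g5 := g4.union f5
  have g6 := g5.union f6
  have g7 := g6.union f7
  rw [set64, Set.ncard_union_eq (Set.disjoint_union_left.2 ⟨(Set.disjoint_union_left.2 ⟨(Set.disjoint_union_left.2 ⟨(Set.disjoint_union_left.2 ⟨(Set.disjoint_union_left.2 ⟨(Set.disjoint_union_left.2 ⟨d18, d28⟩), d38⟩), d48⟩), d58⟩), d68⟩), d78⟩) g7 f8,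
    Set.ncard_union_eq (Set.disjoint_union_left.2 ⟨(Set.disjoint_union_left.2 ⟨(Set.disjoint_union_left.2 ⟨(Set.disjoint_union_left.2 ⟨(Set.disjoint_union_left.2 ⟨d17, d27⟩), d37⟩), d47⟩), d57⟩), d67⟩) g6 f7,
    Set.ncard_union_eq (Set.disjoint_union_left.2 ⟨(Set.disjoint_union_left.2 ⟨(Set.disjoint_union_left.2 ⟨(Set.disjoint_union_left.2 ⟨d16, d26⟩), d36⟩), d46⟩), d56⟩) g5 f6,
    Set.ncard_union_eq (Set.disjoint_union_left.2 ⟨(Set.disjoint_union_left.2 ⟨(Set.disjoint_union_left.2 ⟨d15, d25⟩), d35⟩), d45⟩) g4 f5,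
    Set.ncard_union_eq (Set.disjoint_union_left.2 ⟨(Set.disjoint_union_left.2 ⟨d14, d24⟩), d34⟩) g3 f4,
    Set.ncard_union_eq (Set.disjoint_union_left.2 ⟨d13, d23⟩) g2 f3,
    Set.ncard_union_eq d12 f1 f2,
    c1,
    c2,
    c3,
    c4,
    c5,
    c6,
    c7,
    c8]
  norm_num [choose_values, Nat.choose_zero_right]

theorem census48 :
    {x : GolayPt → ℤ | x ∈ leechLattice ∧ sqNorm x = 48 ∧ ∀ i, x i = 0 ∨ x i = 2 ∨ x i = -2}.ncard = 5275648 ∧
    {x : GolayPt → ℤ | x ∈ leechLattice ∧ sqNorm x = 48 ∧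
      ∃ i j k, i ≠ j ∧ j ≠ k ∧ i ≠ k ∧ |x i| = 3 ∧ |x j| = 3 ∧ |x k| = 3}.ncard = 8290304 ∧
    {x : GolayPt → ℤ | x ∈ leechLattice ∧ sqNorm x = 48 ∧ ∃ i, |x i| = 4}.ncard = 3108864 ∧
    {x : GolayPt → ℤ | x ∈ leechLattice ∧ sqNorm x = 48 ∧ ∃ i, |x i| = 5}.ncard = 98304 := by
  have split : ∀ x, (x ∈ leechLattice ∧ sqNorm x = 48) ↔ x ∈ shapeSet 2 4 0 12 0 ∪ shapeSet 3 5 1 3 0 ∪
      shapeSet 2 4 0 8 1 ∪ shapeSet 3 5 1 0 1 := fun x => Set.ext_iff.1 set48 x
  have pos : ∀ {x : GolayPt → ℤ} {k : ℕ} {i : GolayPt}, |x i| = k → 1 ≤ cnt x k := fun {x k i} h =>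
    Finset.card_pos.2 ⟨i, mem_lvl.2 (by rw [Int.abs_eq_natAbs] at h; exact_mod_cast h)⟩
  have wit : ∀ {x : GolayPt → ℤ} {k : ℕ}, 1 ≤ cnt x k → ∃ i, |x i| = k := fun {x k} h => by
    obtain ⟨i, hi⟩ := Finset.card_pos.1 h
    exact ⟨i, by rw [mem_lvl] at hi; rw [Int.abs_eq_natAbs]; exact_mod_cast hi⟩
  have e1 : {x : GolayPt → ℤ | x ∈ leechLattice ∧ sqNorm x = 48 ∧ ∀ i, x i = 0 ∨ x i = 2 ∨ x i = -2} =
      shapeSet 2 4 0 12 0 := by
    ext x
    refine ⟨fun ⟨hx, hn, hi⟩ => ?_, fun h => ?_⟩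
    · have z : ∀ k, k ≠ 0 → k ≠ 2 → cnt x k = 0 := fun k h0 h2 => cnt_eq_zero fun i => by
        rcases hi i with e | e | e <;> rw [e] <;> omega
      have := z 4 (by norm_num) (by norm_num)
      have := z 3 (by norm_num) (by norm_num)
      have := z 5 (by norm_num) (by norm_num)
      rcases (split x).1 ⟨hx, hn⟩ with ((h | h) | h) | h
      · exact h
      all_goals (obtain ⟨h1, h2, -⟩ := h.2; omega)
    · obtain ⟨hx, hn⟩ := (split x).2 (Or.inl (Or.inl (Or.inl h)))
      refine ⟨hx, hn, fun i => ?_⟩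
      have e := eq_mkVec (by norm_num) (by norm_num) (by norm_num) h.2
      have hi := natAbs_mkVec 2 4 0 (lvl x 2) (lvl x 4) (Finset.univ.filter fun i => x i < 0) i
      rw [← e] at hi
      have h4 : lvl x 4 = ∅ := Finset.card_eq_zero.1 h.2.2.1
      simp only [mag, h4, Finset.notMem_empty, if_false] at hi
      split_ifs at hi <;> omega
  have e2 : {x : GolayPt → ℤ | x ∈ leechLattice ∧ sqNorm x = 48 ∧
      ∃ i j k, i ≠ j ∧ j ≠ k ∧ i ≠ k ∧ |x i| = 3 ∧ |x j| = 3 ∧ |x k| = 3} = shapeSet 3 5 1 3 0 := by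
    ext x
    refine ⟨fun ⟨hx, hn, i, j, k, _, _, _, hi, _, _⟩ => ?_, fun h => ?_⟩
    · have := pos (k := 3) (by exact_mod_cast hi)
      rcases (split x).1 ⟨hx, hn⟩ with ((h | h) | h) | h
      · obtain ⟨h1, h2, h3, -⟩ := h.2
        have := cnt_parity hx
        omega
      · exact h
      · have := cnt_parity hx
        obtain ⟨h1, h2, h3, -⟩ := h.2; omega
      · obtain ⟨h1, h2, h3, -⟩ := h.2; omega
    · obtain ⟨hx, hn⟩ := (split x).2 (Or.inl (Or.inl (Or.inr h)))
      obtain ⟨i, j, k, hij, hik, hjk, e⟩ := Finset.card_eq_three.1 h.2.1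
      have m : ∀ p ∈ lvl x 3, |x p| = 3 := fun p hp => by rw [mem_lvl] at hp; rw [Int.abs_eq_natAbs, hp]; rfl
      exact ⟨hx, hn, i, j, k, hij, hjk, hik, m i (by simp [e]), m j (by simp [e]), m k (by simp [e])⟩
  have e3 : {x : GolayPt → ℤ | x ∈ leechLattice ∧ sqNorm x = 48 ∧ ∃ i, |x i| = 4} = shapeSet 2 4 0 8 1 := by
    ext x
    refine ⟨fun ⟨hx, hn, i, hi⟩ => ?_, fun h => ?_⟩
    · have := pos (k := 4) (by exact_mod_cast hi)
      rcases (split x).1 ⟨hx, hn⟩ with ((h | h) | h) | h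
      · obtain ⟨h1, h2, h3, -⟩ := h.2; omega
      · have := cnt_parity hx
        obtain ⟨h1, h2, h3, -⟩ := h.2; omega
      · exact h
      · have := cnt_parity hx
        obtain ⟨h1, h2, h3, -⟩ := h.2; omega
    · obtain ⟨hx, hn⟩ := (split x).2 (Or.inl (Or.inr h))
      obtain ⟨i, hi⟩ := wit (x := x) (k := 4) (by rw [h.2.2.1])
      exact ⟨hx, hn, i, by exact_mod_cast hi⟩
  have e4 : {x : GolayPt → ℤ | x ∈ leechLattice ∧ sqNorm x = 48 ∧ ∃ i, |x i| = 5} = shapeSet 3 5 1 0 1 := by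
    ext x
    refine ⟨fun ⟨hx, hn, i, hi⟩ => ?_, fun h => ?_⟩
    · have := pos (k := 5) (by exact_mod_cast hi)
      rcases (split x).1 ⟨hx, hn⟩ with ((h | h) | h) | h
      · have := cnt_parity hx
        obtain ⟨h1, h2, h3, -⟩ := h.2; omega
      · obtain ⟨h1, h2, h3, -⟩ := h.2; omega
      · have := cnt_parity hx
        obtain ⟨h1, h2, h3, -⟩ := h.2; omega
      · exact h
    · obtain ⟨hx, hn⟩ := (split x).2 (Or.inr h)
      obtain ⟨i, hi⟩ := wit (x := x) (k := 5) (by rw [h.2.2.1])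
      exact ⟨hx, hn, i, by exact_mod_cast hi⟩
  rw [e1, e2, e3, e4, (count_word (w := 12) (q := 0) rfl (by norm_num) card_dodecad_list).2,
    (count_odd (p := 3) (q := 0) rfl).2, (count_word (w := 8) (q := 1) rfl (by norm_num) card_octad_list).2,
    (count_odd (p := 0) (q := 1) rfl).2]
  norm_num [choose_values, Nat.choose_zero_right]

end CfsgLib.Spor.Leech
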