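/-
Automorphisms of the lattice: signed permutations and one more involution.
-/
import Cfsg.Agent.Lib.Spor.Leech.Span
import Cfsg.Prelude.Def_SporadicCombinatorics

namespace CfsgLib.Spor.Leech

open Cfsg
open scoped Pointwise

/-- An automorphism from a norm preserving additive bijection of the lattice. -/
def mkAut (f g : leechLattice → leechLattice) (hfg : ∀ v, f (g v) = v) (hgf : ∀ v, g (f v) = v)
    (hadd : ∀ v w, f (v + w) = f v + f w)
    (hnorm : ∀ v, sqNorm ((f v : leechLattice) : GolayPt → ℤ) = sqNorm (v : GolayPt → ℤ)) : Co0 :=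
  ⟨⟨f, g, hgf, hfg⟩, hadd, hnorm⟩

theorem mkAut_smul (f g : leechLattice → leechLattice) (h1 h2 h3 h4) (v : leechLattice) :
    mkAut f g h1 h2 h3 h4 • v = f v := rfl

theorem co0_add (g : Co0) (v w : leechLattice) : g • (v + w) = g • v + g • w := g.2.1 v w

theorem co0_norm (g : Co0) (v : leechLattice) :
    sqNorm ((g • v : leechLattice) : GolayPt → ℤ) = sqNorm (v : GolayPt → ℤ) := g.2.2 v

/-! ### Signed permutations -/

theorem supports_symmDiff {c d : Finset GolayPt} (hc : c ∈ supports (golayCode : Set (GolayPt → ZMod 2)))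
    (hd : d ∈ supports (golayCode : Set (GolayPt → ZMod 2))) :
    symmDiff c d ∈ supports (golayCode : Set (GolayPt → ZMod 2)) := by
  obtain ⟨u, hu, rfl⟩ := hc
  obtain ⟨v, hv, rfl⟩ := hd
  refine ⟨u + v, add_mem hu hv, ?_⟩
  ext p
  simp only [support₂, Finset.mem_symmDiff, Finset.mem_filter, Finset.mem_univ, true_and, Pi.add_apply]
  generalize u p = a, v p = b
  revert a b; decide

theorem signedPerm_mem {σ : Equiv.Perm GolayPt} (hσ : σ ∈ M24) {c : Finset GolayPt}
    (hc : c ∈ supports (golayCode : Set (GolayPt → ZMod 2))) {x : GolayPt → ℤ} (hx : x ∈ leechLattice) :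
    signedPerm σ c x ∈ leechLattice :=
  sign_mem hc (perm_mem (M24.inv_mem hσ) hx)

theorem signedPerm_norm (σ : Equiv.Perm GolayPt) (c : Finset GolayPt) (x : GolayPt → ℤ) :
    sqNorm (signedPerm σ c x) = sqNorm x := by
  rw [sqNorm, sqNorm, ← Equiv.sum_comp σ.symm fun i => x i ^ 2]
  refine Finset.sum_congr rfl fun i _ => ?_
  simp only [signedPerm]; split_ifs <;> ring

theorem signedPerm_add (σ : Equiv.Perm GolayPt) (c : Finset GolayPt) (x y : GolayPt → ℤ) :
    signedPerm σ c (x + y) = signedPerm σ c x + signedPerm σ c y := by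
  funext i
  simp only [signedPerm, Pi.add_apply]; split_ifs <;> ring

theorem signedPerm_inverse (σ : Equiv.Perm GolayPt) (c : Finset GolayPt) (x : GolayPt → ℤ) :
    signedPerm σ c (signedPerm σ⁻¹ (σ⁻¹ • c) x) = x ∧ signedPerm σ⁻¹ (σ⁻¹ • c) (signedPerm σ c x) = x := by
  have hm : ∀ i, i ∈ σ⁻¹ • c ↔ σ i ∈ c := fun i => Finset.mem_inv_smul_finset_iff
  have hs : ∀ i, σ⁻¹.symm i = σ i := fun i => rfl
  constructor <;> funext i <;> simp only [signedPerm, hm, hs, Equiv.apply_symm_apply, Equiv.symm_apply_apply] <;>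
    split_ifs <;> simp

/-- The monomial automorphism. -/
def monoAut {σ : Equiv.Perm GolayPt} (hσ : σ ∈ M24) {c : Finset GolayPt}
    (hc : c ∈ supports (golayCode : Set (GolayPt → ZMod 2))) : Co0 :=
  mkAut (fun v => ⟨signedPerm σ c v, signedPerm_mem hσ hc v.2⟩)
    (fun v => ⟨signedPerm σ⁻¹ (σ⁻¹ • c) v, signedPerm_mem (M24.inv_mem hσ)
      (smul_mem_supports (M24.inv_mem hσ) hc) v.2⟩)
    (fun v => Subtype.ext (signedPerm_inverse σ c v).1) (fun v => Subtype.ext (signedPerm_inverse σ c v).2)
    (fun v w => Subtype.ext (signedPerm_add σ c v w)) (fun v => signedPerm_norm σ c v)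

theorem monoAut_smul {σ : Equiv.Perm GolayPt} (hσ : σ ∈ M24) {c : Finset GolayPt}
    (hc : c ∈ supports (golayCode : Set (GolayPt → ZMod 2))) (v : leechLattice) :
    ((monoAut hσ hc • v : leechLattice) : GolayPt → ℤ) = signedPerm σ c v := rfl

/-- Negation of all coordinates. -/
def negAut : Co0 := monoAut M24.one_mem Spor.univ_mem_supports_golayCode

theorem negAut_smul (v : leechLattice) : negAut • v = -v := by
  refine Subtype.ext (funext fun i => ?_)
  simp [negAut, monoAut_smul, signedPerm, Equiv.Perm.one_def]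

/-! ### The extra involution -/

/-- The masks of the six tetrads of the base sextet. -/
def tetrads : List ℕ := [147496, 268544, 1082880, 2621632, 4268048, 8388615]

/-- The mask of the tetrad through a point. -/
def tetradMask (i : GolayPt) : ℕ := (tetrads.find? fun m => m.testBit (ptIdx i)).getD 0

/-- Twice the extra involution. -/
def xiTwo (x : GolayPt → ℤ) (i : GolayPt) : ℤ :=
  (if tetradMask i = 147496 then -1 else 1) * (2 * x i - ∑ j ∈ pts (tetradMask i), x j)

/-- The extra involution. -/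
def xiVec (x : GolayPt → ℤ) (i : GolayPt) : ℤ := xiTwo x i / 2

theorem xiTwo_add (x y : GolayPt → ℤ) : xiTwo (x + y) = xiTwo x + xiTwo y := by
  funext i
  simp only [xiTwo, Pi.add_apply, Finset.sum_add_distrib]; ring

theorem tetrad_facts : (∀ i, i ∈ pts (tetradMask i)) ∧ (∀ i, (pts (tetradMask i)).card = 4) ∧
    ∀ i, ∀ j ∈ pts (tetradMask i), tetradMask j = tetradMask i := by
  refine ⟨by decide +kernel, by decide +kernel, by decide +kernel⟩

/-- The executable membership test. -/
def leechTest (x : GolayPt → ℤ) : Bool :=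
  decide (∀ i, x i % 2 = par x) && (codeTest (maskFn (fun i => decide (x (idxPt i) / 2 % 2 = 1)) 24) &&
    decide ((∑ i, x i) % 8 = 4 * par x))

theorem leechTest_spec {x : GolayPt → ℤ} (h : leechTest x = true) : x ∈ leechLattice := by
  simp only [leechTest, Bool.and_eq_true, decide_eq_true_eq] at h
  refine mem_iff.2 ⟨h.1, ?_, h.2.2⟩
  have e : digit x = word (maskFn (fun i => decide (x (idxPt i) / 2 % 2 = 1)) 24) := by
    funext p
    simp only [digit, word, testBit_maskFn, ptIdx_lt, idxPt_ptIdx, decide_true, Bool.true_and, decide_eq_true_eq]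
    rcases Int.emod_two_eq_zero_or_one (x p / 2) with h' | h'
    · rw [if_neg (by omega), (zmod2_cast_eq_zero _).2 h']
    · rw [if_pos h', show x p / 2 = 1 + 2 * (x p / 2 / 2) by omega]
      push_cast
      rw [show (2 : ZMod 2) = 0 from rfl, zero_mul, add_zero]
  rw [e]; exact (word_mem_golayCode_iff _).2 h.2.1

/-- The vectors with an integral image in the lattice. -/
def xiDom : AddSubgroup (GolayPt → ℤ) where
  carrier := {x | (∀ i, xiTwo x i % 2 = 0) ∧ xiVec x ∈ leechLattice}
  zero_mem' := by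
    have h0 : ∀ i, xiTwo 0 i = 0 := fun i => by simp [xiTwo]
    refine ⟨fun i => by rw [h0]; rfl, ?_⟩
    rw [show xiVec 0 = 0 from funext fun i => by simp [xiVec, h0]]
    exact zero_mem _
  add_mem' := by
    rintro x y ⟨hx, hx'⟩ ⟨hy, hy'⟩
    refine ⟨fun i => ?_, ?_⟩
    · have := hx i; have := hy i
      rw [xiTwo_add, Pi.add_apply]; omega
    · rw [show xiVec (x + y) = xiVec x + xiVec y from funext fun i => by
        have := hx i; have := hy i
        simp only [xiVec, xiTwo_add, Pi.add_apply]; omega]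
      exact add_mem hx' hy'
  neg_mem' := by
    rintro x ⟨hx, hx'⟩
    have hn : ∀ i, xiTwo (-x) i = -xiTwo x i := fun i => by
      simp only [xiTwo, Pi.neg_apply, Finset.sum_neg_distrib]; ring
    refine ⟨fun i => by have := hx i; rw [hn]; omega, ?_⟩
    rw [show xiVec (-x) = -xiVec x from funext fun i => by
      have := hx i; simp only [xiVec, hn, Pi.neg_apply]; omega]
    exact neg_mem hx'

/-- One generator passes. -/
def xiTest (x : GolayPt → ℤ) : Bool := decide (∀ i, xiTwo x i % 2 = 0) && leechTest (xiVec x)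

theorem xiTest_all : xiTest oddVec = true ∧ rows.all (fun r => xiTest (twoVec r)) = true ∧
    (∀ p, xiTest (fourVec p none) = true) := by
  refine ⟨by decide +kernel, by decide +kernel, by decide +kernel⟩

theorem mem_xiDom_of_test {x : GolayPt → ℤ} (h : xiTest x = true) : x ∈ xiDom := by
  simp only [xiTest, Bool.and_eq_true, decide_eq_true_eq] at h
  exact ⟨h.1, leechTest_spec h.2⟩

theorem leech_le_xiDom : leechLattice ≤ xiDom := by
  obtain ⟨h1, h2, h3⟩ := xiTest_all
  refine leech_le (mem_xiDom_of_test h1) (fun r hr => mem_xiDom_of_test (List.all_eq_true.1 h2 r hr)) fun p q => ?_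
  have e : fourVec p q = fourVec p none + fourVec q none - fourVec none none := by
    simp only [fourVec]; abel
  rw [e]
  exact sub_mem (add_mem (mem_xiDom_of_test (h3 p)) (mem_xiDom_of_test (h3 q))) (mem_xiDom_of_test (h3 none))

theorem xiTwo_sum (x : GolayPt → ℤ) (i : GolayPt) :
    ∑ j ∈ pts (tetradMask i), xiTwo x j =
      -((if tetradMask i = 147496 then -1 else 1) * 2 * ∑ j ∈ pts (tetradMask i), x j) := by
  obtain ⟨-, hc, he⟩ := tetrad_facts
  have e : ∀ j ∈ pts (tetradMask i), xiTwo x j = (if tetradMask i = 147496 then -1 else 1) *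
      (2 * x j - ∑ k ∈ pts (tetradMask i), x k) := fun j hj => by rw [xiTwo, he i j hj]
  rw [Finset.sum_congr rfl e, ← Finset.mul_sum, Finset.sum_sub_distrib, ← Finset.mul_sum, Finset.sum_const, hc,
    nsmul_eq_mul]
  push_cast
  ring

theorem xiVec_xiVec {x : GolayPt → ℤ} (hx : x ∈ leechLattice) : xiVec (xiVec x) = x := by
  funext i
  obtain ⟨h2, h3⟩ := leech_le_xiDom hx
  have key : ∀ j, xiTwo x j = 2 * xiVec x j := fun j => by have := h2 j; simp only [xiVec]; omega
  have hsum := xiTwo_sum x i
  rw [Finset.sum_congr rfl fun j _ => key j, ← Finset.mul_sum] at hsum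
  have hi : (if tetradMask i = 147496 then (-1 : ℤ) else 1) * (2 * x i - ∑ j ∈ pts (tetradMask i), x j) =
      2 * xiVec x i := key i
  show (if tetradMask i = 147496 then (-1 : ℤ) else 1) * (2 * xiVec x i - ∑ j ∈ pts (tetradMask i), xiVec x j) / 2 = _
  split_ifs at hi hsum ⊢ <;> omega

theorem xiVec_norm {x : GolayPt → ℤ} (hx : x ∈ leechLattice) : sqNorm (xiVec x) = sqNorm x := by
  obtain ⟨hmem, hc, he⟩ := tetrad_facts
  obtain ⟨h2, -⟩ := leech_le_xiDom hx
  have h4 : 4 * sqNorm (xiVec x) = 4 * sqNorm x := by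
    simp only [sqNorm, Finset.mul_sum]
    have e : ∀ j, 4 * xiVec x j ^ 2 = 4 * x j ^ 2 +
        ((∑ k ∈ pts (tetradMask j), x k) ^ 2 - 4 * x j * ∑ k ∈ pts (tetradMask j), x k) := fun j => by
      have hj : 2 * xiVec x j = xiTwo x j := by have := h2 j; simp only [xiVec]; omega
      rw [show 4 * xiVec x j ^ 2 = (2 * xiVec x j) ^ 2 by ring, hj]
      simp only [xiTwo]
      split_ifs <;> ring
    rw [Finset.sum_congr rfl fun j _ => e j, Finset.sum_add_distrib]
    refine add_eq_left.2 ?_
    have hmaps : ∀ j ∈ (Finset.univ : Finset GolayPt), tetradMask j ∈ Finset.univ.image tetradMask := fun j hj =>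
      Finset.mem_image_of_mem _ hj
    rw [← Finset.sum_fiberwise_of_maps_to hmaps]
    refine Finset.sum_eq_zero fun t ht => ?_
    obtain ⟨i, -, rfl⟩ := Finset.mem_image.1 ht
    have hf : (Finset.univ.filter fun j => tetradMask j = tetradMask i) = pts (tetradMask i) := by
      ext j
      rw [Finset.mem_filter]
      exact ⟨fun h => h.2 ▸ hmem j, fun h => ⟨Finset.mem_univ _, he i j h⟩⟩
    rw [hf, Finset.sum_congr rfl fun j hj => by rw [he i j hj], Finset.sum_sub_distrib, Finset.sum_const, hc,
      ← Finset.sum_mul, ← Finset.mul_sum, nsmul_eq_mul]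
    push_cast
    ring
  omega

/-- The extra involution as an automorphism. -/
def xiAut : Co0 :=
  mkAut (fun v => ⟨xiVec v, (leech_le_xiDom v.2).2⟩) (fun v => ⟨xiVec v, (leech_le_xiDom v.2).2⟩)
    (fun v => Subtype.ext (xiVec_xiVec v.2)) (fun v => Subtype.ext (xiVec_xiVec v.2))
    (fun v w => Subtype.ext (funext fun i => by
      have h1 := (leech_le_xiDom v.2).1 i
      have h2 := (leech_le_xiDom w.2).1 i
      simp only [AddSubgroup.coe_add, xiVec, xiTwo_add, Pi.add_apply]
      omega))
    (fun v => xiVec_norm v.2)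

theorem xiAut_smul (v : leechLattice) : ((xiAut • v : leechLattice) : GolayPt → ℤ) = xiVec v := rfl

/-- Additivity gives scalar multiples. -/
theorem co0_zsmul (g : Co0) (n : ℤ) (v : leechLattice) : g • (n • v) = n • (g • v) :=
  map_zsmul (AddMonoidHom.mk' (fun v : leechLattice => g • v) (co0_add g)) n v

theorem co0_neg (g : Co0) (v : leechLattice) : g • -v = -(g • v) :=
  map_neg (AddMonoidHom.mk' (fun v : leechLattice => g • v) (co0_add g)) v

theorem co0_dot (g : Co0) (v w : leechLattice) :
    dotInt ((g • v : leechLattice) : GolayPt → ℤ) ((g • w : leechLattice) : GolayPt → ℤ) =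
      dotInt (v : GolayPt → ℤ) (w : GolayPt → ℤ) := by
  have h := co0_norm g (v + w)
  rw [co0_add, AddSubgroup.coe_add, AddSubgroup.coe_add, sqNorm_add, sqNorm_add, co0_norm, co0_norm] at h
  omega

end CfsgLib.Spor.Leech
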