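/-
The permutation group of the code on pairs of position sets that occur as shapes of short vectors.
-/
import Cfsg.Agent.Lib.Spor.LevelFacts
import Cfsg.Agent.Lib.Spor.M12
import Cfsg.Agent.Lib.Spor.StabFacts

namespace CfsgLib.Spor.Leech

open Cfsg MulAction
open scoped Pointwise

theorem smul_compl_finset {G : Type*} [Group G] [MulAction G GolayPt] (g : G) (s : Finset GolayPt) :
    g • sᶜ = (g • s)ᶜ := by
  ext p; simp [← Finset.inv_smul_mem_iff]

/-- Some permutation of the code moves one pair of sets to the other. -/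
def Moves (A B A0 B0 : Finset GolayPt) : Prop := ∃ σ ∈ M24, σ • A = A0 ∧ σ • B = B0

theorem Moves.of_smul {A B A0 B0 : Finset GolayPt} (g : M24) (h1 : g • A = A0) (h2 : g • B = B0) :
    Moves A B A0 B0 := ⟨g, g.2, h1, h2⟩

theorem Moves.swap {A B A0 B0 : Finset GolayPt} (h : Moves A B A0 B0) : Moves B A B0 A0 := by
  obtain ⟨σ, hσ, h1, h2⟩ := h; exact ⟨σ, hσ, h2, h1⟩

theorem Moves.empty {A A0 B B0 : Finset GolayPt} (hB : B.card = 0) (hB0 : B0.card = 0) (g : M24)
    (h : g • A = A0) : Moves A B A0 B0 :=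
  .of_smul g h (by rw [Finset.card_eq_zero.1 hB, Finset.card_eq_zero.1 hB0]; exact Finset.smul_finset_empty g)

theorem move_small {p : ℕ} (hp : p ≤ 5) {A B A0 B0 : Finset GolayPt} (hA : A.card = p) (hB : B.card = 0)
    (hA0 : A0.card = p) (hB0 : B0.card = 0) : Moves A B A0 B0 := by
  obtain ⟨g, hg⟩ := exists_smul_of_card hp hA hA0
  exact .empty hB hB0 g hg

theorem move_two_one {A B A0 B0 : Finset GolayPt} (hd : Disjoint A B) (hA : A.card = 2) (hB : B.card = 1)
    (hd0 : Disjoint A0 B0) (hA0 : A0.card = 2) (hB0 : B0.card = 1) : Moves A B A0 B0 := by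
  have key : ∀ {A B : Finset GolayPt}, Disjoint A B → A.card = 2 → B.card = 1 →
      ∃ g : M24, g • ({bpt 0, bpt 1} : Finset GolayPt) = A ∧ g • ({bpt 2} : Finset GolayPt) = B := by
    intro A B hd hA hB
    obtain ⟨i, j, hij, rfl⟩ := Finset.card_eq_two.1 hA
    obtain ⟨k, rfl⟩ := Finset.card_eq_one.1 hB
    rw [Finset.disjoint_singleton_right, Finset.mem_insert, Finset.mem_singleton, not_or] at hd
    obtain ⟨g, hg⟩ := ordered_points (n := 3) (by norm_num) ![i, j, k] (by
      intro x y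
      fin_cases x <;> fin_cases y <;> simp [hij, hij.symm, hd.1, hd.2, Ne.symm hd.1, Ne.symm hd.2])
    have e0 : g • bpt 0 = i := hg 0
    have e1 : g • bpt 1 = j := hg 1
    have e2 : g • bpt 2 = k := hg 2
    exact ⟨g, by rw [Finset.smul_finset_insert, Finset.smul_finset_singleton, e0, e1],
      by rw [Finset.smul_finset_singleton, e2]⟩
  obtain ⟨g, rfl, rfl⟩ := key hd hA hB
  obtain ⟨h, rfl, rfl⟩ := key hd0 hA0 hB0
  exact .of_smul (h * g⁻¹) (by rw [mul_smul, inv_smul_smul]) (by rw [mul_smul, inv_smul_smul])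

theorem move_octad {A B A0 B0 : Finset GolayPt} (hA : A ∈ octads) (hB : B.card = 0) (hA0 : A0 ∈ octads)
    (hB0 : B0.card = 0) : Moves A B A0 B0 := by
  obtain ⟨g, h⟩ := exists_smul_octad hA hA0
  exact .empty hB hB0 g h

theorem move_dodecad {A B A0 B0 : Finset GolayPt} (hA : A ∈ dodecads) (hB : B.card = 0) (hA0 : A0 ∈ dodecads)
    (hB0 : B0.card = 0) : Moves A B A0 B0 := by
  obtain ⟨g, h⟩ := exists_smul_dodecad hA hA0
  exact .empty hB hB0 g h

theorem move_sixteen {A B A0 B0 : Finset GolayPt} (hA : Aᶜ ∈ octads) (hB : B.card = 0) (hA0 : A0ᶜ ∈ octads)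
    (hB0 : B0.card = 0) : Moves A B A0 B0 := by
  obtain ⟨g, h⟩ := exists_smul_octad hA hA0
  refine .empty hB hB0 g ?_
  rw [← compl_compl A0, ← h, smul_compl_finset, compl_compl]

theorem move_octad_out_one {A B A0 B0 : Finset GolayPt} (hd : Disjoint A B) (hA : A ∈ octads) (hB : B.card = 1)
    (hd0 : Disjoint A0 B0) (hA0 : A0 ∈ octads) (hB0 : B0.card = 1) : Moves A B A0 B0 := by
  obtain ⟨x, rfl⟩ := Finset.card_eq_one.1 hB
  obtain ⟨y, rfl⟩ := Finset.card_eq_one.1 hB0
  obtain ⟨g, hg⟩ := mem_orbit_ptOctOut hA (Finset.disjoint_singleton_right.1 hd)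
  obtain ⟨h, hh⟩ := mem_orbit_ptOctOut hA0 (Finset.disjoint_singleton_right.1 hd0)
  have e : (h * g⁻¹) • (x, A) = (y, A0) := by
    rw [mul_smul, show (x, A) = g • (idxPt 23, pts 5405696) from hg.symm, inv_smul_smul]; exact hh
  exact .of_smul _ (congrArg Prod.snd e) (by rw [Finset.smul_finset_singleton]; exact congrArg _ (congrArg Prod.fst e))

theorem move_octad_out_two {A B A0 B0 : Finset GolayPt} (hd : Disjoint A B) (hA : A ∈ octads) (hB : B.card = 2)
    (hd0 : Disjoint A0 B0) (hA0 : A0 ∈ octads) (hB0 : B0.card = 2) : Moves A B A0 B0 := by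
  have key : ∀ {A B : Finset GolayPt}, Disjoint A B → A ∈ octads → B.card = 2 →
      ∃ p q, B = {p, q} ∧ ((p, q), A) ∈ orbit M24 ((idxPt 23, idxPt 0), twoOctOrb.root 3) := by
    intro A B hd hA hB
    obtain ⟨p, q, hpq, rfl⟩ := Finset.card_eq_two.1 hB
    rw [Finset.disjoint_insert_right, Finset.disjoint_singleton_right] at hd
    refine ⟨p, q, rfl, twoOct_local.pair_mem_orbit (v := 0) (by decide +kernel) (mem_orbit_two hpq) hA ?_⟩
    simp [fTwo, has, hd.1, hd.2]
  obtain ⟨p, q, rfl, g, hg⟩ := key hd hA hB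
  obtain ⟨p', q', rfl, h, hh⟩ := key hd0 hA0 hB0
  have e : (h * g⁻¹) • ((p, q), A) = ((p', q'), A0) := by
    rw [mul_smul, show ((p, q), A) = g • ((idxPt 23, idxPt 0), twoOctOrb.root 3) from hg.symm, inv_smul_smul]
    exact hh
  refine .of_smul _ (congrArg Prod.snd e) ?_
  rw [Finset.smul_finset_insert, Finset.smul_finset_singleton, show (h * g⁻¹) • p = p' from
    congrArg (fun z => z.1.1) e, show (h * g⁻¹) • q = q' from congrArg (fun z => z.1.2) e]

theorem move_pointed_octad {A B A0 B0 : Finset GolayPt} (hd : Disjoint A B) (hA : A ∪ B ∈ octads) (hB : B.card = 1)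
    (hd0 : Disjoint A0 B0) (hA0 : A0 ∪ B0 ∈ octads) (hB0 : B0.card = 1) : Moves A B A0 B0 := by
  obtain ⟨x, rfl⟩ := Finset.card_eq_one.1 hB
  obtain ⟨y, rfl⟩ := Finset.card_eq_one.1 hB0
  obtain ⟨g, hg⟩ := mem_orbit_ptOctIn hA (Finset.mem_union_right _ (Finset.mem_singleton_self x))
  obtain ⟨h, hh⟩ := mem_orbit_ptOctIn hA0 (Finset.mem_union_right _ (Finset.mem_singleton_self y))
  have e : (h * g⁻¹) • (x, A ∪ {x}) = (y, A0 ∪ {y}) := by
    rw [mul_smul, show (x, A ∪ {x}) = g • (idxPt 23, pts 14919680) from hg.symm, inv_smul_smul]; exact hh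
  have e1 : (h * g⁻¹) • ({x} : Finset GolayPt) = {y} := by
    rw [Finset.smul_finset_singleton]; exact congrArg _ (congrArg Prod.fst e)
  refine .of_smul _ ?_ e1
  have e2 : (h * g⁻¹) • (A ∪ {x}) = A0 ∪ {y} := congrArg Prod.snd e
  have s : ∀ {A : Finset GolayPt} {x : GolayPt}, Disjoint A {x} → (A ∪ {x}) \ {x} = A := fun hd =>
    (Finset.union_sdiff_right _ _).trans (Finset.sdiff_eq_self_of_disjoint hd)
  rw [← s hd, Finset.smul_finset_sdiff, e1, e2, s hd0]

theorem move_dodecad_out {A B A0 B0 : Finset GolayPt} (hd : Disjoint A B) (hA : A ∈ dodecads) (hB : B.card = 1)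
    (hd0 : Disjoint A0 B0) (hA0 : A0 ∈ dodecads) (hB0 : B0.card = 1) : Moves A B A0 B0 := by
  obtain ⟨x, rfl⟩ := Finset.card_eq_one.1 hB
  obtain ⟨y, rfl⟩ := Finset.card_eq_one.1 hB0
  obtain ⟨g, rfl⟩ := exists_smul_dodecad hA hA0
  have hgA : g • A ∈ dodecads := hA0
  have hx : g • x ∈ (g • A)ᶜ := by
    rw [Finset.mem_compl, smul_mem_pts_iff]; exact Finset.disjoint_singleton_right.1 hd
  have hy : y ∈ (g • A)ᶜ := by rw [Finset.mem_compl]; exact Finset.disjoint_singleton_right.1 hd0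
  obtain ⟨h, hh, hfix, he⟩ := exists_mem_stabilizer_map_point (compl_mem_dodecads hgA) hx hy
  have hfix' : h • (g • A) = g • A := by
    rw [smul_compl_finset] at hfix; exact compl_injective hfix
  refine ⟨h * (g : Equiv.Perm GolayPt), M24.mul_mem hh g.2, by rw [mul_smul]; exact hfix', ?_⟩
  rw [Finset.smul_finset_singleton]
  exact congrArg _ he

end CfsgLib.Spor.Leech
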