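/-
Monomial automorphisms moving short vectors of one shape to representatives.
-/
import Cfsg.Agent.Lib.Spor.Leech.Monomial
import Cfsg.Agent.Lib.Spor.Leech.Count
import Cfsg.Agent.Lib.Spor.Leech.MoveSets

namespace CfsgLib.Spor.Leech

open Cfsg
open scoped Pointwise

/-- The support of a code word given by a mask. -/
theorem pts_supports {m : ℕ} (h : codeTest m = true) : pts m ∈ supports (golayCode : Set (GolayPt → ZMod 2)) :=
  ⟨word m, (word_mem_golayCode_iff m).2 h, support₂_word m⟩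

theorem pts_octad {m : ℕ} (h : (codeTest m && pop 24 m == 8) = true) : pts m ∈ octads := by
  rw [Bool.and_eq_true, beq_iff_eq] at h
  exact ⟨pts_supports h.1, (card_pts m).trans h.2⟩

theorem pts_dodecad {m : ℕ} (h : (codeTest m && pop 24 m == 12) = true) : pts m ∈ dodecads := by
  rw [Bool.and_eq_true, beq_iff_eq] at h
  exact ⟨pts_supports h.1, (card_pts m).trans h.2⟩

theorem pts_xor_eq (a b : ℕ) : pts (a ^^^ b) = symmDiff (pts a) (pts b) := by
  ext p
  simp only [mem_pts, Finset.mem_symmDiff, Nat.testBit_xor]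
  cases a.testBit (ptIdx p) <;> cases b.testBit (ptIdx p) <;> simp

theorem pts_zero_eq : pts 0 = ∅ := by
  ext p; simp [mem_pts]

theorem pts_and_eq (a b : ℕ) : pts (a &&& b) = pts a ∩ pts b := by
  ext p; simp [mem_pts, Nat.testBit_and]

theorem lvl_signedPerm (σ : Equiv.Perm GolayPt) (c : Finset GolayPt) (x : GolayPt → ℤ) (k : ℕ) :
    lvl (signedPerm σ c x) k = σ • lvl x k := by
  ext i
  rw [← Finset.inv_smul_mem_iff, mem_lvl, mem_lvl]
  simp only [signedPerm]
  split_ifs <;> simp [Equiv.Perm.smul_def, Equiv.Perm.inv_def]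

/-- A monomial automorphism. -/
def IsMono (g : Co0) : Prop :=
  ∃ σ, ∃ hσ : σ ∈ M24, ∃ c, ∃ hc : c ∈ supports (golayCode : Set (GolayPt → ZMod 2)), g = monoAut hσ hc

/-- A vector of a shape is moved to given position sets. -/
theorem exists_moved {a b r p q : ℕ} (hab : a ≠ b) (har : a ≠ r) (hbr : b ≠ r) {x : leechLattice}
    (hx : (x : GolayPt → ℤ) ∈ shapeSet a b r p q) {A0 B0 : Finset GolayPt}
    (h : Moves (lvl (x : GolayPt → ℤ) a) (lvl (x : GolayPt → ℤ) b) A0 B0) :
    ∃ g : Co0, IsMono g ∧ ∃ M, ((g • x : leechLattice) : GolayPt → ℤ) = mkVec a b r A0 B0 M := by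
  obtain ⟨σ, hσ, h1, h2⟩ := h
  refine ⟨monoAut hσ Spor.empty_mem_supports_golayCode,
    ⟨σ, hσ, ∅, _, rfl⟩, Finset.univ.filter fun i => signedPerm σ ∅ (x : GolayPt → ℤ) i < 0, ?_⟩
  rw [monoAut_smul]
  have hs : HasShape a b r p q (signedPerm σ ∅ (x : GolayPt → ℤ)) := by
    obtain ⟨e1, e2, e3, e4⟩ := hx.2
    refine ⟨?_, ?_, ?_, e4⟩ <;> rw [cnt, lvl_signedPerm, card_smul_finset'] <;> assumption
  rw [← h1, ← h2, ← lvl_signedPerm σ ∅, ← lvl_signedPerm σ ∅]
  exact eq_mkVec hab har hbr hs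

theorem signedPerm_one_mkVec (a b r : ℕ) (A B M c : Finset GolayPt) :
    signedPerm 1 c (mkVec a b r A B M) = mkVec a b r A B (symmDiff M c) := by
  funext i
  have e : (1 : Equiv.Perm GolayPt).symm i = i := rfl
  simp only [signedPerm, e, mkVec, Finset.mem_symmDiff]
  by_cases hc : i ∈ c <;> by_cases hm : i ∈ M <;> simp [hc, hm]

theorem mkVec_congr {a b : ℕ} {A B M M' : Finset GolayPt} (h : ∀ i ∈ A ∪ B, (i ∈ M ↔ i ∈ M')) :
    mkVec a b 0 A B M = mkVec a b 0 A B M' := by
  funext i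
  by_cases hi : i ∈ A ∪ B
  · simp only [mkVec, h i hi]
  · rw [Finset.mem_union, not_or] at hi
    simp [mkVec, mag, hi.1, hi.2]

/-! ### Sign sets modulo the code -/

/-- `D` agrees on `S` with a code word changed by one of the listed classes. -/
def SignOK (S : Finset GolayPt) (Rs : List ℕ) (D : Finset GolayPt) : Prop :=
  ∃ R ∈ Rs, ∃ c ∈ supports (golayCode : Set (GolayPt → ZMod 2)), c ∩ S = symmDiff D (pts R) ∩ S

theorem SignOK.add {S : Finset GolayPt} {Rs : List ℕ} (hRs : ∀ R ∈ Rs, ∀ R' ∈ Rs, R ^^^ R' ∈ Rs)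
    {D D' : Finset GolayPt} (h : SignOK S Rs D) (h' : SignOK S Rs D') : SignOK S Rs (symmDiff D D') := by
  obtain ⟨R, hR, c, hc, e⟩ := h
  obtain ⟨R', hR', c', hc', e'⟩ := h'
  refine ⟨R ^^^ R', hRs R hR R' hR', symmDiff c c', supports_symmDiff hc hc', ?_⟩
  ext i
  have hi := Finset.ext_iff.1 e i
  have hi' := Finset.ext_iff.1 e' i
  simp only [Finset.mem_inter, Finset.mem_symmDiff, pts_xor_eq] at hi hi' ⊢
  tauto

/-- The generator of the admissible sign changes at an index. -/
def signUnit (T j0 i : ℕ) : ℕ := 2 ^ i ^^^ if T.testBit i then 2 ^ j0 else 0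

/-- Every generator of the admissible sign changes is met. -/
def signGen (S T j0 : ℕ) (Rs : List ℕ) : Bool :=
  (T == 0 || T.testBit j0) && (Rs.contains 0 && (Rs.all fun R => Rs.all fun R' => Rs.contains (R ^^^ R')) &&
    (List.range 24).all fun i => !S.testBit i ||
      codeList.any fun m => Rs.contains ((m &&& S) ^^^ signUnit T j0 i))

theorem signOK_of_gen {S T j0 : ℕ} {Rs : List ℕ} (hgen : signGen S T j0 Rs = true) (hTS : T &&& S = T)
    {D : Finset GolayPt} (hD : D ⊆ pts S) (hpar : (D ∩ pts T).card % 2 = 0) : SignOK (pts S) Rs D := by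
  simp only [signGen, Bool.and_eq_true, Bool.or_eq_true, List.all_eq_true, List.contains_iff_mem, beq_iff_eq,
    List.any_eq_true, Bool.not_eq_true', List.mem_range] at hgen
  obtain ⟨hj, ⟨h0, hcl⟩, hg⟩ := hgen
  have hempty : SignOK (pts S) Rs ∅ := ⟨0, h0, ∅, Spor.empty_mem_supports_golayCode, by simp [pts_zero_eq]⟩
  have hunit : ∀ p ∈ pts S, SignOK (pts S) Rs (pts (signUnit T j0 (ptIdx p))) := by
    intro p hp
    rcases hg (ptIdx p) (ptIdx_lt p) with h | ⟨m, hm, hR⟩
    · rw [mem_pts, h] at hp; simp at hp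
    · refine ⟨_, hR, pts m, pts_mem_supports hm, ?_⟩
      rw [pts_xor_eq, pts_and_eq]
      ext i
      simp only [Finset.mem_inter, Finset.mem_symmDiff]
      tauto
  suffices key : ∀ E : Finset GolayPt, E ⊆ pts S →
      SignOK (pts S) Rs (symmDiff E (if (E ∩ pts T).card % 2 = 0 then ∅ else pts (2 ^ j0))) by
    simpa [hpar, ← Finset.bot_eq_empty] using key D hD
  intro E
  induction E using Finset.induction with
  | empty => intro _; simpa using hempty
  | @insert p E hpE ih =>
    intro hE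
    rw [Finset.insert_subset_iff] at hE
    have h := (hunit p hE.1).add hcl (ih hE.2)
    have e : pts (2 ^ ptIdx p) = {p} := by
      ext i; simp [mem_pts, Nat.testBit_two_pow, ptIdx_injective.eq_iff, eq_comm]
    have e2 : insert p E = symmDiff {p} E := by
      ext i; simp only [Finset.mem_insert, Finset.mem_symmDiff, Finset.mem_singleton]
      by_cases hip : i = p <;> simp [hip, hpE]
    have hp : p ∈ pts T ↔ T.testBit (ptIdx p) = true := mem_pts
    rw [signUnit, pts_xor_eq, e, apply_ite pts, pts_zero_eq] at h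
    by_cases hT : T.testBit (ptIdx p) = true
    · have hc : (insert p E ∩ pts T).card = (E ∩ pts T).card + 1 := by
        rw [Finset.insert_inter_of_mem (hp.2 hT),
          Finset.card_insert_of_notMem fun hh => hpE (Finset.mem_inter.1 hh).1]
      rw [if_pos hT] at h
      rw [hc, e2]
      convert h using 1
      by_cases he : (E ∩ pts T).card % 2 = 0
      · rw [if_neg (by omega), if_pos he]
        ext i; simp only [Finset.mem_symmDiff, Finset.notMem_empty]; tauto
      · rw [if_pos (by omega), if_neg he]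
        ext i; simp only [Finset.mem_symmDiff, Finset.notMem_empty]; tauto
    · have hc : (insert p E ∩ pts T).card = (E ∩ pts T).card := by
        rw [Finset.insert_inter_of_notMem (mt hp.1 hT)]
      rw [if_neg hT] at h
      rw [hc, e2]
      convert h using 1
      ext i; simp only [Finset.mem_symmDiff, Finset.notMem_empty]; tauto

theorem sum_mag_mod {a b : ℕ} (ha : a % 2 = 0) (hb : b % 2 = 0) (A B M : Finset GolayPt) :
    (∑ i ∈ M, (mag a b 0 A B i : ℤ)) % 4 =
      (2 * (M ∩ Finset.univ.filter fun i => mag a b 0 A B i % 4 = 2).card : ℤ) % 4 := by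
  have e : ∀ i, (mag a b 0 A B i : ℤ) % 4 = if mag a b 0 A B i % 4 = 2 then 2 else 0 := fun i => by
    have : mag a b 0 A B i % 2 = 0 := by simp only [mag]; split_ifs <;> omega
    split_ifs <;> omega
  rw [Finset.sum_int_mod, Finset.sum_congr rfl fun i _ => e i, ← Finset.sum_filter, Finset.sum_const, nsmul_eq_mul, mul_comm]
  congr 4
  ext i; simp

/-- The signs of an even vector on given positions, up to the monomial group. -/
theorem exists_signed_even {a b : ℕ} (ha : a % 2 = 0) (hb : b % 2 = 0) {Am Bm T j0 R0 : ℕ} {Rs : List ℕ}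
    (hgen : signGen (Am ||| Bm) T j0 Rs = true) (hTS : T &&& (Am ||| Bm) = T) (hd : Am &&& Bm = 0)
    (hT : (Finset.univ.filter fun i => mag a b 0 (pts Am) (pts Bm) i % 4 = 2) = pts T)
    (hR0 : mkVec a b 0 (pts Am) (pts Bm) (pts R0) ∈ leechLattice) (x : leechLattice) {M : Finset GolayPt}
    (hx : (x : GolayPt → ℤ) = mkVec a b 0 (pts Am) (pts Bm) M) :
    ∃ R ∈ Rs, ∃ g : Co0, IsMono g ∧
      ((g • x : leechLattice) : GolayPt → ℤ) = mkVec a b 0 (pts Am) (pts Bm) (symmDiff (pts R0) (pts R)) := by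
  have hS : pts (Am ||| Bm) = pts Am ∪ pts Bm := by ext p; simp [mem_pts, Nat.testBit_or]
  have hdis : Disjoint (pts Am) (pts Bm) := by
    rw [Finset.disjoint_iff_inter_eq_empty, ← pts_and_eq, hd, pts_zero_eq]
  obtain ⟨-, s1⟩ := (even_mem_iff ha hb hdis M).1 (hx ▸ x.2)
  obtain ⟨-, s0⟩ := (even_mem_iff ha hb hdis _).1 hR0
  have m1 := sum_mag_mod ha hb (pts Am) (pts Bm) M
  have m0 := sum_mag_mod ha hb (pts Am) (pts Bm) (pts R0)
  rw [hT] at m1 m0
  have hTsub : pts T ⊆ pts (Am ||| Bm) := by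
    rw [← hTS, pts_and_eq]; exact Finset.inter_subset_right
  obtain ⟨D, hDdef⟩ : ∃ D, D = symmDiff M (pts R0) ∩ pts (Am ||| Bm) := ⟨_, rfl⟩
  have hcard : ∀ u v : Finset GolayPt, (symmDiff u v).card % 2 = (u.card + v.card) % 2 := fun u v => by
    rw [symmDiff_def, Finset.sup_eq_union, Finset.card_union_of_disjoint disjoint_sdiff_sdiff,
      Finset.card_sdiff, Finset.card_sdiff, Finset.inter_comm v u]
    have h1 : (u ∩ v).card ≤ u.card := Finset.card_le_card Finset.inter_subset_left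
    have h2 : (u ∩ v).card ≤ v.card := Finset.card_le_card Finset.inter_subset_right
    omega
  have hpar : (D ∩ pts T).card % 2 = 0 := by
    have : D ∩ pts T = symmDiff (M ∩ pts T) (pts R0 ∩ pts T) := by
      ext i
      have := @hTsub i
      simp only [hDdef, Finset.mem_inter, Finset.mem_symmDiff]
      by_cases h1 : i ∈ M <;> by_cases h2 : i ∈ pts R0 <;> by_cases h3 : i ∈ pts T <;> simp_all
    rw [this, hcard]
    generalize (M ∩ pts T).card = u, (pts R0 ∩ pts T).card = v, ∑ i ∈ M, (mag a b 0 (pts Am) (pts Bm) i : ℤ) = U,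
      ∑ i ∈ pts R0, (mag a b 0 (pts Am) (pts Bm) i : ℤ) = V, (a : ℤ) * (pts Am).card + b * (pts Bm).card = W
      at s0 s1 m0 m1 ⊢
    omega
  obtain ⟨R, hR, c, hc, e⟩ := signOK_of_gen hgen hTS (hDdef ▸ Finset.inter_subset_right) hpar
  refine ⟨R, hR, monoAut M24.one_mem hc, ⟨1, M24.one_mem, c, hc, rfl⟩, ?_⟩
  rw [monoAut_smul, hx, signedPerm_one_mkVec]
  refine mkVec_congr fun i hi => ?_
  have this := Finset.ext_iff.1 e i
  have hi' : i ∈ pts (Am ||| Bm) := hS ▸ hi
  simp only [hDdef, Finset.mem_inter, Finset.mem_symmDiff, hi', and_true] at this ⊢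
  by_cases h1 : i ∈ M <;> by_cases h2 : i ∈ c <;> by_cases h3 : i ∈ pts R0 <;> by_cases h4 : i ∈ pts R <;>
    simp [h1, h2, h3, h4] at this ⊢

/-- The signs of an odd vector on given positions, up to the monomial group. -/
theorem exists_signed_odd {A B M0 : Finset GolayPt} (h : Disjoint A B) (hpq : (A.card + B.card) % 2 = 1)
    (h0 : mkVec 3 5 1 A B M0 ∈ leechLattice) (x : leechLattice) {M : Finset GolayPt}
    (hx : (x : GolayPt → ℤ) = mkVec 3 5 1 A B M) :
    ∃ g : Co0, IsMono g ∧ ((g • x : leechLattice) : GolayPt → ℤ) = mkVec 3 5 1 A B M0 := by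
  have h1 := (odd_mem_iff h hpq M).1 (hx ▸ x.2)
  have h2 := (odd_mem_iff h hpq M0).1 h0
  refine ⟨monoAut M24.one_mem (supports_symmDiff h1 h2), ⟨1, M24.one_mem, _, supports_symmDiff h1 h2, rfl⟩, ?_⟩
  rw [monoAut_smul, hx, signedPerm_one_mkVec]
  congr 1
  ext i
  simp only [Finset.mem_symmDiff]; tauto

/-- The signs may be changed by a code word before applying the extra involution. -/
theorem exists_xi_image {c : ℕ} (hc : codeTest c = true) {v w : GolayPt → ℤ}
    (hw : w = xiVec (signedPerm 1 (pts c) v)) (x : leechLattice) (hx : (x : GolayPt → ℤ) = v) :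
    ∃ g : Co0, ((g • x : leechLattice) : GolayPt → ℤ) = w :=
  ⟨xiAut * monoAut M24.one_mem (pts_supports hc), by rw [mul_smul, xiAut_smul, monoAut_smul, hx, hw]⟩

end CfsgLib.Spor.Leech
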