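/-
Transitivity of the lattice automorphisms on vectors of norms 32, 48 and 64.
-/
import Cfsg.Agent.Lib.Spor.Leech.SignedMoves

namespace CfsgLib.Spor.Leech

open Cfsg
open scoped Pointwise

theorem pts_or_eq (a b : ℕ) : pts (a ||| b) = pts a ∪ pts b := by
  ext p; simp [mem_pts, Nat.testBit_or]

theorem filt_two_four (A B : Finset GolayPt) :
    (Finset.univ.filter fun i => mag 2 4 0 A B i % 4 = 2) = A := by
  ext i
  rw [Finset.mem_filter]
  simp only [Finset.mem_univ, true_and, mag]
  split_ifs <;> simp_all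

theorem filt_two_six (A B : Finset GolayPt) :
    (Finset.univ.filter fun i => mag 2 6 0 A B i % 4 = 2) = A ∪ B := by
  ext i
  rw [Finset.mem_filter, Finset.mem_union]
  simp only [Finset.mem_univ, true_and, mag]
  split_ifs <;> simp_all

theorem compl_octad {A : Finset GolayPt} (h : A ∈ supports (golayCode : Set (GolayPt → ZMod 2))) (h16 : A.card = 16) :
    Aᶜ ∈ octads := by
  refine ⟨?_, by rw [Finset.card_compl, card_golayPt, h16]⟩
  have := supports_symmDiff h Spor.univ_mem_supports_golayCode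
  rwa [show symmDiff A Finset.univ = Aᶜ by ext i; simp [Finset.mem_symmDiff]] at this

/-- Whether a vector has a shape. -/
def shapeOk (a b r p q : ℕ) (w : GolayPt → ℤ) : Bool :=
  decide (cnt w a = p ∧ cnt w b = q ∧ cnt w r = 24 - p - q ∧ p + q ≤ 24)

theorem mem_shapeSet_of_ok {a b r p q : ℕ} {w : GolayPt → ℤ} (h : shapeOk a b r p q w = true) (x : leechLattice)
    (hx : (x : GolayPt → ℤ) = w) : (x : GolayPt → ℤ) ∈ shapeSet a b r p q :=
  ⟨x.2, by
    have h' : cnt w a = p ∧ cnt w b = q ∧ cnt w r = 24 - p - q ∧ p + q ≤ 24 := of_decide_eq_true h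
    rw [hx]; exact h'⟩

/-- One step from an even shape to another shape. -/
theorem step_even {a b p q a' b' r' p' q' Am Bm T j0 R0 : ℕ} {links : List (ℕ × ℕ)}
    (ha : a % 2 = 0) (hb : b % 2 = 0) (hab : a ≠ b) (har : a ≠ 0) (hbr : b ≠ 0)
    (hgen : signGen (Am ||| Bm) T j0 (links.map Prod.fst) = true) (hTS : T &&& (Am ||| Bm) = T)
    (hd : Am &&& Bm = 0)
    (hT : (Finset.univ.filter fun i => mag a b 0 (pts Am) (pts Bm) i % 4 = 2) = pts T)
    (hR0 : mkVec a b 0 (pts Am) (pts Bm) (pts R0) ∈ leechLattice)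
    (hmove : ∀ A B : Finset GolayPt, Disjoint A B → A.card = p → B.card = q →
      (Finset.univ.filter fun i => mag a b 0 A B i % 4 = 2) ∈ supports (golayCode : Set (GolayPt → ZMod 2)) →
      Moves A B (pts Am) (pts Bm))
    (hlink : (links.all fun l => codeTest l.2 && shapeOk a' b' r' p' q'
      (xiVec (signedPerm 1 (pts l.2) (mkVec a b 0 (pts Am) (pts Bm) (pts (R0 ^^^ l.1)))))) = true)
    (x : leechLattice) (hx : (x : GolayPt → ℤ) ∈ shapeSet a b 0 p q) :
    ∃ g : Co0, ((g • x : leechLattice) : GolayPt → ℤ) ∈ shapeSet a' b' r' p' q' := by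
  have e := eq_mkVec hab har hbr hx.2
  have hs := ((even_mem_iff ha hb (disjoint_lvl (x : GolayPt → ℤ) hab) _).1 (e ▸ x.2)).1
  obtain ⟨g, -, M, hg⟩ := exists_moved hab har hbr hx
    (hmove _ _ (disjoint_lvl (x : GolayPt → ℤ) hab) hx.2.1 hx.2.2.1 hs)
  obtain ⟨R, hR, g', -, hg'⟩ := exists_signed_even ha hb hgen hTS hd hT hR0 (g • x) hg
  obtain ⟨l, hl, rfl⟩ := List.mem_map.1 hR
  rw [← pts_xor_eq] at hg'
  have hl' := List.all_eq_true.1 hlink l hl
  rw [Bool.and_eq_true] at hl'
  obtain ⟨g'', hg''⟩ := exists_xi_image hl'.1 rfl (g' • g • x) hg'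
  exact ⟨g'' * (g' * g), by rw [mul_smul, mul_smul]; exact mem_shapeSet_of_ok hl'.2 _ hg''⟩

/-- One step from an odd shape to another shape. -/
theorem step_odd {p q a' b' r' p' q' : ℕ} {A0 B0 M0 : Finset GolayPt} (hd : Disjoint A0 B0)
    (hpq : (A0.card + B0.card) % 2 = 1) (hR0 : mkVec 3 5 1 A0 B0 M0 ∈ leechLattice)
    (hmove : ∀ A B : Finset GolayPt, Disjoint A B → A.card = p → B.card = q → True → Moves A B A0 B0)
    (hlink : shapeOk a' b' r' p' q' (xiVec (mkVec 3 5 1 A0 B0 M0)) = true)
    (x : leechLattice) (hx : (x : GolayPt → ℤ) ∈ shapeSet 3 5 1 p q) :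
    ∃ g : Co0, ((g • x : leechLattice) : GolayPt → ℤ) ∈ shapeSet a' b' r' p' q' := by
  obtain ⟨g, -, M, hg⟩ := exists_moved (by norm_num) (by norm_num) (by norm_num) hx
    (hmove _ _ (disjoint_lvl (x : GolayPt → ℤ) (by norm_num)) hx.2.1 hx.2.2.1 trivial)
  obtain ⟨g', -, hg'⟩ := exists_signed_odd hd hpq hR0 (g • x) hg
  refine ⟨xiAut * (g' * g), mem_shapeSet_of_ok hlink _ ?_⟩
  rw [mul_smul, mul_smul, xiAut_smul, hg']

theorem step_shape_240_8_0 (x : leechLattice) (hx : (x : GolayPt → ℤ) ∈ shapeSet 2 4 0 8 0) :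
    ∃ g : Co0, ((g • x : leechLattice) : GolayPt → ℤ) ∈ shapeSet 4 8 0 2 0 :=
  step_even (a := 2) (b := 4) (Am := 2769128) (Bm := 0) (T := 2769128) (j0 := 3) (R0 := 2097184)
    (links := [(0, 0)])
    rfl rfl (by decide) (by decide) (by decide) (by decide +kernel) (by decide +kernel) (by decide +kernel) (by decide +kernel)
    (leechTest_spec (by decide +kernel)) (fun A B _ hA hB hs => move_octad ⟨filt_two_four A B ▸ hs, hA⟩ hB (pts_octad (by decide +kernel)) (by decide +kernel))
    (by decide +kernel) x hx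

theorem step_shape_351_1_0 (x : leechLattice) (hx : (x : GolayPt → ℤ) ∈ shapeSet 3 5 1 1 0) :
    ∃ g : Co0, ((g • x : leechLattice) : GolayPt → ℤ) ∈ shapeSet 2 4 0 8 0 :=
  step_odd (A0 := pts 16) (B0 := pts 0) (M0 := pts 12035078) (by decide +kernel) (by decide +kernel)
    (leechTest_spec (by decide +kernel)) (fun A B _ hA hB _ => move_small (by norm_num) hA hB (by decide +kernel) (by decide +kernel))
    (by decide +kernel) x hx

theorem step_shape_351_3_0 (x : leechLattice) (hx : (x : GolayPt → ℤ) ∈ shapeSet 3 5 1 3 0) :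
    ∃ g : Co0, ((g • x : leechLattice) : GolayPt → ℤ) ∈ shapeSet 3 5 1 0 1 :=
  step_odd (A0 := pts 131112) (B0 := pts 0) (M0 := pts 6114477) (by decide +kernel) (by decide +kernel)
    (leechTest_spec (by decide +kernel)) (fun A B _ hA hB _ => move_small (by norm_num) hA hB (by decide +kernel) (by decide +kernel))
    (by decide +kernel) x hx

theorem step_shape_240_8_1 (x : leechLattice) (hx : (x : GolayPt → ℤ) ∈ shapeSet 2 4 0 8 1) :
    ∃ g : Co0, ((g • x : leechLattice) : GolayPt → ℤ) ∈ shapeSet 3 5 1 3 0 :=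
  step_even (a := 2) (b := 4) (Am := 1122713) (Bm := 4096) (T := 1122713) (j0 := 0) (R0 := 12560)
    (links := [(0, 0)])
    rfl rfl (by decide) (by decide) (by decide) (by decide +kernel) (by decide +kernel) (by decide +kernel) (by decide +kernel)
    (leechTest_spec (by decide +kernel)) (fun A B hd hA hB hs => move_octad_out_one hd ⟨filt_two_four A B ▸ hs, hA⟩ hB (by decide +kernel) (pts_octad (by decide +kernel)) (by decide +kernel))
    (by decide +kernel) x hx

theorem step_shape_240_12_0 (x : leechLattice) (hx : (x : GolayPt → ℤ) ∈ shapeSet 2 4 0 12 0) :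
    ∃ g : Co0, ((g • x : leechLattice) : GolayPt → ℤ) ∈ shapeSet 2 4 0 8 1 :=
  step_even (a := 2) (b := 4) (Am := 3776749) (Bm := 0) (T := 3776749) (j0 := 0) (R0 := 32872)
    (links := [(0, 0)])
    rfl rfl (by decide) (by decide) (by decide) (by decide +kernel) (by decide +kernel) (by decide +kernel) (by decide +kernel)
    (leechTest_spec (by decide +kernel)) (fun A B _ hA hB hs => move_dodecad ⟨filt_two_four A B ▸ hs, hA⟩ hB (pts_dodecad (by decide +kernel)) (by decide +kernel))
    (by decide +kernel) x hx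

theorem step_shape_480_4_0 (x : leechLattice) (hx : (x : GolayPt → ℤ) ∈ shapeSet 4 8 0 4 0) :
    ∃ g : Co0, ((g • x : leechLattice) : GolayPt → ℤ) ∈ shapeSet 8 4 0 1 0 :=
  step_even (a := 4) (b := 8) (Am := 4268048) (Bm := 0) (T := 0) (j0 := 0) (R0 := 8192)
    (links := [(0, 0)])
    rfl rfl (by decide) (by decide) (by decide) (by decide +kernel) (by decide +kernel) (by decide +kernel) (by decide +kernel)
    (leechTest_spec (by decide +kernel)) (fun A B _ hA hB _ => move_small (by norm_num) hA hB (by decide +kernel) (by decide +kernel))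
    (by decide +kernel) x hx

theorem step_shape_240_8_2 (x : leechLattice) (hx : (x : GolayPt → ℤ) ∈ shapeSet 2 4 0 8 2) :
    ∃ g : Co0, ((g • x : leechLattice) : GolayPt → ℤ) ∈ shapeSet 4 8 0 4 0 :=
  step_even (a := 2) (b := 4) (Am := 11010247) (Bm := 264192) (T := 11010247) (j0 := 0) (R0 := 11010117)
    (links := [(0, 0)])
    rfl rfl (by decide) (by decide) (by decide) (by decide +kernel) (by decide +kernel) (by decide +kernel) (by decide +kernel)
    (leechTest_spec (by decide +kernel)) (fun A B hd hA hB hs => move_octad_out_two hd ⟨filt_two_four A B ▸ hs, hA⟩ hB (by decide +kernel) (pts_octad (by decide +kernel)) (by decide +kernel))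
    (by decide +kernel) x hx

theorem step_shape_260_7_1 (x : leechLattice) (hx : (x : GolayPt → ℤ) ∈ shapeSet 2 6 0 7 1) :
    ∃ g : Co0, ((g • x : leechLattice) : GolayPt → ℤ) ∈ shapeSet 2 4 0 8 2 :=
  step_even (a := 2) (b := 6) (Am := 8790284) (Bm := 65536) (T := 8855820) (j0 := 2) (R0 := 8462600)
    (links := [(0, 0)])
    rfl rfl (by decide) (by decide) (by decide) (by decide +kernel) (by decide +kernel) (by decide +kernel) (by decide +kernel)
    (leechTest_spec (by decide +kernel)) (fun A B hd hA hB hs => move_pointed_octad hd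
      ⟨filt_two_six A B ▸ hs, by rw [Finset.card_union_of_disjoint hd, hA, hB]⟩ hB (by decide +kernel)
      ⟨by rw [← pts_or_eq]; exact pts_supports (by decide +kernel), by decide +kernel⟩ (by decide +kernel))
    (by decide +kernel) x hx

theorem step_shape_240_12_1 (x : leechLattice) (hx : (x : GolayPt → ℤ) ∈ shapeSet 2 4 0 12 1) :
    ∃ g : Co0, ((g • x : leechLattice) : GolayPt → ℤ) ∈ shapeSet 2 4 0 8 2 :=
  step_even (a := 2) (b := 4) (Am := 10740908) (Bm := 524288) (T := 10740908) (j0 := 2) (R0 := 11256868)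
    (links := [(0, 0)])
    rfl rfl (by decide) (by decide) (by decide) (by decide +kernel) (by decide +kernel) (by decide +kernel) (by decide +kernel)
    (leechTest_spec (by decide +kernel)) (fun A B hd hA hB hs => move_dodecad_out hd ⟨filt_two_four A B ▸ hs, hA⟩ hB (by decide +kernel) (pts_dodecad (by decide +kernel)) (by decide +kernel))
    (by decide +kernel) x hx

theorem step_shape_351_5_0 (x : leechLattice) (hx : (x : GolayPt → ℤ) ∈ shapeSet 3 5 1 5 0) :
    ∃ g : Co0, ((g • x : leechLattice) : GolayPt → ℤ) ∈ shapeSet 2 4 0 12 1 :=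
  step_odd (A0 := pts 265360) (B0 := pts 0) (M0 := pts 9046123) (by decide +kernel) (by decide +kernel)
    (leechTest_spec (by decide +kernel)) (fun A B _ hA hB _ => move_small (by norm_num) hA hB (by decide +kernel) (by decide +kernel))
    (by decide +kernel) x hx

theorem step_shape_351_2_1 (x : leechLattice) (hx : (x : GolayPt → ℤ) ∈ shapeSet 3 5 1 2 1) :
    ∃ g : Co0, ((g • x : leechLattice) : GolayPt → ℤ) ∈ shapeSet 2 4 0 8 2 :=
  step_odd (A0 := pts 8208) (B0 := pts 8388608) (M0 := pts 13938101) (by decide +kernel) (by decide +kernel)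
    (leechTest_spec (by decide +kernel)) (fun A B hd hA hB _ => move_two_one hd hA hB (by decide +kernel) (by decide +kernel) (by decide +kernel))
    (by decide +kernel) x hx

theorem step_shape_240_16_0 (x : leechLattice) (hx : (x : GolayPt → ℤ) ∈ shapeSet 2 4 0 16 0) :
    ∃ g : Co0, ((g • x : leechLattice) : GolayPt → ℤ) ∈ shapeSet 3 5 1 5 0 :=
  step_even (a := 2) (b := 4) (Am := 16771936) (Bm := 0) (T := 16771936) (j0 := 5) (R0 := 0)
    (links := [(0, 1897223), (96, 3073533), (288, 2847322), (320, 12114121), (544, 5677046), (576, 10341824), (768, 8439632), (864, 7119848), (2080, 1199086), (2112, 5314167), (2304, 14454399), (2400, 13201841), (2560, 12482405), (2656, 14927837), (2848, 8999616), (2880, 1204944)])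
    rfl rfl (by decide) (by decide) (by decide) (by decide +kernel) (by decide +kernel) (by decide +kernel) (by decide +kernel)
    (leechTest_spec (by decide +kernel)) (fun A B _ hA hB hs => move_sixteen (compl_octad (filt_two_four A B ▸ hs) hA) hB (compl_octad (pts_supports (by decide +kernel)) (by decide +kernel)) (by decide +kernel))
    (by decide +kernel) x hx

/-! ### The bases -/

theorem base32 (x : leechLattice) (hx : (x : GolayPt → ℤ) ∈ shapeSet 4 8 0 2 0) :
    ∃ g : Co0, ((g • x : leechLattice) : GolayPt → ℤ) = mkVec 4 8 0 (pts 3) (pts 0) (pts 0) := by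
  obtain ⟨g, -, M, hg⟩ := exists_moved (A0 := pts 3) (B0 := pts 0) (by norm_num) (by norm_num) (by norm_num) hx
    (move_small (by norm_num) hx.2.1 hx.2.2.1 (by decide +kernel) (by decide +kernel))
  obtain ⟨R, hR, g', -, hg'⟩ := exists_signed_even (T := 0) (j0 := 0) (R0 := 0) (Rs := [0]) rfl rfl
    (by decide +kernel) (by decide +kernel) (by decide +kernel) (by decide +kernel)
    (leechTest_spec (by decide +kernel)) (g • x) hg
  obtain rfl : R = 0 := List.mem_singleton.1 hR
  exact ⟨g' * g, by rw [mul_smul, hg', ← pts_xor_eq]; rfl⟩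

theorem base64 (x : leechLattice) (hx : (x : GolayPt → ℤ) ∈ shapeSet 8 4 0 1 0) :
    ∃ g : Co0, ((g • x : leechLattice) : GolayPt → ℤ) = mkVec 8 4 0 (pts 1) (pts 0) (pts 0) := by
  obtain ⟨g, -, M, hg⟩ := exists_moved (A0 := pts 1) (B0 := pts 0) (by norm_num) (by norm_num) (by norm_num) hx
    (move_small (by norm_num) hx.2.1 hx.2.2.1 (by decide +kernel) (by decide +kernel))
  obtain ⟨R, hR, g', -, hg'⟩ := exists_signed_even (T := 0) (j0 := 0) (R0 := 0) (Rs := [0]) rfl rfl
    (by decide +kernel) (by decide +kernel) (by decide +kernel) (by decide +kernel)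
    (leechTest_spec (by decide +kernel)) (g • x) hg
  obtain rfl : R = 0 := List.mem_singleton.1 hR
  exact ⟨g' * g, by rw [mul_smul, hg', ← pts_xor_eq]; rfl⟩

theorem base48 (x : leechLattice) (hx : (x : GolayPt → ℤ) ∈ shapeSet 3 5 1 0 1) :
    ∃ g : Co0, ((g • x : leechLattice) : GolayPt → ℤ) = mkVec 3 5 1 (pts 0) (pts 1) (pts 0) := by
  obtain ⟨g, -, M, hg⟩ := exists_moved (A0 := pts 0) (B0 := pts 1) (by norm_num) (by norm_num) (by norm_num) hx
    (move_small (by norm_num) hx.2.2.1 hx.2.1 (by decide +kernel) (by decide +kernel)).swap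
  obtain ⟨g', -, hg'⟩ := exists_signed_odd (M0 := pts 0) (by decide +kernel) (by decide +kernel)
    (leechTest_spec (by decide +kernel)) (g • x) hg
  exact ⟨g' * g, by rw [mul_smul, hg']⟩

/-! ### Transitivity -/

/-- One more step in front of a way to the base. -/
theorem chain {P : (GolayPt → ℤ) → Prop} {v : GolayPt → ℤ} {x : leechLattice}
    (h : ∃ g : Co0, P ((g • x : leechLattice) : GolayPt → ℤ))
    (next : ∀ y : leechLattice, P (y : GolayPt → ℤ) → ∃ g : Co0, ((g • y : leechLattice) : GolayPt → ℤ) = v) :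
    ∃ g : Co0, ((g • x : leechLattice) : GolayPt → ℤ) = v := by
  obtain ⟨g, hg⟩ := h
  obtain ⟨g', hg'⟩ := next _ hg
  exact ⟨g' * g, by rw [mul_smul]; exact hg'⟩

theorem to_base32 (x : leechLattice) (hx : sqNorm (x : GolayPt → ℤ) = 32) :
    ∃ g : Co0, ((g • x : leechLattice) : GolayPt → ℤ) = mkVec 4 8 0 (pts 3) (pts 0) (pts 0) := by
  have h : (x : GolayPt → ℤ) ∈ {x : GolayPt → ℤ | x ∈ leechLattice ∧ sqNorm x = 32} := ⟨x.2, hx⟩
  rw [set32] at h
  have l2 := fun (y : leechLattice) hy => chain (step_shape_240_8_0 y hy) base32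
  rcases h with (h | h) | h
  · exact base32 x h
  · exact l2 x h
  · exact chain (step_shape_351_1_0 x h) l2

theorem to_base48 (x : leechLattice) (hx : sqNorm (x : GolayPt → ℤ) = 48) :
    ∃ g : Co0, ((g • x : leechLattice) : GolayPt → ℤ) = mkVec 3 5 1 (pts 0) (pts 1) (pts 0) := by
  have h : (x : GolayPt → ℤ) ∈ {x : GolayPt → ℤ | x ∈ leechLattice ∧ sqNorm x = 48} := ⟨x.2, hx⟩
  rw [set48] at h
  have l3 := fun (y : leechLattice) hy => chain (step_shape_351_3_0 y hy) base48
  have l8 := fun (y : leechLattice) hy => chain (step_shape_240_8_1 y hy) l3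
  rcases h with ((h | h) | h) | h
  · exact chain (step_shape_240_12_0 x h) l8
  · exact l3 x h
  · exact l8 x h
  · exact base48 x h

theorem to_base64 (x : leechLattice) (hx : sqNorm (x : GolayPt → ℤ) = 64) :
    ∃ g : Co0, ((g • x : leechLattice) : GolayPt → ℤ) = mkVec 8 4 0 (pts 1) (pts 0) (pts 0) := by
  have h : (x : GolayPt → ℤ) ∈ {x : GolayPt → ℤ | x ∈ leechLattice ∧ sqNorm x = 64} := ⟨x.2, hx⟩
  rw [set64] at h
  have l44 := fun (y : leechLattice) hy => chain (step_shape_480_4_0 y hy) base64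
  have l82 := fun (y : leechLattice) hy => chain (step_shape_240_8_2 y hy) l44
  have l121 := fun (y : leechLattice) hy => chain (step_shape_240_12_1 y hy) l82
  have l5 := fun (y : leechLattice) hy => chain (step_shape_351_5_0 y hy) l121
  rcases h with ((((((h | h) | h) | h) | h) | h) | h) | h
  · exact base64 x h
  · exact l44 x h
  · exact l82 x h
  · exact chain (step_shape_260_7_1 x h) l82
  · exact l121 x h
  · exact chain (step_shape_240_16_0 x h) l5
  · exact l5 x h
  · exact chain (step_shape_351_2_1 x h) l82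

/-- Two vectors joined to the same base are joined. -/
theorem joined {v : GolayPt → ℤ} {x y : leechLattice}
    (hx : ∃ g : Co0, ((g • x : leechLattice) : GolayPt → ℤ) = v)
    (hy : ∃ g : Co0, ((g • y : leechLattice) : GolayPt → ℤ) = v) : ∃ g : Co0, g • x = y := by
  obtain ⟨g, hg⟩ := hx
  obtain ⟨h, hh⟩ := hy
  exact ⟨h⁻¹ * g, by rw [mul_smul, Subtype.ext (hg.trans hh.symm), inv_smul_smul]⟩

theorem transitive_norm {x y : leechLattice}
    (h : sqNorm (x : GolayPt → ℤ) = 32 ∨ sqNorm (x : GolayPt → ℤ) = 48 ∨ sqNorm (x : GolayPt → ℤ) = 64)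
    (he : sqNorm (y : GolayPt → ℤ) = sqNorm (x : GolayPt → ℤ)) : ∃ g : Co0, g • x = y := by
  rcases h with h | h | h
  · exact joined (to_base32 x h) (to_base32 y (he.trans h))
  · exact joined (to_base48 x h) (to_base48 y (he.trans h))
  · exact joined (to_base64 x h) (to_base64 y (he.trans h))

end CfsgLib.Spor.Leech
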