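/-
The classes of the lattice modulo its double, and crosses.
-/
import Cfsg.Agent.Lib.Spor.Leech.Orbits
import Cfsg.Agent.Lib.Spor.Leech.Index

namespace CfsgLib.Spor.Leech

open Cfsg
open scoped Pointwise

/-- The cross of a lattice vector inside the lattice. -/
def crossIn (x : leechLattice) : Set leechLattice :=
  {y | sqNorm (y : GolayPt → ℤ) = sqNorm (x : GolayPt → ℤ) ∧ ∃ z : leechLattice, x - y = 2 • z}

theorem cross_eq_image (x : leechLattice) : cross (x : GolayPt → ℤ) = Subtype.val '' crossIn x := by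
  ext y
  constructor
  · rintro ⟨hy, hn, z, hz, e⟩
    exact ⟨⟨y, hy⟩, ⟨hn, ⟨z, hz⟩, Subtype.ext e⟩, rfl⟩
  · rintro ⟨y, ⟨hn, z, e⟩, rfl⟩
    exact ⟨y.2, hn, z, z.2, congrArg Subtype.val e⟩

theorem co0_sub (g : Co0) (v w : leechLattice) : g • (v - w) = g • v - g • w := by
  rw [sub_eq_add_neg, co0_add, co0_neg, ← sub_eq_add_neg]

theorem co0_two_nsmul (g : Co0) (v : leechLattice) : g • (2 • v) = 2 • (g • v) := by
  rw [two_nsmul, two_nsmul, co0_add]

theorem crossIn_smul (g : Co0) (x : leechLattice) : crossIn (g • x) = (g • ·) '' crossIn x := by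
  ext y
  constructor
  · rintro ⟨hn, z, e⟩
    refine ⟨g⁻¹ • y, ⟨?_, g⁻¹ • z, ?_⟩, smul_inv_smul g y⟩
    · rw [co0_norm, hn, co0_norm]
    · rw [← co0_two_nsmul, ← e, co0_sub, inv_smul_smul]
  · rintro ⟨y, ⟨hn, z, e⟩, rfl⟩
    exact ⟨by rw [co0_norm, co0_norm, hn], g • z, by rw [← co0_two_nsmul, ← e, co0_sub]⟩

theorem exists_lvl {x : GolayPt → ℤ} {k n : ℕ} (h : cnt x k = n) (hn : 0 < n) : ∃ i, (x i).natAbs = k := by
  obtain ⟨i, hi⟩ := Finset.card_pos.1 (lt_of_lt_of_eq hn h.symm : 0 < (lvl x k).card)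
  exact ⟨i, mem_lvl.1 hi⟩

theorem single_eight_mem (i : GolayPt) : Pi.single i (8 : ℤ) ∈ leechLattice := by
  have h := fourVec_mem i i
  rwa [fourVec, ← Pi.single_add] at h

theorem cross_single (i : GolayPt) : cross (Pi.single i (8 : ℤ)) = stdCross := by
  have hn : ∀ (j : GolayPt) (s : ℤ), sqNorm (Pi.single j s) = s ^ 2 := fun j s => by
    simp [sqNorm, Pi.single_apply]
  ext y
  constructor
  · rintro ⟨hy, hy64, z, hz, e⟩
    rw [hn] at hy64
    have hz2 : ∀ j, y j = (if j = i then 8 else 0) - 2 * z j := fun j => by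
      have := congrFun e j
      simp only [Pi.sub_apply, Pi.smul_apply, Pi.single_apply, nsmul_eq_mul, Nat.cast_ofNat] at this
      omega
    have hzp := (mem_iff.1 hz).1
    have h4 : ∀ j k, y j % 4 = y k % 4 ∧ y j % 2 = 0 := fun j k => by
      have := hz2 j; have := hz2 k; have := hzp j; have := hzp k
      split_ifs at * <;> omega
    have mixed : ∀ a b p q, 0 < p → p + q < 24 → a % 4 = 2 → HasShape a b 0 p q y → False := by
      intro a b p q hp hpq ha h
      obtain ⟨j, hj⟩ := exists_lvl h.1 hp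
      obtain ⟨k, hk⟩ := exists_lvl h.2.2.1 (by omega)
      have := h4 j k
      omega
    have odd : ∀ p q, p + q < 24 → HasShape 3 5 1 p q y → False := by
      intro p q hpq h
      obtain ⟨k, hk⟩ := exists_lvl h.2.2.1 (by omega)
      have := h4 k k
      omega
    have h : y ∈ {x : GolayPt → ℤ | x ∈ leechLattice ∧ sqNorm x = 64} := ⟨hy, by rw [hy64]; norm_num⟩
    rw [set64] at h
    rcases h with ((((((h | h) | h) | h) | h) | h) | h) | h
    · obtain ⟨j, hj⟩ := Finset.card_eq_one.1 h.2.1
      have ev := eq_mkVec (by norm_num) (by norm_num) (by norm_num) h.2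
      have h0 : lvl y 4 = ∅ := Finset.card_eq_zero.1 h.2.2.1
      have hjy : (y j).natAbs = 8 := mem_lvl.1 (hj ▸ Finset.mem_singleton_self j)
      refine ⟨j, y j, by omega, funext fun k => ?_⟩
      rcases eq_or_ne k j with rfl | hk
      · simp
      · have hk' : (y k).natAbs = 0 := by
          conv_lhs => rw [ev]
          rw [natAbs_mkVec]
          simp [mag, hj, h0, hk]
        rw [Pi.single_eq_of_ne hk]; omega
    · exfalso
      obtain ⟨j, hj⟩ := exists_lvl h.2.2.2.1 (by norm_num)
      have hj0 := h4 j j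
      have hall : ∀ k, z k % 2 = 0 := fun k => by
        have := h4 k j; have := hz2 k
        split_ifs at * <;> omega
      have e4 : support₂ (digit z) = lvl y 4 := by
        ext k
        rw [support₂, Finset.mem_filter, mem_lvl]
        simp only [digit, Finset.mem_univ, true_and, ne_eq, zmod2_cast_eq_zero]
        have := hall k; have := hz2 k
        have := natAbs_le_eight (x := y) (by rw [hy64]; norm_num) k
        split_ifs at * <;> omega
      have := code_card (mem_iff.1 hz).2.1
      rw [e4, show (lvl y 4).card = 4 from h.2.1] at this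
      omega
    · exact (mixed _ _ _ _ (by norm_num) (by norm_num) rfl h.2).elim
    · exact (mixed _ _ _ _ (by norm_num) (by norm_num) rfl h.2).elim
    · exact (mixed _ _ _ _ (by norm_num) (by norm_num) rfl h.2).elim
    · exact (mixed _ _ _ _ (by norm_num) (by norm_num) rfl h.2).elim
    · exact (odd _ _ (by norm_num) h.2).elim
    · exact (odd _ _ (by norm_num) h.2).elim
  · rintro ⟨j, s, hs, rfl⟩
    have hj := single_eight_mem j
    have key : Pi.single j s ∈ leechLattice := by
      rcases hs with rfl | rfl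
      · exact hj
      · rw [Pi.single_neg]; exact neg_mem hj
    refine ⟨key, by rw [hn, hn]; rcases hs with rfl | rfl <;> norm_num, ?_⟩
    rcases hs with rfl | rfl
    · refine ⟨fourVec i j - fourVec j j, sub_mem (fourVec_mem i j) (fourVec_mem j j), funext fun k => ?_⟩
      simp only [fourVec, Pi.sub_apply, Pi.add_apply, Pi.smul_apply, Pi.single_apply, nsmul_eq_mul, Nat.cast_ofNat]
      split_ifs <;> norm_num
    · refine ⟨fourVec i j, fourVec_mem i j, funext fun k => ?_⟩
      simp only [fourVec, Pi.sub_apply, Pi.add_apply, Pi.smul_apply, Pi.single_apply, nsmul_eq_mul, Nat.cast_ofNat]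
      split_ifs <;> norm_num

theorem ncard_stdCross : stdCross.ncard = 48 := by
  have e : stdCross = (fun z : GolayPt × Bool => Pi.single z.1 (if z.2 then (8 : ℤ) else -8)) '' Set.univ := by
    ext y
    simp only [stdCross, Set.mem_ofPred_eq, Set.image_univ, Set.mem_range, Prod.exists]
    constructor
    · rintro ⟨i, s, hs, rfl⟩
      rcases hs with rfl | rfl
      · exact ⟨i, true, rfl⟩
      · exact ⟨i, false, rfl⟩
    · rintro ⟨i, b, rfl⟩
      exact ⟨i, _, by cases b <;> simp, rfl⟩
  rw [e, Set.ncard_image_of_injective, Set.ncard_univ, Nat.card_eq_fintype_card]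
  · rfl
  · rintro ⟨i, b⟩ ⟨j, b'⟩ h
    have h1 := congrFun h i
    simp only [Pi.single_eq_same, Pi.single_apply] at h1
    split_ifs at h1 with hb hij hb' hij hb' <;> simp_all

theorem mkVec_single : mkVec 8 4 0 (pts 1) (pts 0) (pts 0) = Pi.single (idxPt 0) (8 : ℤ) := by
  funext k; revert k; decide +kernel

theorem ncard_crossIn {x : leechLattice} (hx : sqNorm (x : GolayPt → ℤ) = 64) : (crossIn x).ncard = 48 := by
  obtain ⟨g, hg⟩ := to_base64 x hx
  rw [← Set.ncard_image_of_injective _ (MulAction.injective g), ← crossIn_smul,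
    ← Set.ncard_image_of_injective _ Subtype.val_injective, ← cross_eq_image, hg, mkVec_single, cross_single,
    ncard_stdCross]

theorem ncard_cross {x : GolayPt → ℤ} (hx : x ∈ leechLattice) (hn : sqNorm x = 64) : (cross x).ncard = 48 := by
  have h := cross_eq_image ⟨x, hx⟩
  rw [show cross x = Subtype.val '' crossIn ⟨x, hx⟩ from h, Set.ncard_image_of_injective _ Subtype.val_injective]
  exact ncard_crossIn hn

/-! ### Counting the classes -/

/-- Doubling. -/
def dbl : (GolayPt → ℤ) →+ (GolayPt → ℤ) := nsmulAddMonoidHom 2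

/-- The double of the lattice inside the lattice. -/
def twiceSub : AddSubgroup leechLattice := (leechLattice.map dbl).addSubgroupOf leechLattice

theorem mem_twiceSub {y : leechLattice} : y ∈ twiceSub ↔ ∃ z : leechLattice, y = 2 • z := by
  rw [twiceSub, AddSubgroup.mem_addSubgroupOf]
  constructor
  · rintro ⟨z, hz, e⟩; exact ⟨⟨z, hz⟩, Subtype.ext e.symm⟩
  · rintro ⟨z, rfl⟩; exact ⟨z, z.2, rfl⟩

theorem index_twiceSub : twiceSub.index = 2 ^ 24 := by
  have hinj : Function.Injective dbl := fun x y h => funext fun i => by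
    have := congrFun h i; simp [dbl] at this; omega
  have hle : leechLattice.map dbl ≤ leechLattice := by
    rintro _ ⟨z, hz, rfl⟩; exact leechLattice.nsmul_mem hz 2
  let red : (GolayPt → ℤ) →+ (GolayPt → ZMod 2) := (Int.castAddHom (ZMod 2)).compLeft GolayPt
  have hk : red.ker = dbl.range := by
    ext x
    rw [AddMonoidHom.mem_ker, AddMonoidHom.mem_range]
    constructor
    · intro h
      refine ⟨fun i => x i / 2, funext fun i => ?_⟩
      have hi : ((x i : ℤ) : ZMod 2) = 0 := congrFun h i
      rw [zmod2_cast_eq_zero] at hi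
      simp only [dbl, nsmulAddMonoidHom_apply, Pi.smul_apply, nsmul_eq_mul, Nat.cast_ofNat]
      omega
    · rintro ⟨z, rfl⟩
      funext i
      show ((dbl z i : ℤ) : ZMod 2) = 0
      rw [zmod2_cast_eq_zero]
      simp [dbl]
  have hr : dbl.range.index = 2 ^ 24 := by
    rw [← hk, AddSubgroup.index_ker, AddMonoidHom.range_eq_top.2]
    · rw [Nat.card_congr AddSubgroup.topEquiv.toEquiv, Nat.card_fun, Nat.card_zmod, Nat.card_eq_fintype_card,
        card_golayPt]
    · intro w
      refine ⟨fun i => ((w i).val : ℤ), funext fun i => ?_⟩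
      show (((w i).val : ℤ) : ZMod 2) = w i
      rw [Int.cast_natCast, ZMod.natCast_zmod_val]
  have h1 := AddSubgroup.relIndex_mul_index hle
  rw [AddSubgroup.index_map, (AddMonoidHom.ker_eq_bot_iff dbl).2 hinj, sup_bot_eq, hr, index_leech] at h1
  show (leechLattice.map dbl).relIndex leechLattice = 2 ^ 24
  rw [mul_comm] at h1
  exact Nat.eq_of_mul_eq_mul_left (by norm_num : 0 < 2 ^ 36) h1

/-- The class of a vector modulo the double of the lattice. -/
def classOf (x : leechLattice) : leechLattice ⧸ twiceSub := (x : leechLattice ⧸ twiceSub)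

theorem classOf_eq {x y : leechLattice} : classOf x = classOf y ↔ ∃ z : leechLattice, x - y = 2 • z := by
  rw [classOf, classOf, QuotientAddGroup.eq_iff_sub_mem, mem_twiceSub]

/-- The lattice vectors of a norm. -/
def normSet (n : ℤ) : Set leechLattice := {x | sqNorm (x : GolayPt → ℤ) = n}

theorem ncard_normSet (n : ℤ) : (normSet n).ncard = {x : GolayPt → ℤ | x ∈ leechLattice ∧ sqNorm x = n}.ncard := by
  rw [← Set.ncard_image_of_injective _ Subtype.val_injective]
  congr 1
  ext x
  simp [normSet, and_comm]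

theorem mul_ncard_image {α β : Type*} (f : α → β) {S : Set α} (hS : S.Finite) {k : ℕ}
    (h : ∀ x ∈ S, {y ∈ S | f y = f x}.ncard = k) : (f '' S).ncard * k = S.ncard := by
  classical
  lift S to Finset α using hS
  rw [← Finset.coe_image, Set.ncard_coe_finset, Set.ncard_coe_finset,
    Finset.card_eq_sum_card_fiberwise (t := S.image f) fun x hx => Finset.mem_image_of_mem f hx]
  rw [Finset.sum_congr rfl fun b hb => show (S.filter fun y => f y = b).card = k by
    obtain ⟨x, hx, rfl⟩ := Finset.mem_image.1 hb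
    rw [← h x hx, ← Set.ncard_coe_finset, Finset.coe_filter]
    rfl, Finset.sum_const, smul_eq_mul]

theorem class_fibre {n : ℤ} (hn : n = 32 ∨ n = 48) {x : leechLattice} (hx : x ∈ normSet n) :
    {y ∈ normSet n | classOf y = classOf x}.ncard = 2 := by
  have hx' : sqNorm (x : GolayPt → ℤ) = n := hx
  have h0 : (x : GolayPt → ℤ) ≠ 0 := fun h => by rw [h] at hx'; simp [sqNorm] at hx'; omega
  have hne : x ≠ -x := fun h => h0 <| funext fun i => by
    have := congrFun (congrArg Subtype.val h) i
    simp at this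
    rw [Pi.zero_apply]
    omega
  suffices {y ∈ normSet n | classOf y = classOf x} = {x, -x} by rw [this, Set.ncard_pair hne]
  ext y
  simp only [Set.mem_ofPred_eq, Set.mem_insert_iff, Set.mem_singleton_iff, classOf_eq, normSet]
  constructor
  · rintro ⟨hy, z, e⟩
    have hy0 : (y : GolayPt → ℤ) ≠ 0 := fun h => by rw [h] at hy; simp [sqNorm] at hy; omega
    have h := short_congr_norm y.2 x.2 (by omega) (by omega) ⟨z, z.2, congrArg Subtype.val e⟩
    rcases h.2 (by omega) with e' | e'
    · exact Or.inl (Subtype.ext e'.symm)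
    · exact Or.inr (Subtype.ext (by rw [AddSubgroup.coe_neg, e', neg_neg]))
  · rintro (rfl | rfl)
    · exact ⟨hx', 0, by simp⟩
    · refine ⟨by simpa [sqNorm] using hx', -x, ?_⟩
      rw [two_nsmul]; abel

theorem class_surjective : ∀ x : leechLattice, ∃ y : leechLattice,
    sqNorm (y : GolayPt → ℤ) ≤ 64 ∧ classOf y = classOf x := by
  have hidx : Nat.card (leechLattice ⧸ twiceSub) = 2 ^ 24 := index_twiceSub
  have : Finite (leechLattice ⧸ twiceSub) := Nat.finite_of_card_ne_zero (by rw [hidx]; norm_num)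
  have c : ∀ (n : ℤ) (k m : ℕ), {x : GolayPt → ℤ | x ∈ leechLattice ∧ sqNorm x = n}.ncard = m → 0 < m →
      (∀ x ∈ normSet n, {y ∈ normSet n | classOf y = classOf x}.ncard = k) →
      (classOf '' normSet n).ncard * k = m := fun n k m hm h0 h => by
    rw [← hm, ← ncard_normSet]
    exact mul_ncard_image _ (Set.finite_of_ncard_pos (by rw [ncard_normSet, hm]; exact h0)) h
  have h32 := c 32 2 _ ncard32 (by norm_num) fun x hx => class_fibre (Or.inl rfl) hx
  have h48 := c 48 2 _ ncard48 (by norm_num) fun x hx => class_fibre (Or.inr rfl) hx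
  have h64 := c 64 48 _ ncard64 (by norm_num) fun x hx => by
    rw [← ncard_crossIn hx]
    congr 1
    ext y
    simp only [Set.mem_ofPred_eq, normSet, crossIn, classOf_eq, show sqNorm (x : GolayPt → ℤ) = 64 from hx]
    refine and_congr_right fun _ => ⟨fun ⟨z, e⟩ => ⟨-z, ?_⟩, fun ⟨z, e⟩ => ⟨-z, ?_⟩⟩ <;>
      rw [← neg_sub, e, smul_neg]
  have disj : ∀ {m n : ℤ}, m ≠ n → m ≤ 64 → n ≤ 64 → 0 < m → 0 ≤ n →
      Disjoint (classOf '' normSet m) (classOf '' normSet n) := by
    intro m n hmn hm hn hm0 hn0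
    rw [Set.disjoint_left]
    rintro _ ⟨x, hx, rfl⟩ ⟨y, hy, e⟩
    obtain ⟨z, hz⟩ := classOf_eq.1 e
    have hx' : sqNorm (x : GolayPt → ℤ) = m := hx
    have hy' : sqNorm (y : GolayPt → ℤ) = n := hy
    exact hmn (hx'.symm.trans ((short_congr_norm y.2 x.2 (by omega) (by omega) ⟨z, z.2, congrArg Subtype.val hz⟩).1.symm.trans hy'))
  have h0 : (classOf '' normSet 0).ncard = 1 := by
    have : normSet 0 = {0} := by
      ext x
      simp [normSet, sqNorm_eq_zero]
    rw [this, Set.image_singleton, Set.ncard_singleton]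
  have d1 := (disj (m := 32) (n := 0) (by norm_num) (by norm_num) (by norm_num) (by norm_num) le_rfl).symm
  have d2 := (disj (m := 48) (n := 0) (by norm_num) (by norm_num) (by norm_num) (by norm_num) le_rfl).symm
  have d3 := (disj (m := 64) (n := 0) (by norm_num) (by norm_num) (by norm_num) (by norm_num) le_rfl).symm
  have d4 := disj (m := 32) (n := 48) (by norm_num) (by norm_num) (by norm_num) (by norm_num) (by norm_num)
  have d5 := disj (m := 32) (n := 64) (by norm_num) (by norm_num) (by norm_num) (by norm_num) (by norm_num)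
  have d6 := disj (m := 48) (n := 64) (by norm_num) (by norm_num) (by norm_num) (by norm_num) (by norm_num)
  set U := classOf '' normSet 0 ∪ classOf '' normSet 32 ∪ classOf '' normSet 48 ∪ classOf '' normSet 64
  have hU : U = Set.univ := by
    refine Set.eq_of_subset_of_ncard_le (Set.subset_univ _) ?_
    rw [Set.ncard_univ, hidx, Set.ncard_union_eq (Set.disjoint_union_left.2 ⟨Set.disjoint_union_left.2 ⟨d3, d5⟩, d6⟩),
      Set.ncard_union_eq (Set.disjoint_union_left.2 ⟨d2, d4⟩), Set.ncard_union_eq d1, h0]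
    omega
  intro x
  have hx : classOf x ∈ U := hU ▸ Set.mem_univ _
  rcases hx with ((⟨y, hy, e⟩ | ⟨y, hy, e⟩) | ⟨y, hy, e⟩) | ⟨y, hy, e⟩ <;>
    exact ⟨y, le_of_eq_of_le hy (by norm_num), e⟩

theorem exists_short_congr {x : GolayPt → ℤ} (hx : x ∈ leechLattice) :
    ∃ y ∈ leechLattice, sqNorm y ≤ 64 ∧ ∃ z ∈ leechLattice, x - y = 2 • z := by
  obtain ⟨y, hy, e⟩ := class_surjective ⟨x, hx⟩
  obtain ⟨z, hz⟩ := classOf_eq.1 e.symm
  exact ⟨y, y.2, hy, z, z.2, congrArg Subtype.val hz⟩

end CfsgLib.Spor.Leech
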