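/-
The stabilizer of the standard cross, the order of the automorphism group, and its center.
-/
import Cfsg.Agent.Lib.Spor.Leech.Classes

namespace CfsgLib.Spor.Leech

open Cfsg
open scoped Pointwise

/-- Eight times a coordinate vector, in the lattice. -/
def eight (i : GolayPt) : leechLattice := ⟨Pi.single i 8, single_eight_mem i⟩

theorem eight_mem_stdCross (i : GolayPt) : (eight i : GolayPt → ℤ) ∈ stdCross := ⟨i, 8, Or.inl rfl, rfl⟩

theorem eight_injective : Function.Injective eight := fun i j h => by
  have := congrFun (congrArg Subtype.val h) i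
  by_contra hne
  simp [eight, Pi.single_apply, hne] at this

theorem mem_stdCross_iff {v : leechLattice} :
    (v : GolayPt → ℤ) ∈ stdCross ↔ ∃ i, v = eight i ∨ v = -eight i := by
  constructor
  · rintro ⟨i, s, hs, e⟩
    rcases hs with rfl | rfl
    · exact ⟨i, Or.inl (Subtype.ext e)⟩
    · exact ⟨i, Or.inr (Subtype.ext (by rw [e, Pi.single_neg]; rfl))⟩
  · rintro ⟨i, rfl | rfl⟩
    · exact eight_mem_stdCross i
    · exact ⟨i, -8, Or.inr rfl, by rw [AddSubgroup.coe_neg]; exact (Pi.single_neg i 8).symm⟩

theorem eight_sum (x : leechLattice) : (8 : ℤ) • x = ∑ i, (x : GolayPt → ℤ) i • eight i := by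
  refine Subtype.ext (funext fun j => ?_)
  rw [AddSubgroup.coe_zsmul, AddSubgroup.val_finset_sum, Finset.sum_apply, Pi.smul_apply,
    Finset.sum_eq_single j (fun i _ hij => by simp [eight, hij.symm]) fun h => (h (Finset.mem_univ j)).elim]
  simp [eight, mul_comm]

/-- An automorphism is determined by the images of the eightfold coordinate vectors. -/
theorem co0_ext {g h : Co0} (he : ∀ i, g • eight i = h • eight i) : g = h := by
  have key : ∀ x : leechLattice, g • x = h • x := by
    intro x
    have h1 : ∀ k : Co0, k • ((8 : ℤ) • x) = ∑ i, (x : GolayPt → ℤ) i • (k • eight i) := fun k => by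
      rw [eight_sum]
      have := map_sum (AddMonoidHom.mk' (fun v : leechLattice => k • v) (co0_add k))
        (fun i => (x : GolayPt → ℤ) i • eight i) Finset.univ
      simp only [AddMonoidHom.mk'_apply] at this
      rw [this]
      exact Finset.sum_congr rfl fun i _ => co0_zsmul k _ _
    have h2 : g • ((8 : ℤ) • x) = h • ((8 : ℤ) • x) := by
      rw [h1, h1]; exact Finset.sum_congr rfl fun i _ => by rw [he]
    rw [co0_zsmul, co0_zsmul] at h2
    refine Subtype.ext (funext fun j => ?_)
    have := congrFun (congrArg Subtype.val h2) j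
    simp only [AddSubgroup.coe_zsmul, Pi.smul_apply, smul_eq_mul] at this
    omega
  exact Subtype.ext (Equiv.ext key)

/-- The automorphisms fixing the standard cross. -/
def PreservesCross (g : Co0) : Prop :=
  ∀ v : leechLattice, (v : GolayPt → ℤ) ∈ stdCross → ((g • v : leechLattice) : GolayPt → ℤ) ∈ stdCross

theorem signedPerm_eight (σ : Equiv.Perm GolayPt) (c : Finset GolayPt) (i : GolayPt) (s : ℤ) :
    signedPerm σ c (Pi.single i s) = Pi.single (σ i) (if σ i ∈ c then -s else s) := by
  funext j
  simp only [signedPerm, Pi.single_apply, Equiv.symm_apply_eq]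
  rcases eq_or_ne j (σ i) with rfl | hj
  · simp
  · simp [hj]

theorem monoAut_preserves {σ : Equiv.Perm GolayPt} (hσ : σ ∈ M24) {c : Finset GolayPt}
    (hc : c ∈ supports (golayCode : Set (GolayPt → ZMod 2))) : PreservesCross (monoAut hσ hc) := by
  rintro v ⟨i, s, hs, e⟩
  rw [monoAut_smul, e, signedPerm_eight]
  exact ⟨σ i, _, by split_ifs <;> omega, rfl⟩

/-- The automorphisms fixing the standard cross are monomial. -/
theorem exists_monoAut {g : Co0} (hg : PreservesCross g) :
    ∃ σ, ∃ hσ : σ ∈ M24, ∃ c, ∃ hc : c ∈ supports (golayCode : Set (GolayPt → ZMod 2)), g = monoAut hσ hc := by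
  choose f hf using fun i => mem_stdCross_iff.1 (hg _ (eight_mem_stdCross i))
  have finj : Function.Injective f := by
    intro i j h
    have hpm : g • eight i = g • eight j ∨ g • eight i = g • -eight j := by
      rw [co0_neg]
      rcases hf i with a | a <;> rcases hf j with b | b <;> rw [a, b, h] <;> simp
    rcases hpm with h' | h'
    · exact eight_injective (MulAction.injective g h')
    · exfalso
      have := congrFun (congrArg Subtype.val (MulAction.injective g h')) i
      simp only [eight, AddSubgroup.coe_neg, Pi.neg_apply, Pi.single_eq_same, Pi.single_apply] at this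
      split_ifs at this <;> omega
  let σ : Equiv.Perm GolayPt := Equiv.ofBijective f (Finite.injective_iff_bijective.1 finj)
  classical
  let c : Finset GolayPt := Finset.univ.filter fun j => g • eight (σ.symm j) = -eight j
  have hne : ∀ j, eight j ≠ -eight j := fun j h => by
    have := congrFun (congrArg Subtype.val h) j
    simp [eight] at this
  have hact : ∀ i, ((g • eight i : leechLattice) : GolayPt → ℤ) = signedPerm σ c (eight i : GolayPt → ℤ) := by
    intro i
    have hci : σ i ∈ c ↔ g • eight i = -eight (σ i) := by simp [c]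
    rw [show (eight i : GolayPt → ℤ) = Pi.single i 8 from rfl, signedPerm_eight]
    rcases hf i with h | h
    · rw [if_neg fun hc => hne (σ i) (h.symm.trans (hci.1 hc)), h]; rfl
    · rw [if_pos (hci.2 h), h, Pi.single_neg]; rfl
  have hall : ∀ x : leechLattice, ((g • x : leechLattice) : GolayPt → ℤ) = signedPerm σ c (x : GolayPt → ℤ) := by
    intro x
    have h1 := map_sum (AddMonoidHom.mk' (fun v : leechLattice => g • v) (co0_add g))
      (fun i => (x : GolayPt → ℤ) i • eight i) Finset.univ
    simp only [AddMonoidHom.mk'_apply, co0_zsmul, ← eight_sum] at h1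
    funext j
    have h2 := congrFun (congrArg Subtype.val h1) j
    rw [AddSubgroup.coe_zsmul, AddSubgroup.val_finset_sum, Finset.sum_apply, Pi.smul_apply] at h2
    simp only [AddSubgroup.coe_zsmul, Pi.smul_apply, hact, smul_eq_mul] at h2
    rw [Finset.sum_eq_single (σ.symm j) (fun i _ hi => by
        have : j ≠ σ i := fun e => hi (by rw [e, Equiv.symm_apply_apply])
        simp [eight, signedPerm_eight, Pi.single_eq_of_ne this]) fun h => (h (Finset.mem_univ _)).elim] at h2
    simp only [eight, signedPerm_eight, Equiv.apply_symm_apply, Pi.single_eq_same] at h2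
    simp only [signedPerm]
    split_ifs at h2 ⊢ <;> omega
  have hmem : ∀ {x : GolayPt → ℤ}, x ∈ leechLattice → signedPerm σ c x ∈ leechLattice := fun {x} hx => by
    rw [← hall ⟨x, hx⟩]; exact Subtype.prop _
  have hσ : σ ∈ M24 := by
    refine mem_M24_of_rows σ fun r hr => ?_
    have h := mem_supports_support₂.2 (mem_iff.1 (hmem (twoVec_mem (word_row_mem hr)))).2.1
    convert h using 1
    ext i
    rw [support₂, Finset.mem_filter, ← Finset.inv_smul_mem_iff, mem_pts]
    simp only [digit, Finset.mem_univ, true_and, ne_eq, zmod2_cast_eq_zero, signedPerm, twoVec,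
      Equiv.Perm.smul_def, Equiv.Perm.inv_def]
    cases r.testBit (ptIdx (σ.symm i)) <;> by_cases hic : i ∈ c <;> simp [hic]
  have hc : c ∈ supports (golayCode : Set (GolayPt → ZMod 2)) := by
    have hu := perm_mem hσ oddVec_mem
    have h1 := mem_supports_support₂.2 (mem_iff.1 (hmem hu)).2.1
    have h0 := mem_supports_support₂.2 (mem_iff.1 oddVec_mem).2.1
    convert supports_symmDiff h1 h0 using 1
    ext i
    rw [Finset.mem_symmDiff]
    simp only [support₂, Finset.mem_filter, digit, Finset.mem_univ, true_and, ne_eq, zmod2_cast_eq_zero, signedPerm,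
      Equiv.apply_symm_apply, oddVec]
    by_cases hi : i = none <;> simp only [hi, if_true, if_false] <;> split_ifs with hic <;> simp [hic]
  exact ⟨σ, hσ, c, hc, co0_ext fun i => Subtype.ext (by rw [hall, monoAut_smul])⟩

/-- The subgroup of automorphisms fixing the standard cross. -/
def crossStab : Subgroup Co0 where
  carrier := {g | PreservesCross g}
  one_mem' v hv := by rw [one_smul]; exact hv
  mul_mem' {g h} hg hh v hv := by rw [mul_smul]; exact hg _ (hh v hv)
  inv_mem' {g} hg := by
    obtain ⟨σ, hσ, c, hc, rfl⟩ := exists_monoAut hg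
    intro v hv
    rw [show (monoAut hσ hc)⁻¹ • v = (monoAut (M24.inv_mem hσ) (smul_mem_supports (M24.inv_mem hσ) hc)) • v from
      inv_smul_eq_iff.2 (Subtype.ext (by rw [monoAut_smul, monoAut_smul]; exact (signedPerm_inverse σ c _).1.symm))]
    exact monoAut_preserves _ _ v hv

theorem monoAut_inj {σ τ : Equiv.Perm GolayPt} {hσ : σ ∈ M24} {hτ : τ ∈ M24} {c d : Finset GolayPt}
    {hc : c ∈ supports (golayCode : Set (GolayPt → ZMod 2))} {hd : d ∈ supports (golayCode : Set (GolayPt → ZMod 2))}
    (h : monoAut hσ hc = monoAut hτ hd) : σ = τ ∧ c = d := by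
  have e : ∀ i, (Pi.single (σ i) (if σ i ∈ c then -(8 : ℤ) else 8) : GolayPt → ℤ) =
      Pi.single (τ i) (if τ i ∈ d then -(8 : ℤ) else 8) :=
    fun i => by
      rw [← signedPerm_eight, ← signedPerm_eight]
      exact congrArg (fun g : Co0 => ((g • eight i : leechLattice) : GolayPt → ℤ)) h
  have hστ : σ = τ := Equiv.ext fun i => by
    have := congrFun (e i) (σ i)
    by_contra hne
    rw [Pi.single_eq_same, Pi.single_eq_of_ne hne] at this
    split_ifs at this <;> omega
  subst hστ
  refine ⟨rfl, ?_⟩
  ext j
  have := congrFun (e (σ.symm j)) j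
  simp only [Equiv.apply_symm_apply, Pi.single_eq_same] at this
  by_cases h1 : j ∈ c <;> by_cases h2 : j ∈ d <;> simp [h1, h2] at this ⊢

theorem ncard_supports : (supports (golayCode : Set (GolayPt → ZMod 2))).ncard = 4096 := by
  have e : supports (golayCode : Set (GolayPt → ZMod 2)) = ↑(codeList.toFinset.image pts) := by
    ext s
    rw [mem_supports_iff, Finset.coe_image, Set.mem_image]
    constructor
    · exact fun h => ⟨maskPts s, List.mem_toFinset.2 h, pts_maskPts s⟩
    · rintro ⟨m, hm, rfl⟩
      rw [Finset.mem_coe, List.mem_toFinset] at hm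
      rwa [maskPts_pts (codeList_spec hm).1]
  rw [e, Set.ncard_coe_finset, Finset.card_image_of_injOn, List.toFinset_card_of_nodup codeList_nodup]
  · decide +kernel
  · intro a ha b hb h
    simp only [List.coe_toFinset, Set.mem_ofPred_eq] at ha hb
    exact eq_of_pts_eq (codeList_spec ha).1 (codeList_spec hb).1 h

theorem card_crossStab : Nat.card crossStab = 4096 * 244823040 := by
  let F : ↥(supports (golayCode : Set (GolayPt → ZMod 2))) × M24 → crossStab :=
    fun z => ⟨monoAut z.2.2 z.1.2, monoAut_preserves z.2.2 z.1.2⟩
  have hF : Function.Bijective F := by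
    refine ⟨fun z w h => ?_, fun g => ?_⟩
    · have h' : monoAut z.2.2 z.1.2 = monoAut w.2.2 w.1.2 := congrArg Subtype.val h
      obtain ⟨h1, h2⟩ := monoAut_inj h'
      exact Prod.ext (Subtype.ext h2) (Subtype.ext h1)
    · obtain ⟨σ, hσ, c, hc, e⟩ := exists_monoAut g.2
      exact ⟨⟨⟨c, hc⟩, ⟨σ, hσ⟩⟩, Subtype.ext e.symm⟩
  rw [← Nat.card_eq_of_bijective F hF, Nat.card_prod, Nat.card_coe_set_eq, ncard_supports, card_M24]

theorem mem_crossStab_of_congr {g : Co0} {i j : GolayPt}
    (h : g • eight i = eight j ∨ g • eight i = -eight j) : g ∈ crossStab := by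
  intro v hv
  have hin : ∀ k (w : leechLattice), (w : GolayPt → ℤ) ∈ stdCross ↔ w ∈ crossIn (eight k) := fun k w => by
    rw [← cross_single k, show (Pi.single k (8 : ℤ)) = (eight k : GolayPt → ℤ) from rfl, cross_eq_image,
      Subtype.val_injective.mem_set_image]
  rw [hin j]
  have hv' : g • v ∈ crossIn (g • eight i) := by
    rw [crossIn_smul]; exact Set.mem_image_of_mem _ ((hin i v).1 hv)
  rcases h with h | h
  · rwa [h] at hv'
  · rw [h] at hv'
    obtain ⟨hn, z, hz⟩ := hv'
    refine ⟨by simpa [sqNorm] using hn, z + eight j, ?_⟩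
    rw [smul_add, ← hz, two_nsmul]
    abel

theorem sqNorm_eight (i : GolayPt) : sqNorm (eight i : GolayPt → ℤ) = 64 := by
  simp [eight, sqNorm, Pi.single_apply]

theorem card_co0 : Nat.card Co0 = 8315553613086720000 := by
  let v := eight none
  have horb : MulAction.orbit Co0 v = normSet 64 := by
    ext w
    constructor
    · rintro ⟨g, rfl⟩
      show sqNorm ((g • v : leechLattice) : GolayPt → ℤ) = 64
      rw [co0_norm, sqNorm_eight]
    · intro hw
      obtain ⟨g, hg⟩ := transitive_norm (x := v) (y := w) (Or.inr (Or.inr (sqNorm_eight none)))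
        ((show sqNorm (w : GolayPt → ℤ) = 64 from hw).trans (sqNorm_eight none).symm)
      exact ⟨g, hg⟩
  have horb' : MulAction.orbit crossStab v = {w : leechLattice | (w : GolayPt → ℤ) ∈ stdCross} := by
    ext w
    constructor
    · rintro ⟨g, rfl⟩; exact g.2 v (eight_mem_stdCross none)
    · intro hw
      obtain ⟨i, hi⟩ := mem_stdCross_iff.1 hw
      obtain ⟨g, hg⟩ := mem_orbit_point i
      obtain ⟨g', hg'⟩ := mem_orbit_point (none : GolayPt)
      have hσ : (g * g'⁻¹ : M24) • (none : GolayPt) = i := by
        rw [mul_smul, inv_smul_eq_iff.2 hg'.symm]; exact hg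
      have hv : monoAut (g * g'⁻¹ : M24).2 Spor.empty_mem_supports_golayCode • v = eight i := by
        refine Subtype.ext ?_
        rw [monoAut_smul, show (v : GolayPt → ℤ) = Pi.single none 8 from rfl, signedPerm_eight,
          if_neg (Finset.notMem_empty _)]
        exact congrArg (fun p => Pi.single p (8 : ℤ)) hσ
      have hK : monoAut (g * g'⁻¹ : M24).2 Spor.empty_mem_supports_golayCode ∈ crossStab := monoAut_preserves _ _
      have hN : negAut ∈ crossStab := monoAut_preserves _ _
      rcases hi with rfl | rfl
      · exact ⟨⟨_, hK⟩, hv⟩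
      · refine ⟨⟨_, hN⟩ * ⟨_, hK⟩, ?_⟩
        show (negAut * monoAut (g * g'⁻¹ : M24).2 Spor.empty_mem_supports_golayCode) • v = _
        rw [mul_smul, hv, negAut_smul]
  have e1 := Nat.card_congr (MulAction.orbitProdStabilizerEquivGroup Co0 v)
  have e2 := Nat.card_congr (MulAction.orbitProdStabilizerEquivGroup crossStab v)
  rw [Nat.card_prod, Nat.card_coe_set_eq, horb, ncard_normSet, ncard64] at e1
  rw [Nat.card_prod, Nat.card_coe_set_eq, horb', card_crossStab,
    ← Set.ncard_image_of_injective _ Subtype.val_injective] at e2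
  have hset : Subtype.val '' {w : leechLattice | (w : GolayPt → ℤ) ∈ stdCross} = stdCross := by
    ext y
    refine ⟨fun ⟨w, hw, e⟩ => e ▸ hw, fun hy => ?_⟩
    obtain ⟨i, s, hs, rfl⟩ := hy
    have hm : Pi.single i s ∈ leechLattice := by
      rcases hs with rfl | rfl
      · exact single_eight_mem i
      · rw [Pi.single_neg]; exact neg_mem (single_eight_mem i)
    exact ⟨⟨_, hm⟩, ⟨i, s, hs, rfl⟩, rfl⟩
  rw [hset, ncard_stdCross] at e2
  have hstab : Nat.card (MulAction.stabilizer crossStab v) = Nat.card (MulAction.stabilizer Co0 v) :=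
    Nat.card_congr
      { toFun := fun g => ⟨g.1.1, g.2⟩
        invFun := fun g => ⟨⟨g.1, mem_crossStab_of_congr (i := none) (j := none) (Or.inl g.2)⟩, g.2⟩
        left_inv := fun _ => rfl
        right_inv := fun _ => rfl }
  rw [hstab] at e2
  omega

instance finite_co0 : Finite Co0 := Nat.finite_of_card_ne_zero (by rw [card_co0]; norm_num)

/-! ### The center -/

theorem negAut_central : negAut ∈ Subgroup.center Co0 := by
  refine Subgroup.mem_center_iff.2 fun g => co0_ext fun i => ?_
  rw [mul_smul, mul_smul, negAut_smul, negAut_smul, co0_neg]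

theorem separates : ∀ i j : GolayPt, i ≠ j →
    (rows.any fun r => r.testBit (ptIdx i) != r.testBit (ptIdx j)) = true := by decide +kernel

theorem mem_center_iff_eq {g : Co0} : g ∈ Subgroup.center Co0 ↔ g = 1 ∨ g = negAut := by
  constructor
  · intro hg
    have hcomm := Subgroup.mem_center_iff.1 hg
    have hx : ∀ i, ∀ j ≠ i, ((g • eight i : leechLattice) : GolayPt → ℤ) j = 0 := by
      intro i j hj
      obtain ⟨r, hr, hb⟩ := List.any_eq_true.1 (separates i j (Ne.symm hj))
      have hc : pts r ∈ supports (golayCode : Set (GolayPt → ZMod 2)) := ⟨word r, word_row_mem hr, support₂_word r⟩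
      have hh := congrArg (fun k : Co0 => ((k • eight i : leechLattice) : GolayPt → ℤ) j)
        (hcomm (monoAut M24.one_mem hc))
      simp only [mul_smul] at hh
      rw [monoAut_smul] at hh
      by_cases hi : i ∈ pts r
      · have hjn : j ∉ pts r := by
          rw [mem_pts] at hi ⊢
          simp only [hi, bne_iff_ne, ne_eq] at hb
          exact fun h => hb h.symm
        have he : monoAut M24.one_mem hc • eight i = -eight i := Subtype.ext (by
          rw [monoAut_smul, AddSubgroup.coe_neg, show (eight i : GolayPt → ℤ) = Pi.single i 8 from rfl,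
            signedPerm_eight, ← Pi.single_neg]
          simp [hi])
        have e : (1 : Equiv.Perm GolayPt).symm j = j := rfl
        rw [he, co0_neg, AddSubgroup.coe_neg, Pi.neg_apply] at hh
        simp only [signedPerm, e, if_neg hjn] at hh
        omega
      · have hjn : j ∈ pts r := by
          rw [mem_pts] at hi ⊢
          simp only [Bool.not_eq_true] at hi
          simpa [hi] using hb
        have he : monoAut M24.one_mem hc • eight i = eight i := Subtype.ext (by
          rw [monoAut_smul, show (eight i : GolayPt → ℤ) = Pi.single i 8 from rfl, signedPerm_eight]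
          simp [hi])
        have e : (1 : Equiv.Perm GolayPt).symm j = j := rfl
        rw [he] at hh
        simp only [signedPerm, e, if_pos hjn] at hh
        omega
    have hpm : ∀ i, g • eight i = eight i ∨ g • eight i = -eight i := by
      intro i
      have hn := co0_norm g (eight i)
      rw [sqNorm_eight, sqNorm, Finset.sum_eq_single i (fun j _ hj => by rw [hx i j hj]; norm_num)
        fun h => (h (Finset.mem_univ _)).elim] at hn
      have h8 : ((g • eight i : leechLattice) : GolayPt → ℤ) i = 8 ∨
          ((g • eight i : leechLattice) : GolayPt → ℤ) i = -8 := sq_eq_sq_iff_eq_or_eq_neg.1 (by linarith)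
      rcases h8 with h | h
      · refine Or.inl (Subtype.ext (funext fun j => ?_))
        rcases eq_or_ne j i with rfl | hj
        · rw [h]; simp [eight]
        · rw [hx i j hj]; simp [eight, hj]
      · refine Or.inr (Subtype.ext (funext fun j => ?_))
        rcases eq_or_ne j i with rfl | hj
        · rw [h]; simp [eight]
        · rw [hx i j hj]; simp [eight, hj]
    have hcons : ∀ i j, g • eight i = eight i → g • eight j = eight j := by
      intro i j hi
      obtain ⟨a, ha⟩ := mem_orbit_point i
      obtain ⟨b, hb⟩ := mem_orbit_point j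
      have hσ : ((b * a⁻¹ : M24) : Equiv.Perm GolayPt) i = j := by
        show (b * a⁻¹) • i = j
        rw [mul_smul, inv_smul_eq_iff.2 ha.symm]; exact hb
      have he : monoAut (b * a⁻¹ : M24).2 Spor.empty_mem_supports_golayCode • eight i = eight j := Subtype.ext (by
        rw [monoAut_smul, show (eight i : GolayPt → ℤ) = Pi.single i 8 from rfl, signedPerm_eight, hσ,
          if_neg (Finset.notMem_empty _)]
        rfl)
      have hh := congrArg (fun k : Co0 => k • eight i) (hcomm (monoAut (b * a⁻¹ : M24).2 Spor.empty_mem_supports_golayCode))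
      simp only [mul_smul, hi, he] at hh
      exact hh.symm
    rcases hpm none with h | h
    · exact Or.inl (co0_ext fun i => by rw [one_smul]; exact hcons none i h)
    · refine Or.inr (co0_ext fun i => ?_)
      rw [negAut_smul]
      refine (hpm i).resolve_left fun hi => ?_
      have := (hcons i none hi).symm.trans h
      have := congrFun (congrArg Subtype.val this) none
      simp [eight] at this
  · rintro (rfl | rfl)
    · exact Subgroup.one_mem _
    · exact negAut_central

theorem negAut_ne_one : negAut ≠ 1 := fun h => by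
  have := congrFun (congrArg (fun g : Co0 => ((g • eight none : leechLattice) : GolayPt → ℤ)) h) none
  simp only [negAut_smul, one_smul, AddSubgroup.coe_neg, Pi.neg_apply, eight, Pi.single_eq_same] at this
  omega

theorem card_center : Nat.card (Subgroup.center Co0) = 2 := by
  rw [← SetLike.coe_sort_coe, Nat.card_coe_set_eq,
    show (Subgroup.center Co0 : Set Co0) = {1, negAut} from Set.ext fun g => mem_center_iff_eq,
    Set.ncard_pair negAut_ne_one.symm]

end CfsgLib.Spor.Leech
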