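/-
Pairs of minimal vectors with a given inner product: one orbit each, and the census.
-/
import Cfsg.Agent.Lib.Spor.Leech.CrossStab

namespace CfsgLib.Spor.Leech

open Cfsg
open scoped Pointwise

/-- First marked point. -/
def pP : GolayPt := idxPt 0
/-- Second marked point. -/
def pQ : GolayPt := idxPt 1
/-- Third marked point. -/
def pR : GolayPt := idxPt 2

theorem marked_ne : pP ≠ pQ ∧ pP ≠ pR ∧ pQ ≠ pR := by decide +kernel

theorem single_four_mem {a b : GolayPt} {s t : ℤ} (hs : s = 4 ∨ s = -4) (ht : t = 4 ∨ t = -4) :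
    Pi.single a s + Pi.single b t ∈ leechLattice := by
  have h := fourVec_mem a b
  have key : ∀ {u : ℤ}, (u = 4 ∨ u = -4) → ∀ c : GolayPt, ∃ n : ℤ,
      (Pi.single c u : GolayPt → ℤ) = Pi.single c 4 - n • Pi.single c (8 : ℤ) := fun {u} hu c => by
    rcases hu with rfl | rfl
    · exact ⟨0, by simp⟩
    · exact ⟨1, by rw [one_smul, ← Pi.single_sub]; norm_num⟩
  obtain ⟨m, hm⟩ := key hs a
  obtain ⟨n, hn⟩ := key ht b
  rw [hm, hn, show Pi.single a (4 : ℤ) - m • Pi.single a 8 + (Pi.single b 4 - n • Pi.single b 8) =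
      fourVec a b - (m • Pi.single a 8 + n • Pi.single b 8) by simp only [fourVec]; abel]
  exact sub_mem h (add_mem (leechLattice.zsmul_mem (single_eight_mem a) _)
    (leechLattice.zsmul_mem (single_eight_mem b) _))

theorem dot_single_pair (a b : GolayPt) (s t : ℤ) (w : GolayPt → ℤ) :
    dotInt (Pi.single a s + Pi.single b t) w = s * w a + t * w b := by
  simp [dotInt, Pi.single_apply, add_mul, Finset.sum_add_distrib]

theorem sqNorm_single_pair {a b : GolayPt} (hab : a ≠ b) {s t : ℤ} (hs : s = 4 ∨ s = -4) (ht : t = 4 ∨ t = -4) :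
    sqNorm (Pi.single a s + Pi.single b t) = 32 := by
  rw [sqNorm_add, dotInt]
  simp [sqNorm, Pi.single_apply, hab.symm]
  rcases hs with rfl | rfl <;> rcases ht with rfl | rfl <;> norm_num

/-- The fixed minimal vector. -/
def vP : leechLattice := ⟨Pi.single pP 4 + Pi.single pQ 4, single_four_mem (Or.inl rfl) (Or.inl rfl)⟩
/-- A minimal vector orthogonal to it. -/
def oP : leechLattice := ⟨Pi.single pP 4 + Pi.single pQ (-4), single_four_mem (Or.inl rfl) (Or.inr rfl)⟩
/-- One of inner product `-16` with it. -/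
def w16 : leechLattice := ⟨Pi.single pP (-4) + Pi.single pR 4, single_four_mem (Or.inr rfl) (Or.inl rfl)⟩
/-- One of inner product `-8` with it. -/
def w8 : leechLattice := ⟨mkVec 3 5 1 (pts 4) (pts 0) (pts 16777211), leechTest_spec (by decide +kernel)⟩

theorem sqNorm_marked : sqNorm (vP : GolayPt → ℤ) = 32 ∧ sqNorm (oP : GolayPt → ℤ) = 32 ∧
    sqNorm (w16 : GolayPt → ℤ) = 32 ∧ sqNorm (w8 : GolayPt → ℤ) = 32 ∧ dotInt (vP : GolayPt → ℤ) oP = 0 ∧
    dotInt (vP : GolayPt → ℤ) w16 = -16 ∧ dotInt (vP : GolayPt → ℤ) w8 = -8 := by decide +kernel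

theorem half_unique {x y : leechLattice} (h : x + x = y + y) : x = y := by
  refine Subtype.ext (funext fun i => ?_)
  have := congrFun (congrArg Subtype.val h) i
  simp only [AddSubgroup.coe_add, Pi.add_apply] at this
  omega

/-- A monomial automorphism fixing the two marked points with their signs. -/
theorem monoAut_fix {σ : Equiv.Perm GolayPt} (hσ : σ ∈ M24) {c : Finset GolayPt}
    (hc : c ∈ supports (golayCode : Set (GolayPt → ZMod 2))) (h1 : σ pP = pP) (h2 : σ pQ = pQ)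
    (hP : pP ∉ c) (hQ : pQ ∉ c) : monoAut hσ hc • vP = vP ∧ monoAut hσ hc • oP = oP := by
  constructor <;> refine Subtype.ext ?_ <;>
    simp only [monoAut_smul, vP, oP, signedPerm_add, signedPerm_eight, h1, h2, if_neg hP, if_neg hQ]

theorem orth_form {v w : leechLattice} (hv : sqNorm (v : GolayPt → ℤ) = 32) (hw : sqNorm (w : GolayPt → ℤ) = 32)
    (hd : dotInt (v : GolayPt → ℤ) w = 0) : ∃ g : Co0, g • v = vP ∧ g • w = oP := by
  have hs : sqNorm ((v + w : leechLattice) : GolayPt → ℤ) = 64 := by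
    rw [AddSubgroup.coe_add, sqNorm_add, hv, hw, hd]; norm_num
  obtain ⟨g, hg⟩ := transitive_norm (x := v + w) (y := eight pP) (Or.inr (Or.inr hs))
    ((sqNorm_eight _).trans hs.symm)
  have hd64 : sqNorm ((v - w : leechLattice) : GolayPt → ℤ) = 64 := by
    rw [AddSubgroup.coe_sub, sqNorm_sub, hv, hw, hd]; norm_num
  have hin : g • (v - w) ∈ crossIn (eight pP) := by
    rw [← hg, crossIn_smul]
    exact Set.mem_image_of_mem _ ⟨hd64.trans hs.symm, w, by rw [two_nsmul]; abel⟩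
  have hstd : ((g • (v - w) : leechLattice) : GolayPt → ℤ) ∈ stdCross := by
    rw [← cross_single pP, show (Pi.single pP (8 : ℤ)) = (eight pP : GolayPt → ℤ) from rfl, cross_eq_image]
    exact ⟨_, hin, rfl⟩
  obtain ⟨b, hb⟩ := mem_stdCross_iff.1 hstd
  have hdot : dotInt (eight pP : GolayPt → ℤ) (g • (v - w) : leechLattice) = 0 := by
    rw [← hg, co0_dot]
    simp only [AddSubgroup.coe_add, AddSubgroup.coe_sub, dotInt, Pi.add_apply, Pi.sub_apply]
    have e : ∑ i, ((v : GolayPt → ℤ) i + (w : GolayPt → ℤ) i) * ((v : GolayPt → ℤ) i - (w : GolayPt → ℤ) i) =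
        sqNorm (v : GolayPt → ℤ) - sqNorm (w : GolayPt → ℤ) := by
      rw [sqNorm, sqNorm, ← Finset.sum_sub_distrib]; exact Finset.sum_congr rfl fun i _ => by ring
    rw [e, hv, hw, sub_self]
  have hbP : b ≠ pP := by
    rintro rfl
    rcases hb with h | h <;> rw [h] at hdot <;> simp [dotInt, eight, Pi.single_apply] at hdot
  obtain ⟨τ, hτ⟩ := ordered_points (n := 2) (by norm_num) ![pP, pQ] (by
    intro i j; fin_cases i <;> fin_cases j <;> simp [marked_ne.1, marked_ne.1.symm])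
  obtain ⟨τ', hτ'⟩ := ordered_points (n := 2) (by norm_num) ![pP, b] (by
    intro i j; fin_cases i <;> fin_cases j <;> simp [hbP, hbP.symm])
  have a0 : τ • bpt 0 = pP := hτ 0
  have a1 : τ • bpt 1 = pQ := hτ 1
  have b0 : τ' • bpt 0 = pP := hτ' 0
  have b1 : τ' • bpt 1 = b := hτ' 1
  have s0 : ((τ * τ'⁻¹ : M24) : Equiv.Perm GolayPt) pP = pP := by
    show (τ * τ'⁻¹) • pP = pP
    rw [mul_smul, inv_smul_eq_iff.2 b0.symm, a0]
  have s1 : ((τ * τ'⁻¹ : M24) : Equiv.Perm GolayPt) b = pQ := by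
    show (τ * τ'⁻¹) • b = pQ
    rw [mul_smul, inv_smul_eq_iff.2 b1.symm, a1]
  obtain ⟨c, hc, hcP, hcQ⟩ : ∃ c, ∃ _ : c ∈ supports (golayCode : Set (GolayPt → ZMod 2)),
      pP ∉ c ∧ (pQ ∈ c ↔ g • (v - w) = -eight b) := by
    by_cases h : g • (v - w) = -eight b
    · refine ⟨pts ((codeList.find? fun m => !m.testBit 0 && m.testBit 1).getD 0),
        pts_supports (by decide +kernel), by decide +kernel, iff_of_true (by decide +kernel) h⟩
    · exact ⟨∅, Spor.empty_mem_supports_golayCode, Finset.notMem_empty _, iff_of_false (Finset.notMem_empty _) h⟩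
  let h := monoAut (τ * τ'⁻¹ : M24).2 hc
  have hP : h • eight pP = eight pP := Subtype.ext (by
    rw [monoAut_smul, show (eight pP : GolayPt → ℤ) = Pi.single pP 8 from rfl, signedPerm_eight, s0, if_neg hcP])
  have hQ : h • (g • (v - w)) = eight pQ := by
    refine Subtype.ext ?_
    rw [monoAut_smul]
    by_cases hn : g • (v - w) = -eight b
    · rw [hn, AddSubgroup.coe_neg, show (eight b : GolayPt → ℤ) = Pi.single b 8 from rfl, ← Pi.single_neg,
        signedPerm_eight, s1, if_pos (hcQ.2 hn)]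
      simp [eight]
    · rw [hb.resolve_right hn, show (eight b : GolayPt → ℤ) = Pi.single b 8 from rfl, signedPerm_eight, s1,
        if_neg (fun h' => hn (hcQ.1 h'))]
      rfl
  have hg' : (h * g) • (v + w) = eight pP := by rw [mul_smul, hg, hP]
  have hd' : (h * g) • (v - w) = eight pQ := by rw [mul_smul, hQ]
  rw [co0_add] at hg'
  rw [co0_sub] at hd'
  refine ⟨h * g, half_unique ?_, half_unique ?_⟩
  · rw [show vP + vP = eight pP + eight pQ from by decide +kernel, ← hg', ← hd']; abel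
  · rw [show oP + oP = eight pP - eight pQ from by decide +kernel, ← hg', ← hd']; abel

theorem natAbs_shape {a b r p q : ℕ} (hab : a ≠ b) (har : a ≠ r) (hbr : b ≠ r) {x : GolayPt → ℤ}
    (h : HasShape a b r p q x) (i : GolayPt) : (x i).natAbs = a ∨ (x i).natAbs = b ∧ 0 < q ∨ (x i).natAbs = r := by
  have e := natAbs_mkVec a b r (lvl x a) (lvl x b) (Finset.univ.filter fun i => x i < 0) i
  rw [← eq_mkVec hab har hbr h] at e
  rw [e, mag]
  split_ifs with h1 h2
  · exact Or.inl rfl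
  · exact Or.inr (Or.inl ⟨rfl, h.2.1 ▸ Finset.card_pos.2 ⟨i, h2⟩⟩)
  · exact Or.inr (Or.inr rfl)

theorem shape32 (w : leechLattice) (hw : sqNorm (w : GolayPt → ℤ) = 32) :
    (HasShape 4 8 0 2 0 (w : GolayPt → ℤ) ∧ ∀ i, ((w : GolayPt → ℤ) i).natAbs = 4 ∨ ((w : GolayPt → ℤ) i).natAbs = 0) ∨
    (HasShape 2 4 0 8 0 (w : GolayPt → ℤ) ∧ ∀ i, ((w : GolayPt → ℤ) i).natAbs = 2 ∨ ((w : GolayPt → ℤ) i).natAbs = 0) ∨
    (HasShape 3 5 1 1 0 (w : GolayPt → ℤ) ∧ ∀ i, ((w : GolayPt → ℤ) i).natAbs = 3 ∨ ((w : GolayPt → ℤ) i).natAbs = 1) := by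
  have h : (w : GolayPt → ℤ) ∈ {x : GolayPt → ℤ | x ∈ leechLattice ∧ sqNorm x = 32} := ⟨w.2, hw⟩
  rw [set32] at h
  rcases h with (⟨-, h⟩ | ⟨-, h⟩) | ⟨-, h⟩
  · refine Or.inl ⟨h, fun i => ?_⟩
    have := natAbs_shape (by norm_num) (by norm_num) (by norm_num) h i
    omega
  · refine Or.inr (Or.inl ⟨h, fun i => ?_⟩)
    have := natAbs_shape (by norm_num) (by norm_num) (by norm_num) h i
    omega
  · refine Or.inr (Or.inr ⟨h, fun i => ?_⟩)
    have := natAbs_shape (by norm_num) (by norm_num) (by norm_num) h i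
    omega

/-- An octad avoiding the two marked points. -/
def awayOctad : ℕ := (codeList.find? fun m => pop 24 m == 8 && !m.testBit 0 && !m.testBit 1).getD 0

theorem awayOctad_facts : codeTest awayOctad = true ∧ pop 24 awayOctad = 8 ∧ sqNorm (twoVec awayOctad) = 32 ∧
    ∀ i ∈ pts awayOctad, i ≠ pP ∧ i ≠ pQ := by decide +kernel

theorem exists_partner16 (w : leechLattice) (hw : sqNorm (w : GolayPt → ℤ) = 32)
    (hd : dotInt (vP : GolayPt → ℤ) w = -16) : ∃ x : leechLattice, sqNorm (x : GolayPt → ℤ) = 32 ∧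
      dotInt (vP : GolayPt → ℤ) x = 0 ∧ dotInt (x : GolayPt → ℤ) w = -16 := by
  rw [show (vP : GolayPt → ℤ) = Pi.single pP 4 + Pi.single pQ 4 from rfl, dot_single_pair] at hd
  obtain ⟨ne1, -, -⟩ := marked_ne
  have hvP : ∀ x : GolayPt → ℤ, dotInt (vP : GolayPt → ℤ) x = 4 * x pP + 4 * x pQ := fun x => dot_single_pair _ _ _ _ x
  rcases shape32 w hw with ⟨-, hv⟩ | ⟨hs, hv⟩ | ⟨hs, hv⟩
  · have := hv pP; have := hv pQ
    obtain hp | hq : (w : GolayPt → ℤ) pP = -4 ∧ (w : GolayPt → ℤ) pQ = 0 ∨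
        (w : GolayPt → ℤ) pP = 0 ∧ (w : GolayPt → ℤ) pQ = -4 := by omega
    · refine ⟨oP, sqNorm_marked.2.1, sqNorm_marked.2.2.2.2.1, ?_⟩
      rw [show (oP : GolayPt → ℤ) = Pi.single pP 4 + Pi.single pQ (-4) from rfl, dot_single_pair, hp.1, hp.2]; norm_num
    · refine ⟨⟨Pi.single pP (-4) + Pi.single pQ 4, single_four_mem (Or.inr rfl) (Or.inl rfl)⟩,
        sqNorm_single_pair ne1 (Or.inr rfl) (Or.inl rfl), by rw [hvP]; simp [ne1, ne1.symm], ?_⟩
      show dotInt (Pi.single pP (-4) + Pi.single pQ 4) _ = _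
      rw [dot_single_pair, hq.1, hq.2]; norm_num
  · have := hv pP; have := hv pQ
    have h3 : 2 ≤ (((lvl (w : GolayPt → ℤ) 2).erase pP).erase pQ).card := by
      have := Finset.pred_card_le_card_erase (s := lvl (w : GolayPt → ℤ) 2) (a := pP)
      have := Finset.pred_card_le_card_erase (s := (lvl (w : GolayPt → ℤ) 2).erase pP) (a := pQ)
      have : (lvl (w : GolayPt → ℤ) 2).card = 8 := hs.1
      omega
    obtain ⟨a, ha, b, hb, hab⟩ := Finset.one_lt_card.1 h3
    simp only [Finset.mem_erase, mem_lvl] at ha hb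
    refine ⟨⟨Pi.single a (-2 * (w : GolayPt → ℤ) a) + Pi.single b (-2 * (w : GolayPt → ℤ) b),
      single_four_mem (by omega) (by omega)⟩, sqNorm_single_pair hab (by omega) (by omega), ?_, ?_⟩
    · rw [hvP]
      simp [ha.1, ha.2.1, hb.1, hb.2.1, Ne.symm ha.1, Ne.symm ha.2.1, Ne.symm hb.1, Ne.symm hb.2.1]
    · show dotInt (Pi.single a (-2 * (w : GolayPt → ℤ) a) + Pi.single b (-2 * (w : GolayPt → ℤ) b)) _ = _
      rw [dot_single_pair]
      rcases (by omega : (w : GolayPt → ℤ) a = 2 ∨ (w : GolayPt → ℤ) a = -2) with e | e <;>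
        rcases (by omega : (w : GolayPt → ℤ) b = 2 ∨ (w : GolayPt → ℤ) b = -2) with e' | e' <;> rw [e, e'] <;> norm_num
  · have := hv pP; have := hv pQ
    obtain ⟨ho, ho8, hon, hoff⟩ := awayOctad_facts
    generalize awayOctad = o at ho ho8 hon hoff
    have hd' : support₂ (digit (w : GolayPt → ℤ)) ∈ supports (golayCode : Set (GolayPt → ZMod 2)) :=
      mem_supports_support₂.2 (mem_iff.1 w.2).2.1
    let x : leechLattice := -(monoAut M24.one_mem hd' • ⟨twoVec o, twoVec_mem ((word_mem_golayCode_iff o).2 ho)⟩)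
    have hk : ∃ k, lvl (w : GolayPt → ℤ) 3 = {k} ∧ (k = pP ∨ k = pQ) := by
      obtain ⟨k, hk⟩ := Finset.card_eq_one.1 hs.1
      obtain h | h : ((w : GolayPt → ℤ) pP).natAbs = 3 ∨ ((w : GolayPt → ℤ) pQ).natAbs = 3 := by omega
      · exact ⟨k, hk, Or.inl (Finset.mem_singleton.1 (hk ▸ mem_lvl.2 h)).symm⟩
      · exact ⟨k, hk, Or.inr (Finset.mem_singleton.1 (hk ▸ mem_lvl.2 h)).symm⟩
    obtain ⟨k, hk, hkPQ⟩ := hk
    have hx : ∀ i, (x : GolayPt → ℤ) i = if i ∈ pts o then -2 * (w : GolayPt → ℤ) i else 0 := by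
      intro i
      have e1 : (1 : Equiv.Perm GolayPt).symm i = i := rfl
      simp only [x, AddSubgroup.coe_neg, Pi.neg_apply, monoAut_smul, signedPerm, e1, twoVec, mem_pts]
      by_cases hi : o.testBit (ptIdx i) = true
      · have h13 : ((w : GolayPt → ℤ) i).natAbs = 1 := (hv i).resolve_left fun h => by
          have e := Finset.mem_singleton.1 (hk ▸ mem_lvl.2 h)
          obtain ⟨o1, o2⟩ := hoff i (mem_pts.2 hi)
          rcases hkPQ with e' | e' <;> [exact o1 (e.trans e'); exact o2 (e.trans e')]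
        have hmem : i ∈ support₂ (digit (w : GolayPt → ℤ)) ↔ (w : GolayPt → ℤ) i = -1 := by
          rw [support₂, Finset.mem_filter]
          simp only [digit, Finset.mem_univ, true_and, ne_eq, zmod2_cast_eq_zero]
          omega
        simp only [hi, if_true, hmem]
        split_ifs <;> omega
      · simp [hi]
    refine ⟨x, ?_, ?_, ?_⟩
    · show sqNorm ((x : leechLattice) : GolayPt → ℤ) = 32
      simp only [x, AddSubgroup.coe_neg]
      rw [show sqNorm (-((monoAut M24.one_mem hd' • ⟨twoVec o, _⟩ : leechLattice) : GolayPt → ℤ)) =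
        sqNorm ((monoAut M24.one_mem hd' • ⟨twoVec o, twoVec_mem ((word_mem_golayCode_iff o).2 ho)⟩ : leechLattice) :
          GolayPt → ℤ) from by simp [sqNorm], co0_norm]
      exact hon
    · rw [hvP, hx, hx, if_neg fun h => (hoff pP h).1 rfl, if_neg fun h => (hoff pQ h).2 rfl]; rfl
    · have e : ∀ i, (x : GolayPt → ℤ) i * (w : GolayPt → ℤ) i = if i ∈ pts o then -2 else 0 := fun i => by
        rw [hx]
        by_cases hi : i ∈ pts o
        · rw [if_pos hi, if_pos hi]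
          have h1 : ((w : GolayPt → ℤ) i).natAbs = 1 := (hv i).resolve_left fun h => by
            have e := Finset.mem_singleton.1 (hk ▸ mem_lvl.2 h)
            rcases hkPQ with e' | e' <;> [exact (hoff i hi).1 (e.trans e'); exact (hoff i hi).2 (e.trans e')]
          rcases (by omega : (w : GolayPt → ℤ) i = 1 ∨ (w : GolayPt → ℤ) i = -1) with e | e <;> rw [e] <;> norm_num
        · rw [if_neg hi, if_neg hi, zero_mul]
      rw [dotInt, Finset.sum_congr rfl fun i _ => e i, Finset.sum_ite_mem, Finset.univ_inter, Finset.sum_const,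
        show (pts o).card = 8 from (card_pts o).trans ho8]
      norm_num

theorem exists_partner8 (w : leechLattice) (hw : sqNorm (w : GolayPt → ℤ) = 32) :
    ∃ x : leechLattice, sqNorm (x : GolayPt → ℤ) = 32 ∧
      dotInt (vP : GolayPt → ℤ) x = 0 ∧ dotInt (x : GolayPt → ℤ) w = 0 := by
  obtain ⟨a, ha, b, hb, hab, he⟩ := Finset.exists_ne_map_eq_of_card_lt_of_maps_to
    (s := (Finset.univ : Finset GolayPt) \ {pP, pQ}) (t := Finset.range 9)
    (f := fun i => ((w : GolayPt → ℤ) i).natAbs) (by decide +kernel)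
    (fun i _ => Finset.mem_coe.2 (Finset.mem_range.2 (natAbs_le_eight (by omega) i)))
  simp only [Finset.mem_sdiff, Finset.mem_univ, true_and, Finset.mem_insert, Finset.mem_singleton, not_or] at ha hb
  obtain ⟨t, ht, e⟩ : ∃ t : ℤ, (t = 4 ∨ t = -4) ∧ 4 * (w : GolayPt → ℤ) a + t * (w : GolayPt → ℤ) b = 0 := by
    by_cases h : (w : GolayPt → ℤ) a = (w : GolayPt → ℤ) b
    · exact ⟨-4, Or.inr rfl, by rw [h]; ring⟩
    · exact ⟨4, Or.inl rfl, by
        have : (w : GolayPt → ℤ) a = -(w : GolayPt → ℤ) b := by omega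
        rw [this]; ring⟩
  refine ⟨⟨Pi.single a 4 + Pi.single b t, single_four_mem (Or.inl rfl) ht⟩,
    sqNorm_single_pair hab (Or.inl rfl) ht, ?_, by rw [dot_single_pair]; exact e⟩
  rw [show (vP : GolayPt → ℤ) = Pi.single pP 4 + Pi.single pQ 4 from rfl, dot_single_pair]
  simp [ha.1, ha.2, hb.1, hb.2, Ne.symm ha.1, Ne.symm ha.2, Ne.symm hb.1, Ne.symm hb.2]

/-- Move a partner to the marked one. -/
theorem exists_marked {x w : leechLattice} (hx : sqNorm (x : GolayPt → ℤ) = 32)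
    (hd : dotInt (vP : GolayPt → ℤ) x = 0) {n m : ℤ} (hn : dotInt (vP : GolayPt → ℤ) w = n)
    (hm : dotInt (x : GolayPt → ℤ) w = m) :
    ∃ g : Co0, g • vP = vP ∧ 4 * ((g • w : leechLattice) : GolayPt → ℤ) pP + 4 * ((g • w : leechLattice) : GolayPt → ℤ) pQ = n ∧
      4 * ((g • w : leechLattice) : GolayPt → ℤ) pP + -4 * ((g • w : leechLattice) : GolayPt → ℤ) pQ = m := by
  obtain ⟨g, h1, h2⟩ := orth_form sqNorm_marked.1 hx hd
  refine ⟨g, h1, ?_, ?_⟩
  · rw [← dot_single_pair, show Pi.single pP (4 : ℤ) + Pi.single pQ 4 = ((g • vP : leechLattice) : GolayPt → ℤ) by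
      rw [h1]; rfl, co0_dot, hn]
  · rw [← dot_single_pair, show Pi.single pP (4 : ℤ) + Pi.single pQ (-4) = ((g • x : leechLattice) : GolayPt → ℤ) by
      rw [h2]; rfl, co0_dot, hm]

/-- An element of the code's group fixing the marked pair and moving one more point. -/
theorem exists_fix_move {k : GolayPt} (hkP : k ≠ pP) (hkQ : k ≠ pQ) :
    ∃ σ ∈ M24, σ pP = pP ∧ σ pQ = pQ ∧ σ k = pR := by
  obtain ⟨n1, n2, n3⟩ := marked_ne
  obtain ⟨τ, hτ⟩ := ordered_points (n := 3) (by norm_num) ![pP, pQ, pR] (by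
    intro i j; fin_cases i <;> fin_cases j <;> simp [n1, n2, n3, n1.symm, n2.symm, n3.symm])
  obtain ⟨τ', hτ'⟩ := ordered_points (n := 3) (by norm_num) ![pP, pQ, k] (by
    intro i j; fin_cases i <;> fin_cases j <;> simp [n1, n1.symm, hkP, hkQ, hkP.symm, hkQ.symm])
  have t0 : τ' • bpt 0 = pP := hτ' 0
  have t1 : τ' • bpt 1 = pQ := hτ' 1
  have t2 : τ' • bpt 2 = k := hτ' 2
  refine ⟨_, (τ * τ'⁻¹ : M24).2, ?_, ?_, ?_⟩
  · show (τ * τ'⁻¹) • pP = pP
    rw [mul_smul, inv_smul_eq_iff.2 t0.symm]; exact hτ 0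
  · show (τ * τ'⁻¹) • pQ = pQ
    rw [mul_smul, inv_smul_eq_iff.2 t1.symm]; exact hτ 1
  · show (τ * τ'⁻¹) • k = pR
    rw [mul_smul, inv_smul_eq_iff.2 t2.symm]; exact hτ 2

theorem form16 {v w : leechLattice} (hv : sqNorm (v : GolayPt → ℤ) = 32) (hw : sqNorm (w : GolayPt → ℤ) = 32)
    (hd : dotInt (v : GolayPt → ℤ) w = -16) : ∃ g : Co0, g • v = vP ∧ g • w = w16 := by
  obtain ⟨g, hg⟩ := transitive_norm (x := v) (y := vP) (Or.inl hv) (sqNorm_marked.1.trans hv.symm)
  have hw' := (co0_norm g w).trans hw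
  have hd' : dotInt (vP : GolayPt → ℤ) (g • w : leechLattice) = -16 := by rw [← hg, co0_dot, hd]
  obtain ⟨x, hx, hxd, hxw⟩ := exists_partner16 _ hw' hd'
  obtain ⟨g', h1, h2, h3⟩ := exists_marked hx hxd hd' hxw
  have hw'' := (co0_norm g' (g • w)).trans hw'
  rcases shape32 _ hw'' with ⟨hs, hv'⟩ | ⟨-, hv'⟩ | ⟨-, hv'⟩
  rotate_left
  · have := hv' pP; omega
  · have := hv' pP; omega
  set u := g' • g • w
  obtain ⟨i, j, hij, e⟩ := Finset.card_eq_two.1 hs.1
  have hP4 : pP ∈ lvl (u : GolayPt → ℤ) 4 := mem_lvl.2 (by omega)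
  obtain ⟨k, hkP, hk⟩ : ∃ k, k ≠ pP ∧ lvl (u : GolayPt → ℤ) 4 = {pP, k} := by
    rw [e, Finset.mem_insert, Finset.mem_singleton] at hP4
    rcases hP4 with h | h
    · exact ⟨j, h ▸ hij.symm, h ▸ e⟩
    · exact ⟨i, h ▸ hij, h ▸ (e.trans (Finset.pair_comm i j))⟩
  have hkv : ((u : GolayPt → ℤ) k).natAbs = 4 := mem_lvl.1 (hk ▸ Finset.mem_insert_of_mem (Finset.mem_singleton_self k))
  have hkQ : k ≠ pQ := by rintro rfl; omega
  have hu : (u : GolayPt → ℤ) = Pi.single pP (-4) + Pi.single k ((u : GolayPt → ℤ) k) := by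
    funext l
    rcases eq_or_ne l pP with rfl | hlP
    · simp [hkP.symm]; omega
    · rcases eq_or_ne l k with rfl | hlk
      · simp [hlP]
      · have : ((u : GolayPt → ℤ) l).natAbs ≠ 4 := fun h => by
          have := hk ▸ mem_lvl.2 h
          simp [hlP, hlk] at this
        have := hv' l
        simp [hlP, hlk]; omega
  obtain ⟨σ, hσ, sP, sQ, sk⟩ := exists_fix_move hkP hkQ
  obtain ⟨c, hc, cP, cQ, cR⟩ : ∃ c, ∃ _ : c ∈ supports (golayCode : Set (GolayPt → ZMod 2)),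
      pP ∉ c ∧ pQ ∉ c ∧ (pR ∈ c ↔ (u : GolayPt → ℤ) k = -4) := by
    by_cases h : (u : GolayPt → ℤ) k = -4
    · refine ⟨pts ((codeList.find? fun m => !m.testBit 0 && !m.testBit 1 && m.testBit 2).getD 0),
        pts_supports (by decide +kernel), by decide +kernel, by decide +kernel, iff_of_true (by decide +kernel) h⟩
    · exact ⟨∅, Spor.empty_mem_supports_golayCode, Finset.notMem_empty _, Finset.notMem_empty _,
        iff_of_false (Finset.notMem_empty _) h⟩
  refine ⟨monoAut hσ hc * (g' * g), ?_, ?_⟩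
  · rw [mul_smul, mul_smul, hg, h1, (monoAut_fix hσ hc sP sQ cP cQ).1]
  · rw [mul_smul, mul_smul]
    refine Subtype.ext ?_
    rw [monoAut_smul, show g' • g • w = u from rfl, hu, signedPerm_add, signedPerm_eight, signedPerm_eight, sP, sk,
      if_neg cP]
    simp only [w16]
    congr 1
    congr 1
    split_ifs with h
    · have := cR.1 h; omega
    · have : (u : GolayPt → ℤ) k ≠ -4 := mt cR.2 h
      omega

theorem form8 {v w : leechLattice} (hv : sqNorm (v : GolayPt → ℤ) = 32) (hw : sqNorm (w : GolayPt → ℤ) = 32)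
    (hd : dotInt (v : GolayPt → ℤ) w = -8) : ∃ g : Co0, g • v = vP ∧ g • w = w8 := by
  obtain ⟨g, hg⟩ := transitive_norm (x := v) (y := vP) (Or.inl hv) (sqNorm_marked.1.trans hv.symm)
  have hw' := (co0_norm g w).trans hw
  have hd' : dotInt (vP : GolayPt → ℤ) (g • w : leechLattice) = -8 := by rw [← hg, co0_dot, hd]
  obtain ⟨x, hx, hxd, hxw⟩ := exists_partner8 _ hw'
  obtain ⟨g', h1, h2, h3⟩ := exists_marked hx hxd hd' hxw
  have hw'' := (co0_norm g' (g • w)).trans hw'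
  rcases shape32 _ hw'' with ⟨-, hv'⟩ | ⟨-, hv'⟩ | ⟨hs, hv'⟩
  · have := hv' pP; omega
  · have := hv' pP; omega
  set u := g' • g • w
  obtain ⟨k, hk⟩ := Finset.card_eq_one.1 hs.1
  have hkv : ((u : GolayPt → ℤ) k).natAbs = 3 := mem_lvl.1 (hk ▸ Finset.mem_singleton_self k)
  have hkP : k ≠ pP := by rintro rfl; omega
  have hkQ : k ≠ pQ := by rintro rfl; omega
  obtain ⟨σ, hσ, sP, sQ, sk⟩ := exists_fix_move hkP hkQ
  obtain ⟨σv, hσv⟩ : ∃ σv, σv = monoAut hσ Spor.empty_mem_supports_golayCode • u := ⟨_, rfl⟩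
  have hl : ∀ n, lvl (σv : GolayPt → ℤ) n = σ • lvl (u : GolayPt → ℤ) n := fun n => by
    rw [hσv, monoAut_smul, lvl_signedPerm]
  have hA : lvl (σv : GolayPt → ℤ) 3 = pts 4 := by
    rw [hl, hk, Finset.smul_finset_singleton, Equiv.Perm.smul_def, sk]; decide +kernel
  have hB : lvl (σv : GolayPt → ℤ) 5 = pts 0 := by
    rw [hl, Finset.card_eq_zero.1 hs.2.1, Finset.smul_finset_empty]; decide +kernel
  obtain ⟨M, hM⟩ : ∃ M, (σv : GolayPt → ℤ) = mkVec 3 5 1 (pts 4) (pts 0) M := by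
    refine ⟨Finset.univ.filter fun i => (σv : GolayPt → ℤ) i < 0, ?_⟩
    rw [← hA, ← hB]
    refine eq_mkVec (p := 1) (q := 0) (by norm_num) (by norm_num) (by norm_num) ⟨?_, ?_, ?_, hs.2.2.2⟩ <;>
      rw [cnt, hl, card_smul_finset']
    exacts [hs.1, hs.2.1, hs.2.2.1]
  have hdd : Disjoint (pts 4) (pts 0) := by decide +kernel
  have c1 := (odd_mem_iff hdd (by decide +kernel) M).1 (hM ▸ σv.2)
  have c2 := (odd_mem_iff hdd (by decide +kernel) (pts 16777211)).1 w8.2
  have hc := supports_symmDiff c1 c2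
  have val : ∀ p, (σ p = p) → (σv : GolayPt → ℤ) p = (u : GolayPt → ℤ) p := fun p hp => by
    rw [hσv, monoAut_smul, signedPerm, if_neg (Finset.notMem_empty p)]
    conv_lhs => rw [show σ.symm p = p from σ.symm_apply_eq.2 hp.symm]
  have hmem : ∀ p, p ∈ pts 16777211 → p ∉ pts 4 → p ∉ pts 0 → (σv : GolayPt → ℤ) p = -1 →
      p ∉ symmDiff (symmDiff (pts 4) M) (symmDiff (pts 4) (pts 16777211)) := fun p hp h4 h0 hval => by
    have hpM : p ∈ M := by
      by_contra hn
      rw [hM] at hval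
      simp [mkVec, mag, h4, h0, hn] at hval
    simp [Finset.mem_symmDiff, hp, hpM]
  have cP := hmem pP (by decide +kernel) (by decide +kernel) (by decide +kernel) (by rw [val pP sP]; omega)
  have cQ := hmem pQ (by decide +kernel) (by decide +kernel) (by decide +kernel) (by rw [val pQ sQ]; omega)
  refine ⟨monoAut M24.one_mem hc * (monoAut hσ Spor.empty_mem_supports_golayCode * (g' * g)), ?_, ?_⟩
  · rw [mul_smul, mul_smul, mul_smul, hg, h1,
      (monoAut_fix hσ _ sP sQ (Finset.notMem_empty _) (Finset.notMem_empty _)).1,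
      (monoAut_fix M24.one_mem hc rfl rfl cP cQ).1]
  · rw [mul_smul, mul_smul, mul_smul, ← hσv]
    refine Subtype.ext ?_
    rw [monoAut_smul, hM, signedPerm_one_mkVec]
    show _ = mkVec 3 5 1 (pts 4) (pts 0) (pts 16777211)
    congr 1
    ext i
    simp only [Finset.mem_symmDiff]; tauto

theorem pair_transitive {v w w' : leechLattice} {n : ℤ} (hn : n = 0 ∨ n = -16 ∨ n = -8)
    (hv : sqNorm (v : GolayPt → ℤ) = 32) (hw : sqNorm (w : GolayPt → ℤ) = 32) (hw' : sqNorm (w' : GolayPt → ℤ) = 32)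
    (hd : dotInt (v : GolayPt → ℤ) w = n) (hd' : dotInt (v : GolayPt → ℤ) w' = n) :
    ∃ g : Co0, g • v = v ∧ g • w = w' := by
  have key : ∀ {T : leechLattice}, (∃ g : Co0, g • v = vP ∧ g • w = T) → (∃ g : Co0, g • v = vP ∧ g • w' = T) →
      ∃ g : Co0, g • v = v ∧ g • w = w' := by
    rintro T ⟨g, a, b⟩ ⟨g', a', b'⟩
    exact ⟨g'⁻¹ * g, by rw [mul_smul, a, ← a', inv_smul_smul], by rw [mul_smul, b, ← b', inv_smul_smul]⟩
  rcases hn with rfl | rfl | rfl
  · exact key (orth_form hv hw hd) (orth_form hv hw' hd')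
  · exact key (form16 hv hw hd) (form16 hv hw' hd')
  · exact key (form8 hv hw hd) (form8 hv hw' hd')

theorem decomposition_transitive {u v v' : leechLattice} (hu : sqNorm (u : GolayPt → ℤ) = 48)
    (hv : sqNorm (v : GolayPt → ℤ) = 32 ∧ sqNorm ((u - v : leechLattice) : GolayPt → ℤ) = 32)
    (hv' : sqNorm (v' : GolayPt → ℤ) = 32 ∧ sqNorm ((u - v' : leechLattice) : GolayPt → ℤ) = 32) :
    ∃ g : Co0, g • u = u ∧ g • v = v' := by
  have hd : ∀ {v : leechLattice}, sqNorm (v : GolayPt → ℤ) = 32 → sqNorm ((u - v : leechLattice) : GolayPt → ℤ) = 32 →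
      dotInt (v : GolayPt → ℤ) (u - v : leechLattice) = -8 := by
    intro v a b
    have h := sqNorm_add (v : GolayPt → ℤ) ((u - v : leechLattice) : GolayPt → ℤ)
    rw [← AddSubgroup.coe_add, add_sub_cancel, hu, a, b] at h
    omega
  obtain ⟨g, a, b⟩ := form8 hv.1 hv.2 (hd hv.1 hv.2)
  obtain ⟨g', a', b'⟩ := form8 hv'.1 hv'.2 (hd hv'.1 hv'.2)
  refine ⟨g'⁻¹ * g, ?_, by rw [mul_smul, a, ← a', inv_smul_smul]⟩
  rw [mul_smul, show g • u = vP + w8 by rw [← a, ← b, ← co0_add, add_sub_cancel],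
    show vP + w8 = g' • u by rw [← a', ← b', ← co0_add, add_sub_cancel], inv_smul_smul]

end CfsgLib.Spor.Leech
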