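/-
Minimal vectors by inner product with a fixed one.
-/
import Cfsg.Agent.Lib.Spor.Leech.Pairs

namespace CfsgLib.Spor.Leech

open Cfsg MulAction
open scoped Pointwise

/-- An orbit of a stabilizer, counted. -/
theorem orbit_count {v w : leechLattice} {S : Set leechLattice}
    (hS : ∀ w', w' ∈ S ↔ ∃ g : Co0, g • v = v ∧ g • w = w') :
    S.ncard * Nat.card ↥(stabilizer Co0 v ⊓ stabilizer Co0 w) = Nat.card (stabilizer Co0 v) := by
  have horb : S = orbit (stabilizer Co0 v) w := by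
    ext w'
    rw [hS]
    exact ⟨fun ⟨g, a, b⟩ => ⟨⟨g, a⟩, b⟩, fun ⟨g, b⟩ => ⟨g.1, g.2, b⟩⟩
  have e := Nat.card_congr (orbitProdStabilizerEquivGroup (stabilizer Co0 v) w)
  rw [Nat.card_prod, Nat.card_coe_set_eq, ← horb] at e
  rw [← e]
  congr 1
  exact Nat.card_congr
    { toFun := fun g => ⟨⟨g.1, g.2.1⟩, g.2.2⟩
      invFun := fun g => ⟨g.1.1, g.1.2, g.2⟩
      left_inv := fun _ => rfl
      right_inv := fun _ => rfl }

theorem card_stab_norm {v : leechLattice} {n : ℤ} (hn : n = 32 ∨ n = 48 ∨ n = 64)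
    (hv : sqNorm (v : GolayPt → ℤ) = n) :
    (normSet n).ncard * Nat.card (stabilizer Co0 v) = 8315553613086720000 := by
  rw [← card_co0, ← Nat.card_congr (orbitProdStabilizerEquivGroup Co0 v), Nat.card_prod, Nat.card_coe_set_eq]
  congr 2
  ext w
  constructor
  · intro hw
    obtain ⟨g, hg⟩ := transitive_norm (x := v) (y := w) (by omega)
      ((show sqNorm (w : GolayPt → ℤ) = n from hw).trans hv.symm)
    exact ⟨g, hg⟩
  · rintro ⟨g, rfl⟩
    exact (co0_norm g v).trans hv

/-- The minimal vectors of given inner product with `v`. -/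
def dotSet (v : leechLattice) (n : ℤ) : Set leechLattice :=
  {w | sqNorm (w : GolayPt → ℤ) = 32 ∧ dotInt (v : GolayPt → ℤ) w = n}

theorem card_stab_orth_pair : Nat.card ↥(stabilizer Co0 vP ⊓ stabilizer Co0 oP) = 1024 * 443520 := by
  obtain ⟨n1, -, -⟩ := marked_ne
  have e1 : vP + oP = eight pP := by decide +kernel
  have e2 : vP - oP = eight pQ := by decide +kernel
  let C := {c : Finset GolayPt // c ∈ supports (golayCode : Set (GolayPt → ZMod 2)) ∧ pP ∉ c ∧ pQ ∉ c}
  let F : C × ↥(stabilizer M24 pP ⊓ stabilizer M24 pQ) → ↥(stabilizer Co0 vP ⊓ stabilizer Co0 oP) := fun z =>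
    ⟨monoAut z.2.1.2 z.1.2.1, monoAut_fix z.2.1.2 z.1.2.1 z.2.2.1 z.2.2.2 z.1.2.2.1 z.1.2.2.2⟩
  have hF : Function.Bijective F := by
    refine ⟨fun z w h => ?_, fun g => ?_⟩
    · have h' : monoAut z.2.1.2 z.1.2.1 = monoAut w.2.1.2 w.1.2.1 := congrArg Subtype.val h
      obtain ⟨a, b⟩ := monoAut_inj h'
      exact Prod.ext (Subtype.ext b) (Subtype.ext (Subtype.ext a))
    · have gP : (g : Co0) • eight pP = eight pP := by
        rw [← e1, co0_add, show (g : Co0) • vP = vP from g.2.1, show (g : Co0) • oP = oP from g.2.2]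
      have gQ : (g : Co0) • eight pQ = eight pQ := by
        rw [← e2, co0_sub, show (g : Co0) • vP = vP from g.2.1, show (g : Co0) • oP = oP from g.2.2]
      obtain ⟨σ, hσ, c, hc, e⟩ := exists_monoAut (mem_crossStab_of_congr (Or.inl gP))
      have key : ∀ p, monoAut hσ hc • eight p = eight p → σ p = p ∧ p ∉ c := by
        intro p hp
        have h := congrArg Subtype.val hp
        rw [monoAut_smul, show (eight p : GolayPt → ℤ) = Pi.single p 8 from rfl, signedPerm_eight] at h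
        have h' := congrFun h (σ p)
        rw [Pi.single_eq_same] at h'
        have hp' : σ p = p := by
          by_contra hne
          rw [Pi.single_eq_of_ne hne] at h'
          split_ifs at h' <;> omega
        refine ⟨hp', fun hin => ?_⟩
        rw [hp', if_pos hin, Pi.single_eq_same] at h'
        omega
      rw [e] at gP gQ
      exact ⟨(⟨c, hc, (key _ gP).2, (key _ gQ).2⟩, ⟨⟨σ, hσ⟩, (key _ gP).1, (key _ gQ).1⟩), Subtype.ext e.symm⟩
  rw [← Nat.card_eq_of_bijective F hF, Nat.card_prod, card_stabilizer_two_points _ _ n1]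
  congr 1
  let l := codeList.filter fun m => !m.testBit 0 && !m.testBit 1
  have hl : ∀ c : Finset GolayPt, (c ∈ supports (golayCode : Set (GolayPt → ZMod 2)) ∧ pP ∉ c ∧ pQ ∉ c) ↔
      c ∈ l.toFinset.image pts := by
    intro c
    have hb : ∀ (m : ℕ), (pP ∉ pts m ↔ m.testBit 0 = false) ∧ (pQ ∉ pts m ↔ m.testBit 1 = false) := fun m => by
      simp [mem_pts, pP, pQ, ptIdx_idxPt 0 (by norm_num), ptIdx_idxPt 1 (by norm_num)]
    simp only [l, Finset.mem_image, List.mem_toFinset, List.mem_filter, Bool.and_eq_true, Bool.not_eq_true']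
    constructor
    · rintro ⟨hc, h1, h2⟩
      rw [← pts_maskPts c] at h1 h2
      exact ⟨maskPts c, ⟨(mem_supports_iff c).1 hc, (hb _).1.1 h1, (hb _).2.1 h2⟩, pts_maskPts c⟩
    · rintro ⟨m, ⟨hm, h1, h2⟩, rfl⟩
      exact ⟨pts_mem_supports hm, (hb _).1.2 h1, (hb _).2.2 h2⟩
  rw [Nat.card_congr (Equiv.subtypeEquivRight hl), Nat.card_eq_fintype_card, Fintype.card_coe,
    Finset.card_image_of_injOn, List.toFinset_card_of_nodup (codeList_nodup.filter _)]
  · decide +kernel
  · intro a ha b hb h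
    simp only [l, List.coe_toFinset, Set.mem_ofPred_eq, List.mem_filter] at ha hb
    exact eq_of_pts_eq (codeList_spec ha.1).1 (codeList_spec hb.1).1 h

theorem ncard_dotSet_zero {v : leechLattice} (hv : sqNorm (v : GolayPt → ℤ) = 32) : (dotSet v 0).ncard = 93150 := by
  obtain ⟨g, hg⟩ := transitive_norm (x := v) (y := vP) (Or.inl hv) (sqNorm_marked.1.trans hv.symm)
  have e : dotSet vP 0 = (g • ·) '' dotSet v 0 := by
    ext w
    constructor
    · rintro ⟨hw, hd⟩
      refine ⟨g⁻¹ • w, ⟨(co0_norm _ _).trans hw, ?_⟩, smul_inv_smul g w⟩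
      rw [← co0_dot g, hg, smul_inv_smul]; exact hd
    · rintro ⟨w, ⟨hw, hd⟩, rfl⟩
      exact ⟨(co0_norm _ _).trans hw, by rw [← hg, co0_dot]; exact hd⟩
  rw [← Set.ncard_image_of_injective _ (MulAction.injective g), ← e]
  have h := orbit_count (v := vP) (w := oP) (S := dotSet vP 0) fun w' => by
    constructor
    · rintro ⟨hw, hd⟩
      exact pair_transitive (Or.inl rfl) sqNorm_marked.1 sqNorm_marked.2.1 hw sqNorm_marked.2.2.2.2.1 hd
    · rintro ⟨k, hk, rfl⟩
      exact ⟨(co0_norm k oP).trans sqNorm_marked.2.1, by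
        rw [← hk, co0_dot]; exact sqNorm_marked.2.2.2.2.1⟩
  rw [card_stab_orth_pair] at h
  have h1 := card_stab_norm (Or.inl rfl) sqNorm_marked.1
  rw [ncard_normSet, ncard32, ← h] at h1
  exact Nat.eq_of_mul_eq_mul_right (by norm_num : 0 < 1024 * 443520 * 196560) (by linarith)

theorem dot_cases {v w : leechLattice} (hv : sqNorm (v : GolayPt → ℤ) = 32) (hw : sqNorm (w : GolayPt → ℤ) = 32) :
    dotInt (v : GolayPt → ℤ) w = -16 ∨ dotInt (v : GolayPt → ℤ) w = -8 ∨ dotInt (v : GolayPt → ℤ) w = 0 ∨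
    dotInt (v : GolayPt → ℤ) w = 8 ∨ dotInt (v : GolayPt → ℤ) w = 16 ∨
    (dotInt (v : GolayPt → ℤ) w = 32 ∧ w = v) ∨ (dotInt (v : GolayPt → ℤ) w = -32 ∧ w = -v) := by
  have h8 := dot_dvd_eight v w
  have hs := sqNorm_sub (v : GolayPt → ℤ) (w : GolayPt → ℤ)
  have ha := sqNorm_add (v : GolayPt → ℤ) (w : GolayPt → ℤ)
  rw [hv, hw] at hs ha
  rcases eq_or_ne ((v : GolayPt → ℤ) - (w : GolayPt → ℤ)) 0 with h | h
  · rw [h] at hs
    exact Or.inr (Or.inr (Or.inr (Or.inr (Or.inr (Or.inl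
      ⟨by simp [sqNorm] at hs; omega, Subtype.ext (sub_eq_zero.1 h).symm⟩)))))
  rcases eq_or_ne ((v : GolayPt → ℤ) + (w : GolayPt → ℤ)) 0 with h' | h'
  · rw [h'] at ha
    exact Or.inr (Or.inr (Or.inr (Or.inr (Or.inr (Or.inr
      ⟨by simp [sqNorm] at ha; omega, Subtype.ext (eq_neg_of_add_eq_zero_right h')⟩)))))
  have := sqNorm_min (sub_mem v.2 w.2) h
  have := sqNorm_min (add_mem v.2 w.2) h'
  omega
where
  dot_dvd_eight (v w : leechLattice) : 8 ∣ dotInt (v : GolayPt → ℤ) w := by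
    have h1 := sqNorm_dvd v.2
    have h2 := sqNorm_dvd w.2
    have h3 := sqNorm_dvd (add_mem v.2 w.2)
    rw [sqNorm_add] at h3
    omega

/-- The sums of products of coordinates over the minimal vectors. -/
theorem moment (F : Finset (GolayPt → ℤ)) (hF : ∀ x, x ∈ F ↔ x ∈ leechLattice ∧ sqNorm x = 32)
    (hcard : F.card = 196560) (i j : GolayPt) :
    ∑ x ∈ F, x i * x j = if i = j then 262080 else 0 := by
  have hmap : ∀ {σ : Equiv.Perm GolayPt}, σ ∈ M24 → ∀ {c : Finset GolayPt},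
      c ∈ supports (golayCode : Set (GolayPt → ZMod 2)) → ∀ p q,
      ∑ x ∈ F, signedPerm σ c x p * signedPerm σ c x q = ∑ x ∈ F, x p * x q := by
    intro σ hσ c hc p q
    refine Finset.sum_nbij' (fun x => signedPerm σ c x) (fun x => signedPerm σ⁻¹ (σ⁻¹ • c) x) ?_ ?_ ?_ ?_ fun _ _ => rfl
    · intro x hx
      obtain ⟨h1, h2⟩ := (hF x).1 hx
      exact (hF _).2 ⟨signedPerm_mem hσ hc h1, (signedPerm_norm σ c x).trans h2⟩
    · intro x hx
      obtain ⟨h1, h2⟩ := (hF x).1 hx
      exact (hF _).2 ⟨signedPerm_mem (M24.inv_mem hσ) (smul_mem_supports (M24.inv_mem hσ) hc) h1,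
        (signedPerm_norm _ _ x).trans h2⟩
    · exact fun x _ => (signedPerm_inverse σ c x).2
    · exact fun x _ => (signedPerm_inverse σ c x).1
  split_ifs with hij
  · subst hij
    have hall : ∀ p, ∑ x ∈ F, x p * x p = ∑ x ∈ F, x i * x i := by
      intro p
      obtain ⟨a, ha⟩ := mem_orbit_point p
      obtain ⟨b, hb⟩ := mem_orbit_point i
      have hσ : ((b * a⁻¹ : M24) : Equiv.Perm GolayPt) p = i := by
        show (b * a⁻¹) • p = i
        rw [mul_smul, inv_smul_eq_iff.2 ha.symm]; exact hb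
      rw [← hmap (b * a⁻¹ : M24).2 Spor.empty_mem_supports_golayCode i i]
      refine Finset.sum_congr rfl fun x _ => ?_
      simp only [signedPerm, Finset.notMem_empty, if_false, (Equiv.symm_apply_eq _).2 hσ.symm]
    have hsum : ∑ p : GolayPt, ∑ x ∈ F, x p * x p = (196560 * 32 : ℤ) := by
      rw [Finset.sum_comm, Finset.sum_congr rfl fun x hx => show ∑ p : GolayPt, x p * x p = (32 : ℤ) by
        rw [← ((hF x).1 hx).2, sqNorm]; exact Finset.sum_congr rfl fun p _ => (sq _).symm,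
        Finset.sum_const, hcard, nsmul_eq_mul]
      norm_num
    rw [Finset.sum_congr rfl fun p _ => hall p, Finset.sum_const, Finset.card_univ, card_golayPt, nsmul_eq_mul] at hsum
    push_cast at hsum
    omega
  · obtain ⟨r, hr, hb⟩ := List.any_eq_true.1 (separates i j hij)
    have hc : pts r ∈ supports (golayCode : Set (GolayPt → ZMod 2)) := ⟨word r, word_row_mem hr, support₂_word r⟩
    have h := hmap M24.one_mem hc i j
    have e : ∀ p : GolayPt, (1 : Equiv.Perm GolayPt).symm p = p := fun _ => rfl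
    have hneg : ∀ x : GolayPt → ℤ, signedPerm 1 (pts r) x i * signedPerm 1 (pts r) x j = -(x i * x j) := by
      intro x
      simp only [signedPerm, e, mem_pts]
      cases hi : r.testBit (ptIdx i) <;> cases hj : r.testBit (ptIdx j) <;> simp_all
    rw [Finset.sum_congr rfl fun x _ => hneg x, Finset.sum_neg_distrib] at h
    omega

theorem census {v : leechLattice} (hv : sqNorm (v : GolayPt → ℤ) = 32) :
    (dotSet v (-16)).ncard = 4600 ∧ (dotSet v (-8)).ncard = 47104 ∧ (dotSet v 0).ncard = 93150 := by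
  classical
  have hfin : {x : GolayPt → ℤ | x ∈ leechLattice ∧ sqNorm x = 32}.Finite :=
    Set.finite_of_ncard_pos (by rw [ncard32]; norm_num)
  let F := hfin.toFinset
  have hF : ∀ x, x ∈ F ↔ x ∈ leechLattice ∧ sqNorm x = 32 := fun x => hfin.mem_toFinset
  have hcard : F.card = 196560 := by rw [← Set.ncard_eq_toFinset_card _ hfin, ncard32]
  let c : ℤ → ℕ := fun n => (F.filter fun x => dotInt (v : GolayPt → ℤ) x = n).card
  have hc : ∀ n, (dotSet v n).ncard = c n := by
    intro n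
    rw [show c n = (F.filter fun x => dotInt (v : GolayPt → ℤ) x = n).card from rfl,
      ← Set.ncard_image_of_injective _ Subtype.val_injective, ← Set.ncard_coe_finset]
    congr 1
    ext x
    rw [Finset.coe_filter, Set.mem_image, Set.mem_ofPred_eq, hF]
    constructor
    · rintro ⟨w, ⟨a, b⟩, rfl⟩; exact ⟨⟨w.2, a⟩, b⟩
    · rintro ⟨⟨a, a'⟩, b⟩; exact ⟨⟨x, a⟩, ⟨a', b⟩, rfl⟩
  have hneg : ∀ n, c (-n) = c n := by
    intro n
    have hd : ∀ x : GolayPt → ℤ, dotInt (v : GolayPt → ℤ) (-x) = -dotInt (v : GolayPt → ℤ) x := fun x => by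
      simp [dotInt, Finset.sum_neg_distrib]
    have hs : ∀ x : GolayPt → ℤ, x ∈ F → -x ∈ F := fun x hx => by
      obtain ⟨a, b⟩ := (hF x).1 hx
      exact (hF _).2 ⟨neg_mem a, by simpa [sqNorm] using b⟩
    refine Finset.card_nbij' Neg.neg Neg.neg ?_ ?_ (fun x _ => neg_neg x) fun x _ => neg_neg x <;>
      intro x hx <;> simp only [Finset.coe_filter, Set.mem_ofPred_eq] at hx ⊢ <;>
      exact ⟨hs x hx.1, by (try rw [hd, hx.2]) <;> simp⟩
  let T : Finset ℤ := {-32, -16, -8, 0, 8, 16, 32}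
  have hmaps : ∀ x ∈ F, dotInt (v : GolayPt → ℤ) x ∈ T := by
    intro x hx
    obtain ⟨a, b⟩ := (hF x).1 hx
    have hdc := dot_cases hv (w := ⟨x, a⟩) b
    simp only at hdc
    rcases hdc with h | h | h | h | h | ⟨h, -⟩ | ⟨h, -⟩ <;>
      simp only [T, Finset.mem_insert, Finset.mem_singleton] <;> omega
  have h32 : c 32 = 1 := by
    refine Finset.card_eq_one.2 ⟨(v : GolayPt → ℤ), Finset.eq_singleton_iff_unique_mem.2 ⟨?_, ?_⟩⟩
    · rw [Finset.mem_filter, hF]
      exact ⟨⟨v.2, hv⟩, by rw [← hv, sqNorm, dotInt]; exact Finset.sum_congr rfl fun i _ => (sq _).symm⟩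
    · intro x hx
      rw [Finset.mem_filter, hF] at hx
      have hdc := dot_cases hv (w := ⟨x, hx.1.1⟩) hx.1.2
      simp only at hdc
      rcases hdc with h | h | h | h | h | ⟨-, h⟩ | ⟨h, -⟩
      all_goals first
        | exact congrArg Subtype.val h
        | (have := hx.2; omega)
  have e0 : F.card = ∑ n ∈ T, c n := Finset.card_eq_sum_card_fiberwise hmaps
  have e2 : ∑ x ∈ F, dotInt (v : GolayPt → ℤ) x ^ 2 = ∑ n ∈ T, (c n : ℤ) * n ^ 2 := by
    rw [← Finset.sum_fiberwise_of_maps_to hmaps]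
    refine Finset.sum_congr rfl fun n _ => ?_
    rw [Finset.sum_congr rfl fun x hx => show dotInt (v : GolayPt → ℤ) x ^ 2 = n ^ 2 by
      rw [(Finset.mem_filter.1 hx).2], Finset.sum_const, nsmul_eq_mul]
  have e3 : ∑ x ∈ F, dotInt (v : GolayPt → ℤ) x ^ 2 = 8386560 := by
    simp only [sq, dotInt, Finset.sum_mul_sum]
    rw [Finset.sum_comm, Finset.sum_congr rfl fun i _ => Finset.sum_comm,
      Finset.sum_congr rfl fun i _ => Finset.sum_congr rfl fun j _ => show ∑ x ∈ F,
          (v : GolayPt → ℤ) i * x i * ((v : GolayPt → ℤ) j * x j) =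
          (v : GolayPt → ℤ) i * (v : GolayPt → ℤ) j * if i = j then 262080 else 0 by
        rw [← moment F hF hcard i j, Finset.mul_sum]
        exact Finset.sum_congr rfl fun x _ => by ring]
    simp only [mul_ite, mul_zero, Finset.sum_ite_eq, Finset.mem_univ, if_true, ← Finset.sum_mul]
    rw [show ∑ i, (v : GolayPt → ℤ) i * (v : GolayPt → ℤ) i = 32 by
      rw [← hv, sqNorm]; exact Finset.sum_congr rfl fun i _ => (sq _).symm]
    norm_num
  have z := ncard_dotSet_zero hv
  rw [hc] at z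
  have := hneg 16
  have := hneg 8
  have := hneg 32
  rw [e3] at e2
  simp [T] at e0 e2
  rw [hc, hc, hc]
  omega

theorem ncard_decompositions {u : leechLattice} (hu : sqNorm (u : GolayPt → ℤ) = 48) :
    {v : leechLattice | sqNorm (v : GolayPt → ℤ) = 32 ∧ sqNorm ((u - v : leechLattice) : GolayPt → ℤ) = 32}.ncard
      = 552 := by
  obtain ⟨g, hg⟩ := transitive_norm (x := vP + w8) (y := u) (Or.inr (Or.inl (by decide +kernel)))
    (hu.trans (by decide +kernel))
  have hv0 : sqNorm ((g • vP : leechLattice) : GolayPt → ℤ) = 32 := (co0_norm g vP).trans sqNorm_marked.1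
  have hw0 : sqNorm ((g • w8 : leechLattice) : GolayPt → ℤ) = 32 := (co0_norm g w8).trans sqNorm_marked.2.2.2.1
  have hd0 : dotInt ((g • vP : leechLattice) : GolayPt → ℤ) ((g • w8 : leechLattice) : GolayPt → ℤ) = -8 :=
    (co0_dot g vP w8).trans sqNorm_marked.2.2.2.2.2.2
  rw [co0_add] at hg
  generalize g • vP = v at hg hv0 hd0
  generalize g • w8 = w at hg hw0 hd0
  subst hg
  have h1 := orbit_count (v := v + w) (w := v)
    (S := {x : leechLattice | sqNorm (x : GolayPt → ℤ) = 32 ∧ sqNorm ((v + w - x : leechLattice) : GolayPt → ℤ) = 32})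
    fun x => by
    constructor
    · exact fun hx => decomposition_transitive hu ⟨hv0, by rw [add_sub_cancel_left]; exact hw0⟩ hx
    · rintro ⟨k, hk, rfl⟩
      refine ⟨(co0_norm k v).trans hv0, ?_⟩
      conv_lhs => rw [← hk, ← co0_sub, add_sub_cancel_left]
      exact (co0_norm k w).trans hw0
  have h2 := orbit_count (v := v) (w := w) (S := dotSet v (-8)) fun x => by
    constructor
    · rintro ⟨a, b⟩; exact pair_transitive (Or.inr (Or.inr rfl)) hv0 hw0 a hd0 b
    · rintro ⟨k, hk, rfl⟩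
      refine ⟨(co0_norm k w).trans hw0, ?_⟩
      conv_lhs => rw [← hk, co0_dot]
      exact hd0
  have hst : stabilizer Co0 (v + w) ⊓ stabilizer Co0 v = stabilizer Co0 v ⊓ stabilizer Co0 w := by
    ext k
    simp only [Subgroup.mem_inf, mem_stabilizer_iff, co0_add]
    constructor
    · rintro ⟨a, b⟩; rw [b, add_right_inj] at a; exact ⟨b, a⟩
    · rintro ⟨a, b⟩; exact ⟨by rw [a, b], a⟩
  rw [hst] at h1
  rw [(census hv0).2.1] at h2
  have c32 := card_stab_norm (Or.inl rfl) hv0
  have c48 := card_stab_norm (Or.inr (Or.inl rfl)) hu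
  rw [ncard_normSet, ncard32] at c32
  rw [ncard_normSet, ncard48] at c48
  set K := Nat.card ↥(stabilizer Co0 v ⊓ stabilizer Co0 w)
  set N := {x : leechLattice | sqNorm (x : GolayPt → ℤ) = 32 ∧ sqNorm ((v + w - x : leechLattice) : GolayPt → ℤ) = 32}.ncard
  rw [← h1] at c48
  rw [← h2] at c32
  have hK : K = 898128000 := Nat.eq_of_mul_eq_mul_left (by norm_num : 0 < 196560 * 47104) (by linarith)
  rw [hK] at c48
  exact Nat.eq_of_mul_eq_mul_right (by norm_num : 0 < 898128000 * 16773120) (by linarith)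

end CfsgLib.Spor.Leech
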