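/-
The stabilizer of a cross is maximal.
-/
import Cfsg.Agent.Lib.Spor.Leech.CrossStab

namespace CfsgLib.Spor.Leech

open Cfsg MulAction
open scoped Pointwise

theorem IsMono.mem {g : Co0} (h : IsMono g) : g ∈ crossStab := by
  obtain ⟨σ, hσ, c, hc, rfl⟩ := h
  exact monoAut_preserves hσ hc

/-- Two vectors of one even shape differ by a monomial automorphism. -/
theorem same_even {a b p q Am Bm T j0 R0 : ℕ}
    (ha : a % 2 = 0) (hb : b % 2 = 0) (hab : a ≠ b) (har : a ≠ 0) (hbr : b ≠ 0)
    (hgen : signGen (Am ||| Bm) T j0 [0] = true) (hTS : T &&& (Am ||| Bm) = T)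
    (hd : Am &&& Bm = 0)
    (hT : (Finset.univ.filter fun i => mag a b 0 (pts Am) (pts Bm) i % 4 = 2) = pts T)
    (hR0 : mkVec a b 0 (pts Am) (pts Bm) (pts R0) ∈ leechLattice)
    (hmove : ∀ A B : Finset GolayPt, Disjoint A B → A.card = p → B.card = q →
      (Finset.univ.filter fun i => mag a b 0 A B i % 4 = 2) ∈ supports (golayCode : Set (GolayPt → ZMod 2)) →
      Moves A B (pts Am) (pts Bm))
    {x y : leechLattice} (hx : (x : GolayPt → ℤ) ∈ shapeSet a b 0 p q)
    (hy : (y : GolayPt → ℤ) ∈ shapeSet a b 0 p q) : ∃ g ∈ crossStab, g • x = y := by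
  have key : ∀ z : leechLattice, (z : GolayPt → ℤ) ∈ shapeSet a b 0 p q → ∃ g ∈ crossStab,
      ((g • z : leechLattice) : GolayPt → ℤ) = mkVec a b 0 (pts Am) (pts Bm) (symmDiff (pts R0) (pts 0)) := by
    intro z hz
    have e := eq_mkVec hab har hbr hz.2
    have hs := ((even_mem_iff ha hb (disjoint_lvl (z : GolayPt → ℤ) hab) _).1 (e ▸ z.2)).1
    obtain ⟨g, m, M, hg⟩ := exists_moved hab har hbr hz
      (hmove _ _ (disjoint_lvl (z : GolayPt → ℤ) hab) hz.2.1 hz.2.2.1 hs)
    obtain ⟨R, hR, g', m', hg'⟩ := exists_signed_even ha hb hgen hTS hd hT hR0 (g • z) hg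
    obtain rfl : R = 0 := List.mem_singleton.1 hR
    exact ⟨g' * g, crossStab.mul_mem m'.mem m.mem, by rw [mul_smul]; exact hg'⟩
  obtain ⟨g, hg, e⟩ := key x hx
  obtain ⟨h, hh, e'⟩ := key y hy
  exact ⟨h⁻¹ * g, crossStab.mul_mem (crossStab.inv_mem hh) hg, by
    rw [mul_smul, Subtype.ext (e.trans e'.symm), inv_smul_smul]⟩

/-- Two vectors of one odd shape differ by a monomial automorphism. -/
theorem same_odd {p q : ℕ} {A0 B0 M0 : Finset GolayPt} (hd : Disjoint A0 B0)
    (hpq : (A0.card + B0.card) % 2 = 1) (hR0 : mkVec 3 5 1 A0 B0 M0 ∈ leechLattice)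
    (hmove : ∀ A B : Finset GolayPt, Disjoint A B → A.card = p → B.card = q → True → Moves A B A0 B0)
    {x y : leechLattice} (hx : (x : GolayPt → ℤ) ∈ shapeSet 3 5 1 p q)
    (hy : (y : GolayPt → ℤ) ∈ shapeSet 3 5 1 p q) : ∃ g ∈ crossStab, g • x = y := by
  have key : ∀ z : leechLattice, (z : GolayPt → ℤ) ∈ shapeSet 3 5 1 p q → ∃ g ∈ crossStab,
      ((g • z : leechLattice) : GolayPt → ℤ) = mkVec 3 5 1 A0 B0 M0 := by
    intro z hz
    obtain ⟨g, m, M, hg⟩ := exists_moved (by norm_num) (by norm_num) (by norm_num) hz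
      (hmove _ _ (disjoint_lvl (z : GolayPt → ℤ) (by norm_num)) hz.2.1 hz.2.2.1 trivial)
    obtain ⟨g', m', hg'⟩ := exists_signed_odd hd hpq hR0 (g • z) hg
    exact ⟨g' * g, crossStab.mul_mem m'.mem m.mem, by rw [mul_smul]; exact hg'⟩
  obtain ⟨g, hg, e⟩ := key x hx
  obtain ⟨h, hh, e'⟩ := key y hy
  exact ⟨h⁻¹ * g, crossStab.mul_mem (crossStab.inv_mem hh) hg, by
    rw [mul_smul, Subtype.ext (e.trans e'.symm), inv_smul_smul]⟩

theorem same_shape_840_1_0 {x y : leechLattice} (hx : (x : GolayPt → ℤ) ∈ shapeSet 8 4 0 1 0)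
    (hy : (y : GolayPt → ℤ) ∈ shapeSet 8 4 0 1 0) : ∃ g ∈ crossStab, g • x = y :=
  same_even (a := 8) (b := 4) (Am := 1) (Bm := 0) (T := 0) (j0 := 0) (R0 := 0)
    rfl rfl (by decide) (by decide) (by decide) (by decide +kernel) (by decide +kernel) (by decide +kernel) (by decide +kernel)
    (leechTest_spec (by decide +kernel)) (fun A B _ hA hB _ => move_small (by norm_num) hA hB (by decide +kernel) (by decide +kernel))
    hx hy

theorem same_shape_480_4_0 {x y : leechLattice} (hx : (x : GolayPt → ℤ) ∈ shapeSet 4 8 0 4 0)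
    (hy : (y : GolayPt → ℤ) ∈ shapeSet 4 8 0 4 0) : ∃ g ∈ crossStab, g • x = y :=
  same_even (a := 4) (b := 8) (Am := 4268048) (Bm := 0) (T := 0) (j0 := 0) (R0 := 8192)
    rfl rfl (by decide) (by decide) (by decide) (by decide +kernel) (by decide +kernel) (by decide +kernel) (by decide +kernel)
    (leechTest_spec (by decide +kernel)) (fun A B _ hA hB _ => move_small (by norm_num) hA hB (by decide +kernel) (by decide +kernel))
    hx hy

theorem same_shape_240_8_2 {x y : leechLattice} (hx : (x : GolayPt → ℤ) ∈ shapeSet 2 4 0 8 2)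
    (hy : (y : GolayPt → ℤ) ∈ shapeSet 2 4 0 8 2) : ∃ g ∈ crossStab, g • x = y :=
  same_even (a := 2) (b := 4) (Am := 11010247) (Bm := 264192) (T := 11010247) (j0 := 0) (R0 := 11010117)
    rfl rfl (by decide) (by decide) (by decide) (by decide +kernel) (by decide +kernel) (by decide +kernel) (by decide +kernel)
    (leechTest_spec (by decide +kernel)) (fun A B hd hA hB hs => move_octad_out_two hd ⟨filt_two_four A B ▸ hs, hA⟩ hB (by decide +kernel) (pts_octad (by decide +kernel)) (by decide +kernel))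
    hx hy

theorem same_shape_260_7_1 {x y : leechLattice} (hx : (x : GolayPt → ℤ) ∈ shapeSet 2 6 0 7 1)
    (hy : (y : GolayPt → ℤ) ∈ shapeSet 2 6 0 7 1) : ∃ g ∈ crossStab, g • x = y :=
  same_even (a := 2) (b := 6) (Am := 8790284) (Bm := 65536) (T := 8855820) (j0 := 2) (R0 := 8462600)
    rfl rfl (by decide) (by decide) (by decide) (by decide +kernel) (by decide +kernel) (by decide +kernel) (by decide +kernel)
    (leechTest_spec (by decide +kernel)) (fun A B hd hA hB hs => move_pointed_octad hd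
      ⟨filt_two_six A B ▸ hs, by rw [Finset.card_union_of_disjoint hd, hA, hB]⟩ hB (by decide +kernel)
      ⟨by rw [← pts_or_eq]; exact pts_supports (by decide +kernel), by decide +kernel⟩ (by decide +kernel))
    hx hy

theorem same_shape_240_12_1 {x y : leechLattice} (hx : (x : GolayPt → ℤ) ∈ shapeSet 2 4 0 12 1)
    (hy : (y : GolayPt → ℤ) ∈ shapeSet 2 4 0 12 1) : ∃ g ∈ crossStab, g • x = y :=
  same_even (a := 2) (b := 4) (Am := 10740908) (Bm := 524288) (T := 10740908) (j0 := 2) (R0 := 11256868)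
    rfl rfl (by decide) (by decide) (by decide) (by decide +kernel) (by decide +kernel) (by decide +kernel) (by decide +kernel)
    (leechTest_spec (by decide +kernel)) (fun A B hd hA hB hs => move_dodecad_out hd ⟨filt_two_four A B ▸ hs, hA⟩ hB (by decide +kernel) (pts_dodecad (by decide +kernel)) (by decide +kernel))
    hx hy

theorem same_shape_351_5_0 {x y : leechLattice} (hx : (x : GolayPt → ℤ) ∈ shapeSet 3 5 1 5 0)
    (hy : (y : GolayPt → ℤ) ∈ shapeSet 3 5 1 5 0) : ∃ g ∈ crossStab, g • x = y :=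
  same_odd (A0 := pts 265360) (B0 := pts 0) (M0 := pts 9046123) (by decide +kernel) (by decide +kernel)
    (leechTest_spec (by decide +kernel)) (fun A B _ hA hB _ => move_small (by norm_num) hA hB (by decide +kernel) (by decide +kernel))
    hx hy

theorem same_shape_351_2_1 {x y : leechLattice} (hx : (x : GolayPt → ℤ) ∈ shapeSet 3 5 1 2 1)
    (hy : (y : GolayPt → ℤ) ∈ shapeSet 3 5 1 2 1) : ∃ g ∈ crossStab, g • x = y :=
  same_odd (A0 := pts 8208) (B0 := pts 8388608) (M0 := pts 13938101) (by decide +kernel) (by decide +kernel)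
    (leechTest_spec (by decide +kernel)) (fun A B hd hA hB _ => move_two_one hd hA hB (by decide +kernel) (by decide +kernel) (by decide +kernel))
    hx hy
/-! ### Counting an invariant set shape by shape -/

/-- The eight shapes of norm 64. -/
def shape64 : Fin 8 → Set leechLattice
  | 0 => {x | (x : GolayPt → ℤ) ∈ shapeSet 8 4 0 1 0}
  | 1 => {x | (x : GolayPt → ℤ) ∈ shapeSet 4 8 0 4 0}
  | 2 => {x | (x : GolayPt → ℤ) ∈ shapeSet 2 4 0 8 2}
  | 3 => {x | (x : GolayPt → ℤ) ∈ shapeSet 2 6 0 7 1}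
  | 4 => {x | (x : GolayPt → ℤ) ∈ shapeSet 2 4 0 12 1}
  | 5 => {x | (x : GolayPt → ℤ) ∈ shapeSet 2 4 0 16 0}
  | 6 => {x | (x : GolayPt → ℤ) ∈ shapeSet 3 5 1 5 0}
  | 7 => {x | (x : GolayPt → ℤ) ∈ shapeSet 3 5 1 2 1}

/-- The shape of a vector of norm 64. -/
def shapeIdx (x : GolayPt → ℤ) : Fin 8 :=
  if cnt x 8 = 1 then 0 else if cnt x 4 = 4 then 1 else if cnt x 6 = 1 then 3 else if cnt x 5 = 1 then 7
  else if cnt x 3 = 5 then 6 else if cnt x 2 = 8 then 2 else if cnt x 2 = 12 then 4 else 5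

theorem mem_shape64_idx {x : leechLattice} (hx : sqNorm (x : GolayPt → ℤ) = 64) :
    x ∈ shape64 (shapeIdx (x : GolayPt → ℤ)) := by
  have h : (x : GolayPt → ℤ) ∈ {x : GolayPt → ℤ | x ∈ leechLattice ∧ sqNorm x = 64} := ⟨x.2, hx⟩
  rw [set64] at h
  obtain ⟨e1, -⟩ := cnt_equations (x := (x : GolayPt → ℤ)) (by omega)
  rcases h with ((((((h | h) | h) | h) | h) | h) | h) | h
  all_goals
    obtain ⟨s1, s2, s3, -⟩ := h.2
    norm_num at s1 s2 s3
  · rw [show shapeIdx (x : GolayPt → ℤ) = 0 by simp [shapeIdx, s1]]; exact h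
  · rw [show shapeIdx (x : GolayPt → ℤ) = 1 by
      simp [shapeIdx, s1, show cnt (x : GolayPt → ℤ) 8 = 0 by omega]]; exact h
  · rw [show shapeIdx (x : GolayPt → ℤ) = 2 by
      simp [shapeIdx, s1, s2, show cnt (x : GolayPt → ℤ) 8 = 0 by omega, show cnt (x : GolayPt → ℤ) 6 = 0 by omega,
        show cnt (x : GolayPt → ℤ) 5 = 0 by omega, show cnt (x : GolayPt → ℤ) 3 = 0 by omega]]; exact h
  · rw [show shapeIdx (x : GolayPt → ℤ) = 3 by
      simp [shapeIdx, s2, show cnt (x : GolayPt → ℤ) 8 = 0 by omega, show cnt (x : GolayPt → ℤ) 4 = 0 by omega]]; exact h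
  · rw [show shapeIdx (x : GolayPt → ℤ) = 4 by
      simp [shapeIdx, s1, s2, show cnt (x : GolayPt → ℤ) 8 = 0 by omega, show cnt (x : GolayPt → ℤ) 6 = 0 by omega,
        show cnt (x : GolayPt → ℤ) 5 = 0 by omega, show cnt (x : GolayPt → ℤ) 3 = 0 by omega]]; exact h
  · rw [show shapeIdx (x : GolayPt → ℤ) = 5 by
      simp [shapeIdx, s1, s2, show cnt (x : GolayPt → ℤ) 8 = 0 by omega, show cnt (x : GolayPt → ℤ) 6 = 0 by omega,
        show cnt (x : GolayPt → ℤ) 5 = 0 by omega, show cnt (x : GolayPt → ℤ) 3 = 0 by omega]]; exact h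
  · rw [show shapeIdx (x : GolayPt → ℤ) = 6 by
      simp [shapeIdx, s1, show cnt (x : GolayPt → ℤ) 8 = 0 by omega, show cnt (x : GolayPt → ℤ) 6 = 0 by omega,
        show cnt (x : GolayPt → ℤ) 5 = 0 by omega, show cnt (x : GolayPt → ℤ) 4 = 0 by omega]]; exact h
  · rw [show shapeIdx (x : GolayPt → ℤ) = 7 by
      simp [shapeIdx, s2, show cnt (x : GolayPt → ℤ) 8 = 0 by omega, show cnt (x : GolayPt → ℤ) 6 = 0 by omega,
        show cnt (x : GolayPt → ℤ) 4 = 0 by omega]]; exact h

theorem shapeIdx_eq_of_mem {x : leechLattice} {i : Fin 8} (h : x ∈ shape64 i) :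
    shapeIdx (x : GolayPt → ℤ) = i ∧ sqNorm (x : GolayPt → ℤ) = 64 := by
  have hn : sqNorm (x : GolayPt → ℤ) = 64 := by
    fin_cases i <;> exact (mem_shapeSet_norm (by norm_num) (by norm_num) (by norm_num) h (by norm_num)).2
  refine ⟨?_, hn⟩
  obtain ⟨e1, -⟩ := cnt_equations (x := (x : GolayPt → ℤ)) (by omega)
  have h' := mem_shape64_idx hn
  generalize shapeIdx (x : GolayPt → ℤ) = j at h'
  fin_cases i <;> fin_cases j <;> first | rfl | (exfalso; obtain ⟨a1, a2, a3, -⟩ := h.2; obtain ⟨b1, b2, b3, -⟩ := h'.2; norm_num at a1 a2 a3 b1 b2 b3; omega)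

/-- The numbers of vectors of the shapes, without the one with sixteen twos. -/
def shapeCount : Fin 8 → ℕ
  | 0 => 48
  | 1 => 170016
  | 2 => 46632960
  | 3 => 777216
  | 4 => 126615552
  | 5 => 24870912
  | 6 => 174096384
  | 7 => 24870912

theorem ncard_shape64 : ∀ i : Fin 8, (shape64 i).ncard = shapeCount i := by
  have key : ∀ a b r p q, ({x : leechLattice | (x : GolayPt → ℤ) ∈ shapeSet a b r p q}).ncard =
      (shapeSet a b r p q).ncard := fun a b r p q => by
    rw [← Set.ncard_image_of_injective _ Subtype.val_injective]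
    congr 1
    ext x
    exact ⟨fun ⟨y, hy, e⟩ => e ▸ hy, fun h => ⟨⟨x, h.1⟩, h, rfl⟩⟩
  intro i
  fin_cases i <;> simp only [shape64, shapeCount, key]
  · rw [(count_quad (a := 8) (b := 4) (p := 1) rfl rfl (by norm_num) (by norm_num) (by norm_num) rfl).2]
    norm_num [choose_values]
  · rw [(count_quad (a := 4) (b := 8) (p := 4) rfl rfl (by norm_num) (by norm_num) (by norm_num) rfl).2]
    norm_num [choose_values]
  · rw [(count_word (w := 8) (q := 2) rfl (by norm_num) card_octad_list).2]
    norm_num [choose_values]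
  · rw [count_six.2]
  · rw [(count_word (w := 12) (q := 1) rfl (by norm_num) card_dodecad_list).2]
    norm_num [choose_values]
  · rw [(count_word (w := 16) (q := 0) rfl (by norm_num) card_sixteen_list).2]
    norm_num [choose_values]
  · rw [(count_odd (p := 5) (q := 0) rfl).2]
    norm_num [choose_values, Nat.choose_zero_right]
  · rw [(count_odd (p := 2) (q := 1) rfl).2]
    norm_num [choose_values]

theorem same_shape64 {i : Fin 8} (hi : i ≠ 5) {x y : leechLattice} (hx : x ∈ shape64 i) (hy : y ∈ shape64 i) :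
    ∃ g ∈ crossStab, g • x = y := by
  fin_cases i
  · exact same_shape_840_1_0 hx hy
  · exact same_shape_480_4_0 hx hy
  · exact same_shape_240_8_2 hx hy
  · exact same_shape_260_7_1 hx hy
  · exact same_shape_240_12_1 hx hy
  · exact (hi rfl).elim
  · exact same_shape_351_5_0 hx hy
  · exact same_shape_351_2_1 hx hy

/-- Vectors on fixed sixteen positions come in sign orbits of 2048. -/
theorem dvd_sixteen {U : Set leechLattice} (hU : ∀ g ∈ crossStab, ∀ x ∈ U, g • x ∈ U) :
    759 * 2048 ∣ (U ∩ shape64 5).ncard := by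
  set W := U ∩ shape64 5
  have hfin : W.Finite := (Set.finite_of_ncard_pos (by rw [ncard_shape64]; decide)).subset Set.inter_subset_right
  rcases W.eq_empty_or_nonempty with h | ⟨x0, hx0⟩
  · rw [h, Set.ncard_empty]; exact dvd_zero _
  have shp : ∀ {g : Co0} {σ : Equiv.Perm GolayPt} {hσ : σ ∈ M24} {c : Finset GolayPt}
      {hc : c ∈ supports (golayCode : Set (GolayPt → ZMod 2))}, g = monoAut hσ hc → ∀ x ∈ W,
      g • x ∈ W ∧ lvl ((g • x : leechLattice) : GolayPt → ℤ) 2 = σ • lvl (x : GolayPt → ℤ) 2 := by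
    intro g σ hσ c hc e x hx
    subst e
    have hl : ∀ k, lvl ((monoAut hσ hc • x : leechLattice) : GolayPt → ℤ) k = σ • lvl (x : GolayPt → ℤ) k := fun k => by
      rw [monoAut_smul, lvl_signedPerm]
    obtain ⟨h1, h2, h3, h4⟩ := (hx.2 : (x : GolayPt → ℤ) ∈ shapeSet 2 4 0 16 0).2
    refine ⟨⟨hU _ (monoAut_preserves hσ hc) x hx.1, Subtype.prop _, ?_, ?_, ?_, h4⟩, hl 2⟩ <;>
      rw [cnt, hl, card_smul_finset'] <;> assumption
  have oct : ∀ x ∈ W, (lvl (x : GolayPt → ℤ) 2)ᶜ ∈ octads := by
    intro x hx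
    have hs : (x : GolayPt → ℤ) ∈ shapeSet 2 4 0 16 0 := hx.2
    have e := eq_mkVec (by norm_num) (by norm_num) (by norm_num) hs.2
    have h := ((even_mem_iff rfl rfl (disjoint_lvl (x : GolayPt → ℤ) (by norm_num)) _).1 (e ▸ x.2)).1
    rw [filt_two_four] at h
    exact compl_octad h hs.2.1
  let f : leechLattice → Finset GolayPt := fun x => lvl (x : GolayPt → ℤ) 2
  let F0 := {y ∈ W | f y = f x0}
  have hfib : ∀ x ∈ W, {y ∈ W | f y = f x}.ncard = F0.ncard := by
    intro x hx
    obtain ⟨g, hg⟩ := exists_smul_octad (oct x hx) (oct x0 hx0)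
    have hgσ : (g : Equiv.Perm GolayPt) • f x = f x0 := by
      have : g • (f x)ᶜ = (f x0)ᶜ := hg
      rw [smul_compl_finset] at this
      exact compl_injective this
    let k : Co0 := monoAut g.2 Spor.empty_mem_supports_golayCode
    have e : F0 = (k • ·) '' {y ∈ W | f y = f x} := by
      ext y
      constructor
      · rintro ⟨hy, hy'⟩
        refine ⟨k⁻¹ • y, ?_, smul_inv_smul k y⟩
        have hki : k⁻¹ • y = monoAut (M24.inv_mem g.2) (smul_mem_supports (M24.inv_mem g.2) Spor.empty_mem_supports_golayCode) • y :=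
          inv_smul_eq_iff.2 (Subtype.ext (by rw [monoAut_smul, monoAut_smul]; exact (signedPerm_inverse _ _ _).1.symm))
        rw [hki]
        obtain ⟨a, b⟩ := shp rfl y hy
        refine ⟨a, b.trans ?_⟩
        show (g : Equiv.Perm GolayPt)⁻¹ • f y = f x
        rw [hy', ← hgσ, inv_smul_smul]
      · rintro ⟨z, ⟨hz, hz'⟩, rfl⟩
        obtain ⟨a, b⟩ := shp (g := k) rfl z hz
        exact ⟨a, b.trans (by rw [show lvl (z : GolayPt → ℤ) 2 = f x from hz']; exact hgσ)⟩
    rw [e, Set.ncard_image_of_injective _ (MulAction.injective k)]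
  rw [← mul_ncard_image f hfin hfib]
  have himg : (f '' W).ncard = 759 := by
    have e : f '' W = compl '' octads := by
      ext A
      constructor
      · rintro ⟨x, hx, rfl⟩; exact ⟨_, oct x hx, compl_compl _⟩
      · rintro ⟨o, ho, rfl⟩
        obtain ⟨g, hg⟩ := exists_smul_octad (oct x0 hx0) ho
        refine ⟨monoAut g.2 Spor.empty_mem_supports_golayCode • x0, (shp rfl x0 hx0).1, ?_⟩
        show lvl _ 2 = oᶜ
        rw [(shp rfl x0 hx0).2, ← hg, ← smul_compl_finset, compl_compl]
        rfl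
    rw [e, Set.ncard_image_of_injective _ compl_injective, octads, ncard_wordsOfWeight, card_octad_list]
  rw [himg]
  refine Nat.mul_dvd_mul_left _ ?_
  classical
  let orb : leechLattice → Set leechLattice := fun y =>
    {z | ∃ c, ∃ hc : c ∈ supports (golayCode : Set (GolayPt → ZMod 2)), monoAut M24.one_mem hc • y = z}
  have hcomp : ∀ {c d : Finset GolayPt} (hc : c ∈ supports (golayCode : Set (GolayPt → ZMod 2)))
      (hd : d ∈ supports (golayCode : Set (GolayPt → ZMod 2))) (y : leechLattice),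
      monoAut M24.one_mem hc • monoAut M24.one_mem hd • y = monoAut M24.one_mem (supports_symmDiff hc hd) • y := by
    intro c d hc hd y
    refine Subtype.ext (funext fun i => ?_)
    simp only [monoAut_smul, signedPerm, show ∀ j, (1 : Equiv.Perm GolayPt).symm j = j from fun _ => rfl,
      Finset.mem_symmDiff]
    by_cases h1 : i ∈ c <;> by_cases h2 : i ∈ d <;> simp [h1, h2]
  have self : ∀ y, y ∈ orb y := fun y => ⟨∅, Spor.empty_mem_supports_golayCode,
    Subtype.ext (funext fun i => by simp [monoAut_smul, signedPerm, show (1 : Equiv.Perm GolayPt).symm i = i from rfl])⟩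
  have heq : ∀ {y z}, z ∈ orb y → orb z = orb y := by
    rintro y z ⟨c, hc, rfl⟩
    ext w
    constructor
    · rintro ⟨d, hd, rfl⟩; exact ⟨_, _, (hcomp hd hc y).symm⟩
    · rintro ⟨d, hd, rfl⟩
      refine ⟨_, supports_symmDiff hd hc, ?_⟩
      rw [← hcomp hd hc, hcomp hc hc]
      congr 1
      obtain ⟨c', hc', e⟩ := self y
      refine Subtype.ext (funext fun i => ?_)
      simp [monoAut_smul, signedPerm, show (1 : Equiv.Perm GolayPt).symm i = i from rfl, symmDiff_self]
  have hF0 : F0.Finite := hfin.subset fun y hy => hy.1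
  have hk : ∀ y ∈ F0, {z ∈ F0 | orb z = orb y}.ncard = 2048 := by
    rintro y ⟨hy, hy'⟩
    have e : {z ∈ F0 | orb z = orb y} = orb y := by
      ext z
      refine ⟨fun hz => hz.2 ▸ self z, fun hz => ⟨?_, heq hz⟩⟩
      obtain ⟨c, hc, rfl⟩ := hz
      obtain ⟨a, b⟩ := shp rfl y hy
      exact ⟨a, b.trans ((one_smul _ _).trans hy')⟩
    rw [e]
    let Φ : Finset GolayPt → leechLattice := fun c =>
      if hc : c ∈ supports (golayCode : Set (GolayPt → ZMod 2)) then monoAut M24.one_mem hc • y else y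
    have eΦ : orb y = Φ '' supports (golayCode : Set (GolayPt → ZMod 2)) := by
      ext z
      constructor
      · rintro ⟨c, hc, rfl⟩; exact ⟨c, hc, by simp [Φ, dif_pos hc]⟩
      · rintro ⟨c, hc, rfl⟩; exact ⟨c, hc, by simp [Φ, dif_pos hc]⟩
    have h2 : ∀ c ∈ supports (golayCode : Set (GolayPt → ZMod 2)),
        {d ∈ supports (golayCode : Set (GolayPt → ZMod 2)) | Φ d = Φ c}.ncard = 2 := by
      intro c hc
      obtain ⟨ho, ho8⟩ := oct y hy
      set o := (lvl (y : GolayPt → ℤ) 2)ᶜ
      have hne : c ≠ symmDiff c o := fun h => by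
        have : o = ∅ := Finset.bot_eq_empty ▸ (symmDiff_eq_left.1 h.symm)
        rw [this] at ho8; simp at ho8
      suffices {d ∈ supports (golayCode : Set (GolayPt → ZMod 2)) | Φ d = Φ c} = {c, symmDiff c o} by
        rw [this, Set.ncard_pair hne]
      have hval : ∀ i, i ∉ o → (y : GolayPt → ℤ) i ≠ 0 := fun i hi h0 => by
        have : i ∈ lvl (y : GolayPt → ℤ) 2 := by simpa [o] using hi
        rw [mem_lvl, h0] at this; simp at this
      have hzero : ∀ i, i ∈ o → (y : GolayPt → ℤ) i = 0 := fun i hi => by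
        obtain ⟨-, hs⟩ := (hy.2 : (y : GolayPt → ℤ) ∈ shapeSet 2 4 0 16 0)
        have := natAbs_mkVec 2 4 0 (lvl (y : GolayPt → ℤ) 2) (lvl (y : GolayPt → ℤ) 4)
          (Finset.univ.filter fun i => (y : GolayPt → ℤ) i < 0) i
        rw [← eq_mkVec (by norm_num) (by norm_num) (by norm_num) hs] at this
        rw [mag, if_neg (Finset.mem_compl.1 hi), Finset.card_eq_zero.1 hs.2.1, if_neg (Finset.notMem_empty i)] at this
        omega
      have e1 : ∀ i, (1 : Equiv.Perm GolayPt).symm i = i := fun _ => rfl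
      ext d
      constructor
      · rintro ⟨hd, hdc⟩
        simp only [Φ, dif_pos hd, dif_pos hc] at hdc
        have hsub : symmDiff c d ⊆ o := fun i hi => by
          by_contra hio
          have := congrFun (congrArg Subtype.val hdc) i
          simp only [monoAut_smul, signedPerm, e1] at this
          have h0 := hval i hio
          rw [Finset.mem_symmDiff] at hi
          rcases hi with ⟨a, b⟩ | ⟨a, b⟩ <;> simp [a, b] at this <;> omega
        have hsupp := supports_symmDiff hc hd
        obtain ⟨w, hw, hwe⟩ := hsupp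
        have hcard := code_card hw
        rw [hwe] at hcard
        have h8 : (symmDiff c d).card ≤ 8 := ho8 ▸ Finset.card_le_card hsub
        rcases (by omega : (symmDiff c d).card = 0 ∨ (symmDiff c d).card = 8) with h | h
        · left
          rw [Finset.card_eq_zero, ← Finset.bot_eq_empty, symmDiff_eq_bot] at h
          exact h.symm
        · right
          show d = symmDiff c o
          rw [← Finset.eq_of_subset_of_card_le hsub (by omega), symmDiff_symmDiff_cancel_left]
      · rintro (rfl | rfl)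
        · exact ⟨hc, rfl⟩
        · refine ⟨supports_symmDiff hc ho, Subtype.ext (funext fun i => ?_)⟩
          simp only [Φ, dif_pos hc, dif_pos (supports_symmDiff hc ho), monoAut_smul, signedPerm, e1, Finset.mem_symmDiff]
          by_cases hio : i ∈ o
          · simp [hzero i hio]
          · simp [hio]
    have := mul_ncard_image Φ (Set.toFinite _) h2
    rw [← eΦ, ncard_supports] at this
    omega
  rw [← mul_ncard_image orb hF0 hk]
  exact Dvd.intro_left _ rfl

theorem subset_sums : ∀ f : Fin 6 → Bool, ∀ k : Fin 17,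
    398034000 % (48 + (if f 0 then 170016 else 0) + (if f 1 then 46632960 else 0) + (if f 2 then 777216 else 0) +
      (if f 3 then 126615552 else 0) + (if f 4 then 174096384 else 0) + (if f 5 then 24870912 else 0) +
      759 * 2048 * k.val) = 0 →
    (48 + (if f 0 then 170016 else 0) + (if f 1 then 46632960 else 0) + (if f 2 then 777216 else 0) +
      (if f 3 then 126615552 else 0) + (if f 4 then 174096384 else 0) + (if f 5 then 24870912 else 0) +
      759 * 2048 * k.val = 48 ∨
     48 + (if f 0 then 170016 else 0) + (if f 1 then 46632960 else 0) + (if f 2 then 777216 else 0) +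
      (if f 3 then 126615552 else 0) + (if f 4 then 174096384 else 0) + (if f 5 then 24870912 else 0) +
      759 * 2048 * k.val = 398034000) := by decide +kernel

theorem crossStab_maximal : IsCoatom crossStab := by
  refine ⟨fun h => ?_, fun K hK => ?_⟩
  · have := card_co0
    rw [← Nat.card_congr Subgroup.topEquiv.toEquiv, ← h, card_crossStab] at this
    omega
  set v := eight none
  have hle : crossStab ≤ K := hK.le
  have hv0 : v ∈ shape64 0 := by
    refine ⟨v.2, ?_⟩
    show HasShape 8 4 0 1 0 (Pi.single none 8)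
    unfold HasShape
    decide +kernel
  let U := orbit K v
  have hU : ∀ g ∈ crossStab, ∀ x ∈ U, g • x ∈ U := fun g hg x ⟨k, hk⟩ => ⟨⟨g, hle hg⟩ * k, by
    show ((⟨g, hle hg⟩ : K) * k) • v = g • x
    rw [mul_smul]; exact congrArg (g • ·) hk⟩
  have hU64 : ∀ x ∈ U, sqNorm (x : GolayPt → ℤ) = 64 := fun x ⟨k, hk⟩ => hk ▸
    ((co0_norm (k : Co0) v).trans (sqNorm_eight none))
  have hUfin : U.Finite := (Set.finite_of_ncard_pos (s := normSet 64)
    (by rw [ncard_normSet, ncard64]; norm_num)).subset hU64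
  have e1 := Nat.card_congr (orbitProdStabilizerEquivGroup K v)
  rw [Nat.card_prod, Nat.card_coe_set_eq] at e1
  have hstab : Nat.card (stabilizer K v) = Nat.card (stabilizer Co0 v) :=
    Nat.card_congr
      { toFun := fun g => ⟨g.1.1, g.2⟩
        invFun := fun g => ⟨⟨g.1, hle (mem_crossStab_of_congr (i := none) (j := none) (Or.inl g.2))⟩, g.2⟩
        left_inv := fun _ => rfl
        right_inv := fun _ => rfl }
  rw [hstab] at e1
  have hfull : 398034000 * Nat.card (stabilizer Co0 v) = Nat.card Co0 := by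
    rw [← Nat.card_congr (orbitProdStabilizerEquivGroup Co0 v), Nat.card_prod, Nat.card_coe_set_eq]
    congr 1
    rw [← ncard64, ← ncard_normSet]
    congr 1
    ext w
    constructor
    · intro hw
      obtain ⟨g, hg⟩ := transitive_norm (x := v) (y := w) (Or.inr (Or.inr (sqNorm_eight none)))
        ((show sqNorm (w : GolayPt → ℤ) = 64 from hw).trans (sqNorm_eight none).symm)
      exact ⟨g, hg⟩
    · rintro ⟨g, rfl⟩; exact (co0_norm g v).trans (sqNorm_eight none)
  have hpos : 0 < Nat.card (stabilizer Co0 v) := Nat.card_pos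
  have hdvd : U.ncard ∣ 398034000 := by
    have := Subgroup.card_subgroup_dvd_card K
    rw [← e1, ← hfull] at this
    exact Nat.dvd_of_mul_dvd_mul_right hpos this
  -- all or nothing
  have hall : ∀ i : Fin 8, i ≠ 5 → (U ∩ shape64 i).ncard = 0 ∨ (U ∩ shape64 i).ncard = shapeCount i := by
    intro i hi
    rcases (U ∩ shape64 i).eq_empty_or_nonempty with h | ⟨x, hxU, hxi⟩
    · exact Or.inl (by rw [h, Set.ncard_empty])
    · refine Or.inr ((congrArg Set.ncard (Set.inter_eq_right.2 fun y hy => ?_)).trans (ncard_shape64 i))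
      obtain ⟨g, hg, rfl⟩ := same_shape64 hi hxi hy
      exact hU g hg x hxU
  have hsum : U.ncard = ∑ i, (U ∩ shape64 i).ncard := by
    classical
    rw [Set.ncard_eq_toFinset_card _ hUfin,
      Finset.card_eq_sum_card_fiberwise (f := fun x : leechLattice => shapeIdx (x : GolayPt → ℤ)) (t := Finset.univ)
        fun x _ => Finset.mem_univ _]
    refine Finset.sum_congr rfl fun i _ => ?_
    rw [← Set.ncard_coe_finset]
    congr 1
    ext x
    rw [Finset.coe_filter, Set.mem_ofPred_eq, hUfin.mem_toFinset, Set.mem_inter_iff]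
    exact ⟨fun ⟨a, b⟩ => ⟨a, b ▸ mem_shape64_idx (hU64 x a)⟩, fun ⟨a, b⟩ => ⟨a, (shapeIdx_eq_of_mem b).1⟩⟩
  have h48 : (U ∩ shape64 0).ncard = 48 :=
    (hall 0 (by decide)).resolve_left fun h => by
      have := Set.Nonempty.ncard_pos (s := U ∩ shape64 0) (hs := hUfin.subset Set.inter_subset_left)
        ⟨v, mem_orbit_self v, hv0⟩
      omega
  obtain ⟨m, hm⟩ := dvd_sixteen hU
  have hm16 : m ≤ 16 := by
    have := Set.ncard_le_ncard (Set.inter_subset_right : U ∩ shape64 5 ⊆ shape64 5)
      (Set.finite_of_ncard_pos (by rw [ncard_shape64]; decide))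
    rw [hm, ncard_shape64] at this
    simp only [shapeCount] at this
    omega
  have bit : ∀ i : Fin 8, i ≠ 5 → ∃ b : Bool, (U ∩ shape64 i).ncard = if b then shapeCount i else 0 := fun i hi => by
    rcases hall i hi with h | h
    · exact ⟨false, h⟩
    · exact ⟨true, h⟩
  obtain ⟨b1, h1⟩ := bit 1 (by decide)
  obtain ⟨b2, h2⟩ := bit 2 (by decide)
  obtain ⟨b3, h3⟩ := bit 3 (by decide)
  obtain ⟨b4, h4⟩ := bit 4 (by decide)
  obtain ⟨b6, h6⟩ := bit 6 (by decide)
  obtain ⟨b7, h7⟩ := bit 7 (by decide)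
  have key := subset_sums ![b1, b2, b3, b4, b6, b7] ⟨m, by omega⟩
  simp only [Matrix.cons_val] at key
  have hUcard : U.ncard = 48 + (if b1 then 170016 else 0) + (if b2 then 46632960 else 0) +
      (if b3 then 777216 else 0) + (if b4 then 126615552 else 0) + (if b6 then 174096384 else 0) +
      (if b7 then 24870912 else 0) + 759 * 2048 * m := by
    rw [hsum, Fin.sum_univ_eight, h48, h1, h2, h3, h4, hm, h6, h7]
    simp only [shapeCount]
    omega
  have hmod : 398034000 % U.ncard = 0 := Nat.mod_eq_zero_of_dvd hdvd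
  rw [hUcard] at hmod
  rcases key hmod with h' | h' <;> have h := hUcard.trans h'
  · exfalso
    rw [h] at e1
    refine hK.ne (Subgroup.eq_of_le_of_card_ge hle ?_)
    rw [← e1, card_crossStab]
    rw [card_co0] at hfull
    omega
  · refine Subgroup.eq_top_of_card_eq K ?_
    rw [← e1, h, hfull]

end CfsgLib.Spor.Leech
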