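/-
The lattice modulo its double as a module for its automorphisms.
-/
import Cfsg.Agent.Lib.Spor.Leech.CrossStab

namespace CfsgLib.Spor.Leech

open Cfsg
open scoped Pointwise

theorem dot_dvd {v w : GolayPt → ℤ} (hv : v ∈ leechLattice) (hw : w ∈ leechLattice) : 8 ∣ dotInt v w := by
  have h1 := sqNorm_dvd hv
  have h2 := sqNorm_dvd hw
  have h3 := sqNorm_dvd (add_mem hv hw)
  rw [sqNorm_add] at h3
  omega

theorem other_points : ∀ i : GolayPt, ∃ j, i ≠ j ∧ ∃ k, i ≠ k ∧ j ≠ k := by decide +kernel

/-- An element from a concrete vector passing the test. -/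
def ofTest (x : GolayPt → ℤ) (h : leechTest x = true) : leechLattice := ⟨x, leechTest_spec h⟩

theorem trivial_mod_two {g : Co0} (h : ∀ v : leechLattice, ∃ w : leechLattice,
    ((g • v : leechLattice) : GolayPt → ℤ) - (v : GolayPt → ℤ) = 2 • (w : GolayPt → ℤ)) :
    g ∈ Subgroup.center Co0 := by
  have hcr : ∀ i, ∃ j, g • eight i = eight j ∨ g • eight i = -eight j := by
    intro i
    refine mem_stdCross_iff.1 ?_
    rw [← cross_single i]
    obtain ⟨w, hw⟩ := h (eight i)
    refine ⟨Subtype.prop _, ?_, -(w : GolayPt → ℤ), neg_mem w.2, ?_⟩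
    · rw [co0_norm]; rfl
    · rw [smul_neg, ← hw, neg_sub]; rfl
  choose f hf using hcr
  have hpair : ∀ i j, i ≠ j → ∃ s : ℤ, (s = 1 ∨ s = -1) ∧ ∀ k,
      ((g • eight i : leechLattice) : GolayPt → ℤ) k + ((g • eight j : leechLattice) : GolayPt → ℤ) k =
        s * ((eight i : GolayPt → ℤ) k + (eight j : GolayPt → ℤ) k) := by
    intro i j hij
    let v : leechLattice := ⟨fourVec i j, fourVec_mem i j⟩
    have hn : sqNorm (v : GolayPt → ℤ) = 32 := by
      show sqNorm (Pi.single i (4 : ℤ) + Pi.single j 4) = 32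
      rw [sqNorm_add]
      simp [sqNorm, dotInt, Pi.single_apply, hij, hij.symm]
    have e : eight i + eight j = 2 • v := Subtype.ext (funext fun k => by
      simp only [v, eight, fourVec, AddSubgroup.coe_add, AddSubgroup.coe_nsmul, Pi.add_apply, Pi.smul_apply,
        Pi.single_apply, nsmul_eq_mul, Nat.cast_ofNat]
      split_ifs <;> norm_num)
    have h0 : ∀ u : leechLattice, sqNorm (u : GolayPt → ℤ) = 32 → (u : GolayPt → ℤ) ≠ 0 := fun u hu h => by
      rw [h] at hu; simp [sqNorm] at hu
    obtain ⟨w, hw⟩ := h v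
    have hgn : sqNorm ((g • v : leechLattice) : GolayPt → ℤ) = 32 := (co0_norm g v).trans hn
    have hgv := (short_congr_norm (g • v).2 v.2 (by omega) (by omega) ⟨w, w.2, hw⟩).2 (by omega)
    have hs : g • eight i + g • eight j = 2 • (g • v) := by rw [← co0_add, e, co0_two_nsmul]
    have hs' := fun k => congrFun (congrArg Subtype.val hs) k
    have e' := fun k => congrFun (congrArg Subtype.val e) k
    simp only [AddSubgroup.coe_add, AddSubgroup.coe_nsmul, Pi.add_apply, Pi.smul_apply] at hs' e'
    rcases hgv with h' | h'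
    · exact ⟨1, Or.inl rfl, fun k => by rw [hs', e', one_mul, h']⟩
    · exact ⟨-1, Or.inr rfl, fun k => by rw [hs', e', h']; simp⟩
  have hval : ∀ i k, k ≠ f i → ((g • eight i : leechLattice) : GolayPt → ℤ) k = 0 := fun i k hk => by
    rcases hf i with a | a <;> rw [a] <;> simp [eight, hk]
  have fix_or : ∀ i j, i ≠ j → i = f i ∨ i = f j := by
    intro i j hij
    by_contra hc
    rw [not_or] at hc
    obtain ⟨s, hs, e⟩ := hpair i j hij
    have := e i
    rw [hval i i hc.1, hval j i hc.2] at this
    simp [eight, hij] at this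
    rcases hs with rfl | rfl <;> simp at this
  have hfi : ∀ i, f i = i := by
    intro i
    by_contra hne
    have hj : ∀ j, i ≠ j → i = f j := fun j hij => (fix_or i j hij).resolve_left (Ne.symm hne)
    obtain ⟨j, hji, k, hki, hjk⟩ := other_points i
    have e := (hj j hji).symm.trans (hj k hki)
    have hpm : g • eight j = g • eight k ∨ g • eight j = g • -eight k := by
      rw [co0_neg]
      rcases hf j with a | a <;> rcases hf k with b | b <;> rw [a, b, e] <;> simp
    rcases hpm with h' | h'
    · exact hjk (eight_injective (MulAction.injective g h'))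
    · have := congrFun (congrArg Subtype.val (MulAction.injective g h')) j
      simp [eight, hjk] at this
  rw [mem_center_iff_eq]
  have hsame : ∀ i, g • eight none = eight none → g • eight i = eight i := by
    intro i h0
    rcases eq_or_ne none i with rfl | hne
    · exact h0
    · obtain ⟨s, hs, e⟩ := hpair none i hne
      have e1 := e none
      have e2 := e i
      rw [h0, hval i none (by rw [hfi]; exact hne)] at e1
      rcases hf i with a | a <;> rw [hfi] at a
      · exact a
      · rw [h0, a] at e2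
        simp [eight, hne, hne.symm] at e1 e2
        rcases hs with rfl | rfl <;> simp at e1 e2
  rcases hf none with h0 | h0 <;> rw [hfi] at h0
  · exact Or.inl (co0_ext fun i => by rw [one_smul]; exact hsame i h0)
  · refine Or.inr (co0_ext fun i => ?_)
    rw [negAut_smul]
    rcases eq_or_ne none i with rfl | hne
    · exact h0
    · obtain ⟨s, hs, e⟩ := hpair none i hne
      have e1 := e none
      have e2 := e i
      rw [h0, hval i none (by rw [hfi]; exact hne)] at e1
      rcases hf i with a | a <;> rw [hfi] at a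
      · rw [h0, a] at e2
        simp [eight, hne, hne.symm] at e1 e2
        rcases hs with rfl | rfl <;> simp at e1 e2
      · exact a

/-! ### Irreducibility -/

/-- Norm 48: `(5, 1²³)`. -/
def w48 : GolayPt → ℤ := mkVec 3 5 1 (pts 0) (pts 1) (pts 0)

theorem invariant_cases {M : AddSubgroup (GolayPt → ℤ)} (h2 : ∀ v ∈ leechLattice, (2 : ℤ) • v ∈ M)
    (hle : M ≤ leechLattice) (hinv : ∀ g : Co0, ∀ v : leechLattice, (v : GolayPt → ℤ) ∈ M →
      ((g • v : leechLattice) : GolayPt → ℤ) ∈ M) :
    (∀ x ∈ M, ∃ w ∈ leechLattice, x = (2 : ℤ) • w) ∨ M = leechLattice := by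
  by_cases h : ∀ x ∈ M, ∃ w ∈ leechLattice, x = (2 : ℤ) • w
  · exact Or.inl h
  refine Or.inr (le_antisymm hle ?_)
  push Not at h
  obtain ⟨x, hx, hxn⟩ := h
  obtain ⟨y, hy, hy64, z, hz, e⟩ := exists_short_congr (hle hx)
  have hyM : y ∈ M := by
    have : y = x - (2 : ℤ) • z := by rw [ofNat_zsmul, ← e, sub_sub_cancel]
    rw [this]; exact sub_mem hx (h2 z hz)
  have hy0 : y ≠ 0 := fun h0 => hxn z hz (by rw [h0, sub_zero] at e; rw [e, ofNat_zsmul])
  have hn : sqNorm y = 32 ∨ sqNorm y = 48 ∨ sqNorm y = 64 := by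
    have := sqNorm_dvd hy; have := sqNorm_min hy hy0; omega
  have all : ∀ u : leechLattice, (u : GolayPt → ℤ) ∈ M →
      sqNorm (u : GolayPt → ℤ) = 32 ∨ sqNorm (u : GolayPt → ℤ) = 48 ∨ sqNorm (u : GolayPt → ℤ) = 64 →
      ∀ w : GolayPt → ℤ, leechTest w = true → sqNorm w = sqNorm (u : GolayPt → ℤ) → w ∈ M := by
    intro u hu hu' w hw hwn
    obtain ⟨g, hg⟩ := transitive_norm (x := u) (y := ofTest w hw) hu' hwn
    have := hinv g u hu
    rw [hg] at this
    exact this
  have m32 : twoVec 13062145 ∈ M ∨ fourVec (idxPt 0) (idxPt 1) ∈ M ∨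
      Pi.single (idxPt 0) 4 - Pi.single (idxPt 4) 4 ∈ M := by
    rcases hn with hn | hn | hn
    · exact Or.inr (Or.inl (all ⟨y, hy⟩ hyM (Or.inl hn) _ (by decide +kernel) (Eq.trans (by decide +kernel) hn.symm)))
    · refine Or.inl ?_
      have a := all ⟨y, hy⟩ hyM (Or.inr (Or.inl hn))
      have h48 : w48 ∈ M := a _ (by decide +kernel) (Eq.trans (by decide +kernel) hn.symm)
      have e : twoVec 4845570 = w48 - (w48 - twoVec 4845570) := by abel
      have h4 : twoVec 4845570 ∈ M := by
        rw [e]; exact sub_mem h48 (a _ (by decide +kernel) (Eq.trans (by decide +kernel) hn.symm))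
      exact all ⟨_, twoVec_mem (word_row_mem (by decide))⟩ h4 (Or.inl (by decide +kernel)) _
        (by decide +kernel) (by decide +kernel)
    · refine Or.inr (Or.inr ?_)
      have a := all ⟨y, hy⟩ hyM (Or.inr (Or.inr hn))
      have h1 : fourVec (idxPt 0) (idxPt 1) + fourVec (idxPt 2) (idxPt 3) ∈ M :=
        a _ (by decide +kernel) (Eq.trans (by decide +kernel) hn.symm)
      have h2' : fourVec (idxPt 1) (idxPt 2) + fourVec (idxPt 3) (idxPt 4) ∈ M :=
        a _ (by decide +kernel) (Eq.trans (by decide +kernel) hn.symm)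
      have := sub_mem h1 h2'
      simp only [fourVec] at this
      convert this using 1
      abel
  have all32 : ∀ w : GolayPt → ℤ, w ∈ leechLattice → sqNorm w = 32 → w ∈ M := by
    intro w hw hwn
    rcases m32 with h | h | h
    · obtain ⟨g, hg⟩ := transitive_norm (x := ofTest (twoVec 13062145) (by decide +kernel)) (y := ⟨w, hw⟩)
        (Or.inl (by decide +kernel)) (hwn.trans (by decide +kernel))
      have := hinv g (ofTest (twoVec 13062145) (by decide +kernel)) h
      rwa [hg] at this
    · obtain ⟨g, hg⟩ := transitive_norm (x := ⟨_, fourVec_mem (idxPt 0) (idxPt 1)⟩) (y := ⟨w, hw⟩)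
        (Or.inl (by decide +kernel)) (hwn.trans (by decide +kernel))
      have := hinv g ⟨_, fourVec_mem (idxPt 0) (idxPt 1)⟩ h
      rwa [hg] at this
    · obtain ⟨g, hg⟩ := transitive_norm (x := ofTest (Pi.single (idxPt 0) 4 - Pi.single (idxPt 4) 4) (by decide +kernel))
        (y := ⟨w, hw⟩) (Or.inl (by decide +kernel)) (hwn.trans (by decide +kernel))
      have := hinv g (ofTest (Pi.single (idxPt 0) 4 - Pi.single (idxPt 4) 4) (by decide +kernel)) h
      rwa [hg] at this
  have hrows : ∀ r ∈ rows, sqNorm (twoVec r) = 32 := by decide +kernel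
  refine leech_le (all32 _ oddVec_mem (by decide +kernel))
    (fun r hr => all32 _ (twoVec_mem (word_row_mem hr)) (hrows r hr)) fun p q => ?_
  have hpq : ∀ p q : GolayPt, p ≠ q → fourVec p q ∈ M := fun p q hne => all32 _ (fourVec_mem p q) (by
    show sqNorm (Pi.single p (4 : ℤ) + Pi.single q 4) = 32
    rw [sqNorm_add]
    simp [sqNorm, dotInt, Pi.single_apply, hne, hne.symm])
  rcases eq_or_ne p q with rfl | hne
  · obtain ⟨j, hj, k, hk, hjk⟩ := other_points p
    have e : fourVec p p = fourVec p j + fourVec p k - fourVec j k := by simp only [fourVec]; abel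
    rw [e]; exact sub_mem (add_mem (hpq p j hj) (hpq p k hk)) (hpq j k hjk)
  · exact hpq p q hne

/-! ### The invariant quadratic form -/

/-- Norm 32: `4` at the first two points. -/
def qU : GolayPt → ℤ := fourVec (idxPt 0) (idxPt 1)
/-- Norm 32, inner product 16 with the first. -/
def qV : GolayPt → ℤ := fourVec (idxPt 0) (idxPt 2)
/-- A further one. -/
def qV' : GolayPt → ℤ := fourVec (idxPt 0) (idxPt 3)

theorem quadratic_unique (Q : leechLattice → ZMod 2) (hcoset : ∀ v w, Q (v + (w + w)) = Q v)
    (hquad : ∀ u v w, Q (u + v + w) + Q u + Q v + Q w = Q (u + v) + Q (u + w) + Q (v + w))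
    (hinv : ∀ (g : Co0) (v : leechLattice), Q (g • v) = Q v) (hne : ∃ v, Q v ≠ 0) (v : leechLattice) :
    Q v = ((sqNorm (v : GolayPt → ℤ) / 16 : ℤ) : ZMod 2) := by
  have h0 : Q 0 = 0 := by
    have := hquad 0 0 0
    simp only [add_zero] at this
    revert this; generalize Q 0 = a; revert a; decide
  have hcon : ∀ (n : ℤ) (x y : leechLattice), n = 32 ∨ n = 48 ∨ n = 64 → sqNorm (x : GolayPt → ℤ) = n →
      sqNorm (y : GolayPt → ℤ) = n → Q x = Q y := by
    intro n x y hn hx hy
    obtain ⟨g, hg⟩ := transitive_norm (x := x) (y := y) (by omega) (hy.trans hx.symm)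
    rw [← hg, hinv]
  let B : leechLattice → leechLattice → ZMod 2 := fun u v => Q (u + v) + Q u + Q v
  have hB : ∀ u v w, B u (v + w) = B u v + B u w := fun u v w => by
    have := hquad u v w
    simp only [B, ← add_assoc u v w]
    revert this
    generalize Q (u + v + w) = a, Q u = b, Q v = c, Q w = d, Q (u + v) = e, Q (u + w) = f, Q (v + w) = k
    revert a b c d e f k
    decide +kernel
  have hsub : ∀ u v : leechLattice, Q (u + v) = Q (u - v) := fun u v => by
    rw [← hcoset (u - v) v]; congr 1; abel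
  let u : leechLattice := ofTest qU (by decide +kernel)
  let x : leechLattice := ofTest qV (by decide +kernel)
  let x' : leechLattice := ofTest qV' (by decide +kernel)
  let o : leechLattice := ofTest (twoVec ((codeList.find? fun m => pop 24 m == 8 && m.testBit 0 &&
    m.testBit 2 && !m.testBit 1).getD 0)) (by decide +kernel)
  let u48 : leechLattice := u - o
  have n48 : sqNorm (u48 : GolayPt → ℤ) = 48 := by decide +kernel
  have nu : sqNorm (u : GolayPt → ℤ) = 32 := by decide +kernel
  have c32 : ∀ y : leechLattice, sqNorm (y : GolayPt → ℤ) = 32 → Q y = Q u := fun y hy =>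
    hcon 32 y u (Or.inl rfl) hy nu
  have bx : ∀ y : leechLattice, sqNorm (y : GolayPt → ℤ) = 32 → sqNorm ((u - y : leechLattice) : GolayPt → ℤ) = 32 →
      B u y = Q u := fun y hy hd => by
    simp only [B, hsub u y, c32 _ hd, c32 y hy]
    generalize Q u = a; revert a; decide
  have b48 : ∀ y : leechLattice, sqNorm (y : GolayPt → ℤ) = 32 → sqNorm ((u - y : leechLattice) : GolayPt → ℤ) = 48 →
      B u y = Q u48 := fun y hy hd => by
    simp only [B, hsub u y, hcon 48 _ u48 (Or.inr (Or.inl rfl)) hd n48, c32 y hy]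
    generalize Q u = a, Q u48 = b; revert a b; decide
  let v64 : leechLattice := u + (x - x')
  have n64 : sqNorm (v64 : GolayPt → ℤ) = 64 := by decide +kernel
  have e64 : B u (x - x') = Q v64 := by
    simp only [B, v64, c32 (x - x') (by decide +kernel)]
    generalize Q u = a, Q (u + (x - x')) = b; revert a b; decide
  have q64 : Q v64 = 0 := by
    have := hB u (x - x') x'
    rw [sub_add_cancel, e64, bx x (by decide +kernel) (by decide +kernel), bx x' (by decide +kernel) (by decide +kernel)] at this
    revert this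
    generalize Q u = a, Q v64 = b; revert a b; decide
  have q32 : Q u = 0 := by
    have := hB u o (x - o)
    rw [add_sub_cancel, bx x (by decide +kernel) (by decide +kernel), b48 o (by decide +kernel) (by decide +kernel),
      b48 (x - o) (by decide +kernel) (by decide +kernel)] at this
    revert this
    generalize Q u = a, Q u48 = b; revert a b; decide
  have key : ∀ w : leechLattice, ∃ n : ℤ, (n = 0 ∨ n = 32 ∨ n = 48 ∨ n = 64) ∧
      (sqNorm (w : GolayPt → ℤ) - n) % 32 = 0 ∧ Q w = if n = 48 then Q u48 else 0 := by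
    intro w
    obtain ⟨y, hy, hy64, z, hz, e⟩ := exists_short_congr w.2
    have hw : w = ⟨y, hy⟩ + ((⟨z, hz⟩ : leechLattice) + ⟨z, hz⟩) := Subtype.ext (by
      show (w : GolayPt → ℤ) = y + (z + z)
      rw [← two_nsmul, ← e]; abel)
    have hQ : Q w = Q ⟨y, hy⟩ := by rw [hw, hcoset]
    have hmod : (sqNorm (w : GolayPt → ℤ) - sqNorm y) % 32 = 0 := by
      rw [show (w : GolayPt → ℤ) = y + 2 • z by rw [← e]; abel, sqNorm_add, sqNorm_two_nsmul]
      have hd : dotInt y (2 • z) = 2 * dotInt y z := by
        simp only [dotInt, Finset.mul_sum, Pi.smul_apply, nsmul_eq_mul, Nat.cast_ofNat]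
        exact Finset.sum_congr rfl fun i _ => by ring
      have := dot_dvd hy hz
      have := sqNorm_dvd hz
      omega
    have hn : y = 0 ∨ sqNorm y = 32 ∨ sqNorm y = 48 ∨ sqNorm y = 64 := by
      rcases eq_or_ne y 0 with h | h
      · exact Or.inl h
      · have := sqNorm_dvd hy; have := sqNorm_min hy h; omega
    refine ⟨sqNorm y, ?_, hmod, hQ.trans ?_⟩
    · rcases hn with h | h
      · exact Or.inl (by rw [h]; simp [sqNorm])
      · exact Or.inr h
    · rcases hn with h | h | h | h
      · subst h
        rw [if_neg (by simp [sqNorm])]; exact h0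
      · rw [h, if_neg (by norm_num), c32 _ h, q32]
      · rw [h, if_pos rfl, hcon 48 _ u48 (Or.inr (Or.inl rfl)) h n48]
      · rw [h, if_neg (by norm_num), hcon 64 _ v64 (Or.inr (Or.inr rfl)) h n64, q64]
  have h1 : Q u48 = 1 := by
    obtain ⟨w, hw⟩ := hne
    obtain ⟨n, -, -, e⟩ := key w
    revert hw e
    split_ifs <;> generalize Q w = a, Q u48 = b <;> revert a b <;> decide
  obtain ⟨n, hn, hmod, e⟩ := key v
  rw [e, h1]
  have h16 := sqNorm_dvd v.2
  rcases hn with rfl | rfl | rfl | rfl <;> norm_num <;>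
    symm <;>
    first
      | exact (zmod2_cast_eq_zero _).2 (by omega)
      | (rw [show sqNorm (v : GolayPt → ℤ) / 16 = 1 + 2 * (sqNorm (v : GolayPt → ℤ) / 16 / 2) by omega]
         push_cast
         rw [show (2 : ZMod 2) = 0 from rfl, zero_mul, add_zero])

/-! ### The extension is not split -/

/-- A fixed point free involution of the code. -/
def swapCode : ℕ := 767490607488102132422820691503092932

theorem swap_facts : isM24Code swapCode = true ∧ codeTest 325481 = true ∧
    ∀ p, fnPt swapCode (fnPt swapCode p) = p ∧ decide (fnPt swapCode p ∈ pts 325481) = decide (p ∉ pts 325481) := by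
  refine ⟨by decide +kernel, by decide +kernel, by decide +kernel⟩

theorem no_complement :
    ∃ n : Co0, (∀ v : leechLattice, ((n • v : leechLattice) : GolayPt → ℤ) = -(v : GolayPt → ℤ)) ∧
    ∀ K : Subgroup Co0, ¬ (Subgroup.zpowers n).IsComplement' K := by
  obtain ⟨hP, hc, hf⟩ := swap_facts
  refine ⟨negAut, fun v => by rw [negAut_smul, AddSubgroup.coe_neg], fun K hK => ?_⟩
  let σ := permOf swapCode
  have hσσ : ∀ p, σ (σ p) = p := fun p => by
    simp only [σ, permOf_apply (isPermCode_of_isM24Code hP)]; exact (hf p).1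
  have hsign : ∀ p, σ p ∈ pts 325481 ↔ p ∉ pts 325481 := fun p => by
    simp only [σ, permOf_apply (isPermCode_of_isM24Code hP)]
    exact decide_eq_decide.1 (hf p).2
  let g : Co0 := monoAut (σ := σ) (permOf_mem_M24 hP) (pts_supports hc)
  have hsq : g * g = negAut := by
    refine co0_ext fun i => Subtype.ext ?_
    rw [mul_smul, monoAut_smul, monoAut_smul, negAut_smul, AddSubgroup.coe_neg,
      show (eight i : GolayPt → ℤ) = Pi.single i 8 from rfl, signedPerm_eight, signedPerm_eight, hσσ, ← Pi.single_neg]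
    congr 1
    have := hsign i
    by_cases h1 : i ∈ pts 325481 <;> simp [h1] at this <;> simp [h1, this]
  obtain ⟨⟨a, k⟩, hak⟩ := hK.2 g
  have hak : (a : Co0) * k = g := hak
  have hac : (a : Co0) ∈ Subgroup.center Co0 := Subgroup.zpowers_le.2 negAut_central a.2
  have ha2 : (a : Co0) * a = 1 := by
    rcases mem_center_iff_eq.1 hac with h | h <;> rw [h]
    · exact mul_one 1
    · exact co0_ext fun i => by rw [mul_smul, negAut_smul, negAut_smul, neg_neg, one_smul]
  have hkk : negAut = (k : Co0) * k := by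
    rw [← hsq, ← hak, mul_assoc, ← mul_assoc (k : Co0), Subgroup.mem_center_iff.1 hac k, mul_assoc, ← mul_assoc,
      ha2, one_mul]
  have hnK : negAut ∈ K := hkk ▸ K.mul_mem k.2 k.2
  have hbot := hK.disjoint.le_bot (x := negAut) ⟨Subgroup.mem_zpowers _, hnK⟩
  exact negAut_ne_one (Subgroup.mem_bot.1 hbot)

end CfsgLib.Spor.Leech
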