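/-
The automorphism group of the lattice is perfect and simple modulo its center.
-/
import Cfsg.Agent.Lib.Spor.Leech.Maximal
import Cfsg.Agent.Lib.Spor.Leech.ModTwo
import Cfsg.Agent.Lib.Spor.MathieuSimple
import Cfsg.Prelude.Def_Sporadic

namespace CfsgLib.Spor.Leech

open Cfsg MulAction
open scoped Pointwise commutatorElement

/-- The sign change on a code word. -/
def sgnAut {c : Finset GolayPt} (hc : c ∈ supports (golayCode : Set (GolayPt → ZMod 2))) : Co0 :=
  monoAut M24.one_mem hc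

/-- The coordinate permutation. -/
def prmAut {σ : Equiv.Perm GolayPt} (hσ : σ ∈ M24) : Co0 := monoAut hσ Spor.empty_mem_supports_golayCode

theorem sgnAut_smul {c : Finset GolayPt} (hc : c ∈ supports (golayCode : Set (GolayPt → ZMod 2))) (v : leechLattice)
    (i : GolayPt) : ((sgnAut hc • v : leechLattice) : GolayPt → ℤ) i =
      if i ∈ c then -(v : GolayPt → ℤ) i else (v : GolayPt → ℤ) i := rfl

theorem prmAut_smul {σ : Equiv.Perm GolayPt} (hσ : σ ∈ M24) (v : leechLattice) (i : GolayPt) :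
    ((prmAut hσ • v : leechLattice) : GolayPt → ℤ) i = (v : GolayPt → ℤ) (σ.symm i) := by
  simp [prmAut, monoAut_smul, signedPerm]

theorem co0_eq {g h : Co0} (H : ∀ (v : leechLattice) (i : GolayPt),
    ((g • v : leechLattice) : GolayPt → ℤ) i = ((h • v : leechLattice) : GolayPt → ℤ) i) : g = h :=
  Subtype.ext (Equiv.ext fun v => Subtype.ext (funext (H v)))

theorem sgnAut_congr {c d : Finset GolayPt} {hc : c ∈ supports (golayCode : Set (GolayPt → ZMod 2))}
    {hd : d ∈ supports (golayCode : Set (GolayPt → ZMod 2))} (h : c = d) : sgnAut hc = sgnAut hd := by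
  subst h; rfl

theorem sgnAut_mul {c d : Finset GolayPt} (hc : c ∈ supports (golayCode : Set (GolayPt → ZMod 2)))
    (hd : d ∈ supports (golayCode : Set (GolayPt → ZMod 2))) :
    sgnAut hc * sgnAut hd = sgnAut (supports_symmDiff hc hd) := co0_eq fun v i => by
  simp only [mul_smul, sgnAut_smul, Finset.mem_symmDiff]
  by_cases h1 : i ∈ c <;> by_cases h2 : i ∈ d <;> simp [h1, h2]

theorem sgnAut_empty : sgnAut Spor.empty_mem_supports_golayCode = 1 := co0_eq fun v i => by simp [sgnAut_smul]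

theorem sgnAut_sq {c : Finset GolayPt} (hc : c ∈ supports (golayCode : Set (GolayPt → ZMod 2))) :
    sgnAut hc * sgnAut hc = 1 := co0_eq fun v i => by
  simp only [mul_smul, sgnAut_smul, one_smul]
  split_ifs <;> simp

theorem sgnAut_comm {c d : Finset GolayPt} (hc : c ∈ supports (golayCode : Set (GolayPt → ZMod 2)))
    (hd : d ∈ supports (golayCode : Set (GolayPt → ZMod 2))) : sgnAut hc * sgnAut hd = sgnAut hd * sgnAut hc := by
  rw [sgnAut_mul, sgnAut_mul]; exact sgnAut_congr (symmDiff_comm c d)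

theorem prmAut_mul {σ τ : Equiv.Perm GolayPt} (hσ : σ ∈ M24) (hτ : τ ∈ M24) :
    prmAut hσ * prmAut hτ = prmAut (M24.mul_mem hσ hτ) := co0_eq fun v i => by
  simp only [mul_smul, prmAut_smul]; rfl

theorem prmAut_one : prmAut M24.one_mem = 1 := co0_eq fun v i => by simp [prmAut_smul, Equiv.Perm.one_def]

theorem prmAut_congr {σ τ : Equiv.Perm GolayPt} {hσ : σ ∈ M24} {hτ : τ ∈ M24} (h : σ = τ) :
    prmAut hσ = prmAut hτ := by
  subst h; rfl

theorem prmAut_inv {σ : Equiv.Perm GolayPt} (hσ : σ ∈ M24) : (prmAut hσ)⁻¹ = prmAut (M24.inv_mem hσ) :=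
  inv_eq_of_mul_eq_one_right (by rw [prmAut_mul, prmAut_congr (hτ := M24.one_mem) (mul_inv_cancel σ), prmAut_one])

theorem monoAut_eq {σ : Equiv.Perm GolayPt} (hσ : σ ∈ M24) {c : Finset GolayPt}
    (hc : c ∈ supports (golayCode : Set (GolayPt → ZMod 2))) : monoAut hσ hc = sgnAut hc * prmAut hσ :=
  co0_eq fun v i => by simp only [mul_smul, sgnAut_smul, prmAut_smul, monoAut_smul, signedPerm]

theorem prmAut_conj {σ : Equiv.Perm GolayPt} (hσ : σ ∈ M24) {c : Finset GolayPt}
    (hc : c ∈ supports (golayCode : Set (GolayPt → ZMod 2))) :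
    prmAut hσ * sgnAut hc * (prmAut hσ)⁻¹ = sgnAut (smul_mem_supports hσ hc) := by
  rw [mul_inv_eq_iff_eq_mul]
  refine co0_eq fun v i => ?_
  simp only [mul_smul, sgnAut_smul, prmAut_smul]
  have e : i ∈ σ • c ↔ σ.symm i ∈ c := (Finset.inv_smul_mem_iff (a := σ)).symm
  simp only [e]

/-- The group of sign changes. -/
def signSub : Subgroup Co0 where
  carrier := {g | ∃ c, ∃ hc : c ∈ supports (golayCode : Set (GolayPt → ZMod 2)), g = sgnAut hc}
  one_mem' := ⟨∅, _, sgnAut_empty.symm⟩
  mul_mem' := by rintro _ _ ⟨c, hc, rfl⟩ ⟨d, hd, rfl⟩; exact ⟨_, _, sgnAut_mul hc hd⟩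
  inv_mem' := by rintro _ ⟨c, hc, rfl⟩; exact ⟨c, hc, inv_eq_of_mul_eq_one_right (sgnAut_sq hc)⟩

theorem signSub_conj {h e : Co0} (hh : h ∈ crossStab) (he : e ∈ signSub) : h * e * h⁻¹ ∈ signSub := by
  obtain ⟨σ, hσ, c, hc, rfl⟩ := exists_monoAut hh
  obtain ⟨d, hd, rfl⟩ := he
  have hd' := smul_mem_supports hσ hd
  refine ⟨_, hd', ?_⟩
  rw [monoAut_eq, show sgnAut hc * prmAut hσ * sgnAut hd * (sgnAut hc * prmAut hσ)⁻¹ =
      sgnAut hc * (prmAut hσ * sgnAut hd * (prmAut hσ)⁻¹) * (sgnAut hc)⁻¹ by group, prmAut_conj hσ hd,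
    sgnAut_comm hc hd', mul_assoc, mul_inv_cancel, mul_one]

theorem eight_not_double (w : leechLattice) : eight none ≠ 2 • w := by
  intro h
  have hn := congrArg (fun v : leechLattice => sqNorm (v : GolayPt → ℤ)) h
  simp only [sqNorm_eight, AddSubgroup.coe_nsmul, sqNorm_two_nsmul] at hn
  have h0 : (w : GolayPt → ℤ) ≠ 0 := fun e => by rw [e] at hn; simp [sqNorm] at hn
  have := sqNorm_min w.2 h0
  omega

/-- A normal subgroup fixing the cross is central. -/
theorem normal_le_center {N : Subgroup Co0} (hN : N.Normal) (hle : N ≤ crossStab) : N ≤ Subgroup.center Co0 := by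
  let T : AddSubgroup (GolayPt → ℤ) :=
    { carrier := {x | ∃ hx : x ∈ leechLattice, ∀ n ∈ N, ∃ w : leechLattice, n • (⟨x, hx⟩ : leechLattice) - ⟨x, hx⟩ = 2 • w}
      zero_mem' := ⟨zero_mem _, fun n _ => ⟨0, by
        rw [show (⟨0, zero_mem _⟩ : leechLattice) = 0 from rfl, sub_zero, nsmul_zero]
        exact map_zero (AddMonoidHom.mk' (fun v : leechLattice => n • v) (co0_add n))⟩⟩
      add_mem' := by
        rintro x y ⟨hx, hx'⟩ ⟨hy, hy'⟩
        refine ⟨add_mem hx hy, fun n hn => ?_⟩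
        obtain ⟨a, ha⟩ := hx' n hn
        obtain ⟨b, hb⟩ := hy' n hn
        refine ⟨a + b, ?_⟩
        rw [show (⟨x + y, add_mem hx hy⟩ : leechLattice) = ⟨x, hx⟩ + ⟨y, hy⟩ from rfl, co0_add, nsmul_add, ← ha, ← hb]
        abel
      neg_mem' := by
        rintro x ⟨hx, hx'⟩
        refine ⟨neg_mem hx, fun n hn => ?_⟩
        obtain ⟨a, ha⟩ := hx' n hn
        refine ⟨-a, ?_⟩
        rw [show (⟨-x, neg_mem hx⟩ : leechLattice) = -⟨x, hx⟩ from rfl, co0_neg, smul_neg, ← ha]
        abel }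
  have h2 : ∀ v ∈ leechLattice, (2 : ℤ) • v ∈ T := fun v hv =>
    ⟨leechLattice.zsmul_mem hv 2, fun n _ => ⟨n • ⟨v, hv⟩ - ⟨v, hv⟩, by
      rw [show (⟨(2 : ℤ) • v, leechLattice.zsmul_mem hv 2⟩ : leechLattice) = (2 : ℤ) • ⟨v, hv⟩ from rfl, co0_zsmul,
        ← zsmul_sub]
      exact ofNat_zsmul _ 2⟩⟩
  have hinv : ∀ g : Co0, ∀ v : leechLattice, (v : GolayPt → ℤ) ∈ T → ((g • v : leechLattice) : GolayPt → ℤ) ∈ T := by
    rintro g v ⟨hv, hv'⟩
    refine ⟨(g • v).2, fun n hn => ?_⟩
    obtain ⟨w, hw⟩ := hv' (g⁻¹ * n * g) (by simpa using hN.conj_mem n hn g⁻¹)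
    refine ⟨g • w, ?_⟩
    show n • (g • v) - g • v = _
    rw [← co0_two_nsmul, ← hw, co0_sub]
    show n • g • v - g • v = g • ((g⁻¹ * n * g) • v) - g • v
    rw [← mul_smul g, show g * (g⁻¹ * n * g) = n * g by group, mul_smul]
  have h8 : (eight none : GolayPt → ℤ) ∈ T := by
    refine ⟨(eight none).2, fun n hn => ?_⟩
    have h := hle hn (eight none) (eight_mem_stdCross none)
    rw [← cross_single none] at h
    obtain ⟨-, -, z, hz, e⟩ := h
    refine ⟨-⟨z, hz⟩, Subtype.ext ?_⟩
    rw [AddSubgroup.coe_sub, AddSubgroup.coe_nsmul, AddSubgroup.coe_neg, smul_neg, ← e]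
    exact (neg_sub _ _).symm
  rcases invariant_cases h2 (fun x hx => hx.1) hinv with h | h
  · obtain ⟨w, hw, e⟩ := h _ h8
    exact absurd (Subtype.ext (by rw [e, ofNat_zsmul]; rfl)) (eight_not_double ⟨w, hw⟩)
  · intro n hn
    refine trivial_mod_two fun v => ?_
    obtain ⟨_, hv⟩ : (v : GolayPt → ℤ) ∈ T := (SetLike.ext_iff.1 h _).2 v.2
    obtain ⟨w, hw⟩ := hv n hn
    exact ⟨w, congrArg Subtype.val hw⟩

theorem normal_sup_cross {N : Subgroup Co0} (hN : N.Normal) (h : ¬ N ≤ Subgroup.center Co0) :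
    N ⊔ crossStab = ⊤ :=
  crossStab_maximal.2 _ (lt_of_le_not_ge le_sup_right fun hle =>
    h (normal_le_center hN (le_sup_left.trans hle)))

theorem sgn_not_central {c : Finset GolayPt} (hc : c ∈ supports (golayCode : Set (GolayPt → ZMod 2))) (h8 : c.card = 8) :
    sgnAut hc ∉ Subgroup.center Co0 := by
  intro h
  obtain ⟨i, hi⟩ := Finset.card_pos.1 (by omega : 0 < c.card)
  obtain ⟨j, hj⟩ := Finset.card_pos.1 (by rw [Finset.card_compl, card_golayPt, h8]; norm_num : 0 < cᶜ.card)
  rw [Finset.mem_compl] at hj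
  rcases mem_center_iff_eq.1 h with e | e
  · have := congrArg (fun g : Co0 => ((g • eight i : leechLattice) : GolayPt → ℤ) i) e
    simp [sgnAut_smul, hi, eight] at this
  · have := congrArg (fun g : Co0 => ((g • eight j : leechLattice) : GolayPt → ℤ) j) e
    simp [sgnAut_smul, hj, negAut_smul, eight] at this

/-- A code word whose conjugate sign change permutes the cross. -/
def hitMask : ℕ := 10558

theorem hit_facts : codeTest hitMask = true ∧ pop 24 hitMask = 8 ∧
    (xiVec (signedPerm 1 (pts hitMask) (xiVec (Pi.single (idxPt 1) 8))) = Pi.single (idxPt 2) 8 ∨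
      xiVec (signedPerm 1 (pts hitMask) (xiVec (Pi.single (idxPt 1) 8))) = -Pi.single (idxPt 2) 8) := by
  decide +kernel

theorem xiAut_inv : xiAut⁻¹ = xiAut :=
  inv_eq_of_mul_eq_one_right (co0_eq fun v i => by
    rw [mul_smul, xiAut_smul, xiAut_smul, xiVec_xiVec v.2, one_smul])

/-- The normal closure of the sign changes is everything. -/
theorem normalClosure_signSub : Subgroup.normalClosure (signSub : Set Co0) = ⊤ := by
  set N := Subgroup.normalClosure (signSub : Set Co0)
  have hE : signSub ≤ N := Subgroup.subset_normalClosure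
  obtain ⟨hc, h8, him⟩ := hit_facts
  have hnc : ¬ N ≤ Subgroup.center Co0 := fun h =>
    sgn_not_central (pts_supports hc) ((card_pts _).trans h8) (h (hE ⟨_, _, rfl⟩))
  let g := xiAut * sgnAut (pts_supports hc) * xiAut
  have hgN : g ∈ N := by
    have := (Subgroup.normalClosure_normal (s := (signSub : Set Co0))).conj_mem _ (hE ⟨_, pts_supports hc, rfl⟩) xiAut
    rwa [xiAut_inv] at this
  have hgv : ((g • eight (idxPt 1) : leechLattice) : GolayPt → ℤ) =
      xiVec (signedPerm 1 (pts hitMask) (xiVec (Pi.single (idxPt 1) 8))) := by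
    rw [mul_smul, mul_smul, xiAut_smul]; rfl
  have hgc : g • eight (idxPt 1) = eight (idxPt 2) ∨ g • eight (idxPt 1) = -eight (idxPt 2) := by
    rcases him with h | h
    · exact Or.inl (Subtype.ext (hgv.trans h))
    · exact Or.inr (Subtype.ext (hgv.trans h))
  obtain ⟨σ, hσ, c, hcc, e⟩ := exists_monoAut (mem_crossStab_of_congr hgc)
  have hpN : prmAut hσ ∈ N := by
    rw [show prmAut hσ = (sgnAut hcc)⁻¹ * g by rw [e, monoAut_eq, inv_mul_cancel_left]]
    exact N.mul_mem (N.inv_mem (hE ⟨_, _, rfl⟩)) hgN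
  have hσ1 : σ ≠ 1 := by
    rintro rfl
    have hv := congrArg Subtype.val (congrArg (fun k : Co0 => k • eight (idxPt 1)) e)
    rw [monoAut_smul, show (eight (idxPt 1) : GolayPt → ℤ) = Pi.single (idxPt 1) 8 from rfl, signedPerm_eight] at hv
    have h12 : idxPt 1 ≠ idxPt 2 := by decide +kernel
    rcases hgc with h | h <;> rw [h] at hv <;> have := congrFun hv (idxPt 2) <;>
      simp [eight, h12.symm] at this
  let S : Subgroup M24 :=
    { carrier := {τ | prmAut τ.2 ∈ N}
      one_mem' := by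
        show prmAut (1 : M24).2 ∈ N
        rw [show prmAut (1 : M24).2 = 1 from prmAut_one]; exact N.one_mem
      mul_mem' := fun {a b} ha hb => by
        show prmAut (a * b).2 ∈ N
        rw [show prmAut (a * b).2 = prmAut a.2 * prmAut b.2 from (prmAut_mul a.2 b.2).symm]
        exact N.mul_mem ha hb
      inv_mem' := fun {a} ha => by
        show prmAut (a⁻¹).2 ∈ N
        rw [show prmAut (a⁻¹).2 = (prmAut a.2)⁻¹ from (prmAut_inv a.2).symm]
        exact N.inv_mem ha }
  have hS : S.Normal := ⟨fun a ha b => by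
    show prmAut (b * a * b⁻¹).2 ∈ N
    rw [show prmAut (b * a * b⁻¹).2 = prmAut b.2 * prmAut a.2 * (prmAut b.2)⁻¹ from by
      rw [prmAut_inv, prmAut_mul, prmAut_mul]]
    exact (Subgroup.normalClosure_normal (s := (signSub : Set Co0))).conj_mem _ ha _⟩
  have hST : S = ⊤ := (isSimpleGroup_M24.eq_bot_or_eq_top_of_normal S hS).resolve_left fun h => by
    have : (⟨σ, hσ⟩ : M24) ∈ S := hpN
    rw [h, Subgroup.mem_bot] at this
    exact hσ1 (congrArg Subtype.val this)
  have hH : crossStab ≤ N := by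
    intro h hh
    obtain ⟨τ, hτ, d, hd, rfl⟩ := exists_monoAut hh
    rw [monoAut_eq]
    exact N.mul_mem (hE ⟨_, _, rfl⟩) (show (⟨τ, hτ⟩ : M24) ∈ S from hST ▸ Subgroup.mem_top _)
  have := normal_sup_cross Subgroup.normalClosure_normal hnc
  rwa [sup_eq_left.2 hH] at this

theorem rows_split : rows.all (fun r => codeList.any fun o =>
    pop 24 o == 8 && pop 24 (o ^^^ r) == 8) = true := by decide +kernel

theorem signSub_le_commutator : signSub ≤ commutator Co0 := by
  rintro _ ⟨c, hc, rfl⟩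
  have key : ∀ l : List ℕ, (∀ r ∈ l, r ∈ rows) → ∀ m ∈ spanList l,
      ∀ h : pts m ∈ supports (golayCode : Set (GolayPt → ZMod 2)), sgnAut h ∈ commutator Co0 := by
    intro l
    induction l with
    | nil =>
      intro _ m hm h
      simp only [spanList, List.mem_singleton] at hm
      subst hm
      rw [sgnAut_congr (hd := Spor.empty_mem_supports_golayCode) pts_zero_eq, sgnAut_empty]
      exact one_mem' _
    | cons r l ih =>
      intro hl m hm h
      have ih' := ih fun r' hr' => hl r' (List.mem_cons_of_mem r hr')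
      simp only [spanList, List.mem_append, List.mem_map] at hm
      rcases hm with hm | ⟨a, ha, rfl⟩
      · exact ih' m hm h
      · have hr := hl r List.mem_cons_self
        have hrs : pts r ∈ supports (golayCode : Set (GolayPt → ZMod 2)) := ⟨word r, word_row_mem hr, support₂_word r⟩
        have ha' : pts a ∈ supports (golayCode : Set (GolayPt → ZMod 2)) := by
          have := supports_symmDiff hrs h
          rwa [pts_xor_eq, symmDiff_symmDiff_cancel_left] at this
        rw [sgnAut_congr (hd := supports_symmDiff hrs ha') (pts_xor_eq r a), ← sgnAut_mul hrs ha']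
        refine (commutator Co0).mul_mem ?_ (ih' a ha ha')
        obtain ⟨o, ho, ho'⟩ := List.any_eq_true.1 (List.all_eq_true.1 rows_split r hr)
        simp only [Bool.and_eq_true, beq_iff_eq] at ho'
        have o1 : pts o ∈ octads := ⟨pts_mem_supports ho, (card_pts o).trans ho'.1⟩
        have o2 : pts (o ^^^ r) ∈ octads :=
          ⟨by rw [pts_xor_eq]; exact supports_symmDiff o1.1 hrs, (card_pts _).trans ho'.2⟩
        obtain ⟨τ, hτ⟩ := exists_smul_octad o1 o2
        have hτ' : (τ : Equiv.Perm GolayPt) • pts o = pts (o ^^^ r) := hτ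
        have e : pts r = symmDiff ((τ : Equiv.Perm GolayPt) • pts o) (pts o) := by
          rw [hτ', pts_xor_eq, symmDiff_comm (pts o) (pts r), symmDiff_symmDiff_cancel_right]
        rw [sgnAut_congr (hd := supports_symmDiff (smul_mem_supports τ.2 o1.1) o1.1) e, ← sgnAut_mul (smul_mem_supports τ.2 o1.1) o1.1, ← prmAut_conj τ.2 o1.1,
          show sgnAut o1.1 = (sgnAut o1.1)⁻¹ from (inv_eq_of_mul_eq_one_right (sgnAut_sq o1.1)).symm,
          show prmAut τ.2 * (sgnAut o1.1)⁻¹ * (prmAut τ.2)⁻¹ * (sgnAut o1.1)⁻¹ =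
            ⁅prmAut τ.2, (sgnAut o1.1)⁻¹⁆ * ((sgnAut o1.1)⁻¹ * (sgnAut o1.1)⁻¹) by
            rw [commutatorElement_def]; group,
          show (sgnAut o1.1)⁻¹ * (sgnAut o1.1)⁻¹ = 1 by rw [← mul_inv_rev, sgnAut_sq, inv_one], mul_one]
        exact Subgroup.commutator_mem_commutator (Subgroup.mem_top _) (Subgroup.mem_top _)
  have h' : pts (maskPts c) ∈ supports (golayCode : Set (GolayPt → ZMod 2)) := by rw [pts_maskPts]; exact hc
  rw [sgnAut_congr (hd := h') (pts_maskPts c).symm]
  exact key rows (fun _ h => h) _ ((mem_supports_iff c).1 hc) h'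
where
  one_mem' (K : Subgroup Co0) : (1 : Co0) ∈ K := K.one_mem

theorem commutator_eq_top : commutator Co0 = ⊤ :=
  top_le_iff.1 (normalClosure_signSub ▸ Subgroup.normalClosure_le_normal signSub_le_commutator)

/-- A noncentral normal subgroup is everything. -/
theorem normal_eq_top {N : Subgroup Co0} (hN : N.Normal) (h : ¬ N ≤ Subgroup.center Co0) : N = ⊤ := by
  refine top_le_iff.1 ?_
  rw [← commutator_eq_top, commutator_def, Subgroup.commutator_le]
  have hsup := normal_sup_cross hN h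
  let P := N ⊔ signSub
  have hP : P.Normal := by
    refine ⟨fun x hx g => ?_⟩
    have hx' : x ∈ ((N : Set Co0) * (signSub : Set Co0)) := by rw [← Subgroup.normal_mul]; exact hx
    obtain ⟨n, hn, e, he, rfl⟩ := hx'
    have hg : g ∈ ((N : Set Co0) * (crossStab : Set Co0)) := by rw [← Subgroup.normal_mul, hsup]; trivial
    obtain ⟨m, hm, k, hk, rfl⟩ := hg
    show m * k * (n * e) * (m * k)⁻¹ ∈ P
    rw [show m * k * (n * e) * (m * k)⁻¹ = m * (k * n * k⁻¹) * (k * e * k⁻¹) * m⁻¹ by group]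
    have hmP : m ∈ P := Subgroup.mem_sup_left hm
    exact P.mul_mem (P.mul_mem (P.mul_mem hmP (Subgroup.mem_sup_left (hN.conj_mem n hn k)))
      (Subgroup.mem_sup_right (signSub_conj hk he))) (P.inv_mem hmP)
  have hPT : P = ⊤ :=
    top_le_iff.1 (normalClosure_signSub ▸ Subgroup.normalClosure_le_normal (le_sup_right : signSub ≤ P))
  intro a _ b _
  rw [← QuotientGroup.eq_one_iff, ← QuotientGroup.mk'_apply, map_commutatorElement, commutatorElement_eq_one_iff_mul_comm]
  have key : ∀ x : Co0, ∃ e ∈ signSub, QuotientGroup.mk' N x = QuotientGroup.mk' N e := by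
    intro x
    have hx : x ∈ ((N : Set Co0) * (signSub : Set Co0)) := by rw [← Subgroup.normal_mul, show N ⊔ signSub = ⊤ from hPT]; trivial
    obtain ⟨n, hn, e, he, rfl⟩ := hx
    exact ⟨e, he, by rw [map_mul, show QuotientGroup.mk' N n = 1 from (QuotientGroup.eq_one_iff n).2 hn, one_mul]⟩
  obtain ⟨e, ⟨c, hc, rfl⟩, he⟩ := key a
  obtain ⟨f, ⟨d, hd, rfl⟩, hf⟩ := key b
  rw [he, hf, ← map_mul, ← map_mul, sgnAut_comm]

theorem isCo1_quotient : IsCo1 (Co0 ⧸ Subgroup.center Co0) := by
  have hcard : Nat.card (Co0 ⧸ Subgroup.center Co0) = 4157776806543360000 := by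
    have := Subgroup.card_eq_card_quotient_mul_card_subgroup (Subgroup.center Co0)
    rw [card_co0, card_center] at this
    omega
  refine ⟨?_, hcard⟩
  have : Nontrivial (Co0 ⧸ Subgroup.center Co0) := by
    rw [← Finite.one_lt_card_iff_nontrivial, hcard]
    all_goals norm_num
  refine { eq_bot_or_eq_top_of_normal := fun M hM => ?_ }
  have hsurj := QuotientGroup.mk'_surjective (Subgroup.center Co0)
  by_cases h : M.comap (QuotientGroup.mk' (Subgroup.center Co0)) ≤ Subgroup.center Co0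
  · left
    rw [eq_bot_iff]
    intro x hx
    obtain ⟨g, rfl⟩ := hsurj x
    exact Subgroup.mem_bot.2 ((QuotientGroup.eq_one_iff g).2 (h hx))
  · right
    have := normal_eq_top (hM.comap _) h
    rw [← Subgroup.map_comap_eq_self_of_surjective hsurj M, this, Subgroup.map_top_of_surjective _ hsurj]

end CfsgLib.Spor.Leech
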