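/-
Vector stabilizers with a point stabilizer of the code's group inside are simple.
-/
import Cfsg.Agent.Lib.Spor.Leech.Census
import Cfsg.Agent.Lib.Spor.Leech.Co1Simple
import Cfsg.Agent.Lib.Spor.StabCriterion

namespace CfsgLib.Spor.Leech

open Cfsg MulAction
open scoped Pointwise

/-- Coordinate permutations as a homomorphism. -/
def prmHom : M24 →* Co0 where
  toFun σ := prmAut σ.2
  map_one' := prmAut_one
  map_mul' a b := (prmAut_mul a.2 b.2).symm

theorem prmHom_injective : Function.Injective prmHom := fun a b h => Subtype.ext (monoAut_inj (hσ := a.2) (hτ := b.2)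
  (hc := Spor.empty_mem_supports_golayCode) (hd := Spor.empty_mem_supports_golayCode) h).1

theorem prmHom_eight (σ : M24) (i : GolayPt) : prmHom σ • eight i = eight (σ • i) := Subtype.ext (by
  show signedPerm (σ : Equiv.Perm GolayPt) ∅ (Pi.single i 8) = Pi.single (σ • i) 8
  rw [signedPerm_eight, if_neg (Finset.notMem_empty _)]; rfl)

/-- The simplicity criterion inside the lattice's group. -/
theorem stab_simple {p : ℕ} [Fact p.Prime] (G : Subgroup Co0) (S : Subgroup M24) (hS : IsSimpleGroup S) (σ : M24)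
    (hσS : σ ∈ S) (hσp : σ ^ p = 1) (hσ1 : σ ≠ 1) (hSG : S.map prmHom ≤ G) (hSe : ∀ τ ∈ S, τ • (none : GolayPt) = none)
    (hK : ∀ g ∈ G, g • eight none = eight none → g ∈ S.map prmHom)
    (hfix : ∀ g ∈ G, prmHom σ • (g • eight none) = g • eight none → g • eight none = eight none)
    (hsyl : ¬ p * p ∣ Nat.card G)
    (hrest : ∀ N : Subgroup G, N.Normal → Nat.card N * Nat.card S ∣ Nat.card G →
      (∀ q : ℕ, q.Prime → q ^ (Nat.card N).factorization q % p = 1) → N = ⊥) : IsSimpleGroup G := by
  haveI := hS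
  let e : S ≃* (S.map prmHom).subgroupOf G :=
    (Subgroup.equivMapOfInjective S prmHom prmHom_injective).trans (Subgroup.subgroupOfEquivOfLe hSG).symm
  have hKs : IsSimpleGroup ((S.map prmHom).subgroupOf G) := e.symm.isSimpleGroup
  let x : G := ⟨prmHom σ, hSG (Subgroup.mem_map_of_mem _ hσS)⟩
  have hx1 : x ≠ 1 := fun h => hσ1 (prmHom_injective ((congrArg Subtype.val h).trans (map_one prmHom).symm))
  have hxp : x ^ p = 1 := Subtype.ext (by
    show prmHom σ ^ p = 1
    rw [← map_pow, hσp, map_one])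
  refine isSimpleGroup_of_sylow_normalizer (p := p) (P := Subgroup.zpowers x) hKs
    (Subgroup.zpowers_le.2 (Subgroup.mem_map_of_mem _ hσS)) ?_ hsyl ?_ fun N hN _ hdvd hq => ?_
  · rw [Nat.card_zpowers]; exact orderOf_eq_prime hxp hx1
  · intro g hg
    refine hK g g.2 (hfix g g.2 ?_)
    have hmem : g⁻¹ * x * g ∈ Subgroup.zpowers x := by
      have h := Subgroup.mem_normalizer_iff.1 ((Subgroup.normalizer (Subgroup.zpowers x : Set G)).inv_mem hg) x
      simpa using h.1 (Subgroup.mem_zpowers x)
    have hfixed : ∀ y ∈ Subgroup.zpowers x, (y : Co0) • eight none = eight none := by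
      intro y hy
      obtain ⟨τ, hτ, hτy⟩ := (Subgroup.zpowers_le (g := x) (H := (S.map prmHom).subgroupOf G)).2
        (Subgroup.mem_map_of_mem _ hσS) hy
      rw [show (y : Co0) = prmHom τ from hτy.symm, prmHom_eight, hSe τ hτ]
    have hy' := hfixed _ hmem
    rw [Subgroup.coe_mul, Subgroup.coe_mul, Subgroup.coe_inv, mul_smul, mul_smul, inv_smul_eq_iff] at hy'
    exact hy'
  · rw [← Nat.card_congr e.toEquiv] at hdvd
    exact hrest N hN hdvd hq

theorem monoAut_none_fixed {σ : Equiv.Perm GolayPt} {hσ : σ ∈ M24} {c : Finset GolayPt}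
    {hc : c ∈ supports (golayCode : Set (GolayPt → ZMod 2))} (h : monoAut hσ hc • eight none = eight none) :
    σ none = none ∧ none ∉ c := by
  have h' := congrArg Subtype.val h
  rw [monoAut_smul, show (eight none : GolayPt → ℤ) = Pi.single none 8 from rfl, signedPerm_eight] at h'
  have h'' := congrFun h' (σ none)
  rw [Pi.single_eq_same] at h''
  have hp : σ none = none := by
    by_contra hne
    rw [Pi.single_eq_of_ne hne] at h''
    split_ifs at h'' <;> omega
  refine ⟨hp, fun hin => ?_⟩
  rw [hp, if_pos hin, Pi.single_eq_same] at h''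
  omega

theorem signs_trivial {σ : Equiv.Perm GolayPt} {c : Finset GolayPt} {v : GolayPt → ℤ}
    (h : signedPerm σ c v = v) {i : GolayPt} (hi : v (σ.symm i) = v i) (h0 : v i ≠ 0) : i ∉ c := by
  intro hc
  have := congrFun h i
  rw [signedPerm, if_pos hc, hi] at this
  omega

/-- The shift as an element of the code's group. -/
def shiftEl : M24 := ⟨Equiv.optionCongr (Equiv.addRight (1 : ZMod 23)), shift_mem⟩

theorem shiftEl_facts : shiftEl • (none : GolayPt) = none ∧ shiftEl ^ 23 = 1 ∧ shiftEl ≠ 1 := by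
  refine ⟨rfl, Subtype.ext (Equiv.ext fun p => ?_), fun h => ?_⟩
  · show (((Equiv.optionCongr (Equiv.addRight (1 : ZMod 23))) ^ 23 : Equiv.Perm GolayPt)) p = p
    revert p; decide +kernel
  · have := congrFun (congrArg (fun g : M24 => ⇑(g : Equiv.Perm GolayPt)) h) (some 0)
    simp [shiftEl] at this
    exact absurd this (by decide)

theorem shift_fixed {z : leechLattice} (h : prmHom shiftEl • z = z) :
    ∀ t : ZMod 23, (z : GolayPt → ℤ) (some t) = (z : GolayPt → ℤ) (some 0) := by
  have step : ∀ t : ZMod 23, (z : GolayPt → ℤ) (some (t + 1)) = (z : GolayPt → ℤ) (some t) := fun t => by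
    have h1 := congrFun (congrArg Subtype.val h) (some (t + 1))
    rw [show ((prmHom shiftEl • z : leechLattice) : GolayPt → ℤ) (some (t + 1)) =
      (z : GolayPt → ℤ) ((shiftEl : Equiv.Perm GolayPt).symm (some (t + 1))) from prmAut_smul shiftEl.2 z _] at h1
    rw [← h1]
    exact congrArg _ ((Equiv.symm_apply_eq _).2 rfl)
  have key : ∀ n : ℕ, (z : GolayPt → ℤ) (some (n : ZMod 23)) = (z : GolayPt → ℤ) (some 0) := by
    intro n
    induction n with
    | zero => simp
    | succ n ih => rw [Nat.cast_succ, step, ih]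
  intro t
  rw [← ZMod.natCast_zmod_val t]
  exact key _

theorem eq_eight_none {z : leechLattice} (h : (z : GolayPt → ℤ) none = 8)
    (h' : ∀ t : ZMod 23, (z : GolayPt → ℤ) (some t) = 0) : z = eight none := by
  refine Subtype.ext (funext fun p => ?_)
  rcases p with _ | t
  · simpa [eight] using h
  · simpa [eight] using h' t

theorem shift_invariant {z : leechLattice} (h : prmHom shiftEl • z = z) (hn : sqNorm (z : GolayPt → ℤ) = 64)
    {a : ℤ} (hd : a * (z : GolayPt → ℤ) none + 23 * (z : GolayPt → ℤ) (some 0) = 8 * a) (ha : a = 5 ∨ a = -3) :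
    z = eight none := by
  have hc := shift_fixed h
  rw [sqNorm, Fintype.sum_option, Finset.sum_congr rfl fun t _ => by rw [hc t], Finset.sum_const,
    Finset.card_univ, ZMod.card, nsmul_eq_mul] at hn
  set u := (z : GolayPt → ℤ) none
  set b := (z : GolayPt → ℤ) (some 0)
  push_cast at hn
  have hb : b = 0 := by
    have hbu : -1 ≤ b ∧ b ≤ 1 := ⟨by nlinarith [sq_nonneg u], by nlinarith [sq_nonneg u]⟩
    rcases ha with rfl | rfl <;> omega
  exact eq_eight_none (by rcases ha with rfl | rfl <;> omega) fun t => (hc t).trans hb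

theorem point_stab_mem {v : leechLattice} (hv : ∀ p, (v : GolayPt → ℤ) p ≠ 0)
    (hc : ∀ t : ZMod 23, (v : GolayPt → ℤ) (some t) = (v : GolayPt → ℤ) (some 0)) :
    (stabilizer M24 (none : GolayPt)).map prmHom ≤ stabilizer Co0 v ∧
      ∀ g ∈ stabilizer Co0 v, g • eight none = eight none → g ∈ (stabilizer M24 (none : GolayPt)).map prmHom := by
  have hperm : ∀ τ : Equiv.Perm GolayPt, τ none = none → ∀ i,
      (v : GolayPt → ℤ) (τ.symm i) = (v : GolayPt → ℤ) i := by
    intro τ hτ i
    rcases i with _ | t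
    · rw [τ.symm_apply_eq.2 hτ.symm]
    · rcases hs : τ.symm (some t) with _ | t'
      · rw [τ.symm_apply_eq, hτ] at hs; simp at hs
      · rw [hc t', hc t]
  constructor
  · rintro _ ⟨τ, hτ, rfl⟩
    refine mem_stabilizer_iff.2 (Subtype.ext (funext fun i => ?_))
    rw [show ((prmHom τ • v : leechLattice) : GolayPt → ℤ) i =
      (v : GolayPt → ℤ) ((τ : Equiv.Perm GolayPt).symm i) from prmAut_smul τ.2 v i]
    exact hperm _ hτ i
  · intro g hg h8
    obtain ⟨σ, hσ, c, hc', rfl⟩ := exists_monoAut (mem_crossStab_of_congr (Or.inl h8))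
    obtain ⟨h1, -⟩ := monoAut_none_fixed h8
    have hsv : signedPerm σ c (v : GolayPt → ℤ) = v := congrArg Subtype.val hg
    obtain rfl : c = ∅ := Finset.eq_empty_of_forall_notMem fun i => signs_trivial hsv (hperm σ h1 i) (hv i)
    exact ⟨⟨σ, hσ⟩, h1, rfl⟩

theorem card_point_stab : Nat.card (stabilizer M24 (none : GolayPt)) = 10200960 := by
  have h := card_stab_mul_orbit (γ := GolayPt) none
  have e : orbit M24 (none : GolayPt) = Set.univ := Set.eq_univ_of_forall fun p => by
    obtain ⟨a, ha⟩ := mem_orbit_point p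
    obtain ⟨b, hb⟩ := mem_orbit_point (none : GolayPt)
    exact ⟨a * b⁻¹, show (a * b⁻¹) • (none : GolayPt) = p by rw [mul_smul, inv_smul_eq_iff.2 hb.symm]; exact ha⟩
  rw [e, Set.ncard_univ, Nat.card_eq_fintype_card, card_golayPt] at h
  omega

theorem prime_cases {q k m : ℕ} (hq : q.Prime) (hd : q ^ k ∣ m) (h0 : k ≠ 0) {a b c : ℕ}
    (hm : m = 2 ^ a * 3 ^ b * 5 ^ c) : q = 2 ∨ q = 3 ∨ q = 5 := by
  have h : q ∣ 2 ^ a * 3 ^ b * 5 ^ c := hm ▸ (dvd_pow_self q h0).trans hd
  rcases hq.dvd_mul.1 h with h | h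
  · rcases hq.dvd_mul.1 h with h | h
    · exact Or.inl ((Nat.prime_dvd_prime_iff_eq hq Nat.prime_two).1 (hq.dvd_of_dvd_pow h))
    · exact Or.inr (Or.inl ((Nat.prime_dvd_prime_iff_eq hq Nat.prime_three).1 (hq.dvd_of_dvd_pow h)))
  · exact Or.inr (Or.inr ((Nat.prime_dvd_prime_iff_eq hq Nat.prime_five).1 (hq.dvd_of_dvd_pow h)))

theorem exp_le {q k m e : ℕ} (hd : q ^ k ∣ m) (h : ¬ q ^ (e + 1) ∣ m) : k ≤ e := by
  by_contra hc
  exact h ((pow_dvd_pow q (by omega)).trans hd)

theorem eq_one_of_parts {n m p : ℕ} (hn : n ≠ 0) (hdvd : n ∣ m)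
    (bad : ∀ q k, q.Prime → q ^ k ∣ m → q ^ k % p = 1 → k = 0)
    (h : ∀ q : ℕ, q.Prime → q ^ n.factorization q % p = 1) : n = 1 := by
  by_contra h1
  obtain ⟨q, hq, hqn⟩ := Nat.exists_prime_and_dvd h1
  have := bad q _ hq ((Nat.ordProj_dvd n q).trans hdvd) (h q hq)
  exact absurd this (Nat.pos_iff_ne_zero.1 (hq.factorization_pos_of_dvd hn hqn))

/-- The base vector of norm 48. -/
def u3 : leechLattice := ⟨fun p => if p = none then 5 else 1, leechTest_spec (by decide +kernel)⟩

theorem sqNorm_u3 : sqNorm (u3 : GolayPt → ℤ) = 48 := by decide +kernel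

theorem card_stab48 {v : leechLattice} (hv : sqNorm (v : GolayPt → ℤ) = 48) :
    Nat.card (stabilizer Co0 v) = 495766656000 := by
  have h := card_stab_norm (Or.inr (Or.inl rfl)) hv
  rw [ncard_normSet, ncard48] at h
  exact Nat.eq_of_mul_eq_mul_left (by norm_num : 0 < 16773120) (h.trans (by norm_num))

theorem card_stab32 {v : leechLattice} (hv : sqNorm (v : GolayPt → ℤ) = 32) :
    Nat.card (stabilizer Co0 v) = 42305421312000 := by
  have h := card_stab_norm (Or.inl rfl) hv
  rw [ncard_normSet, ncard32] at h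
  exact Nat.eq_of_mul_eq_mul_left (by norm_num : 0 < 196560) (h.trans (by norm_num))

theorem simple_co3_base : IsSimpleGroup (stabilizer Co0 u3) := by
  have hne : ∀ p, (u3 : GolayPt → ℤ) p ≠ 0 := by decide +kernel
  have hcst : ∀ t : ZMod 23, (u3 : GolayPt → ℤ) (some t) = (u3 : GolayPt → ℤ) (some 0) := by decide +kernel
  haveI : Fact (Nat.Prime 23) := ⟨by norm_num⟩
  obtain ⟨hSG, hK⟩ := point_stab_mem hne hcst
  obtain ⟨f1, f2, f3⟩ := shiftEl_facts
  refine stab_simple _ _ (isSimpleGroup_stabilizer_point none) shiftEl f1 f2 f3 hSG (fun τ hτ => hτ) hK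
    (fun g hg hx => ?_) ?_ fun N _ hdvd hq => ?_
  · refine shift_invariant hx ((co0_norm g _).trans (sqNorm_eight none)) (a := 5) ?_ (Or.inl rfl)
    have hd : dotInt (u3 : GolayPt → ℤ) (g • eight none : leechLattice) = 40 := by
      conv_lhs => rw [← mem_stabilizer_iff.1 hg, co0_dot]
      decide +kernel
    rw [dotInt, Fintype.sum_option, Finset.sum_congr rfl fun t _ => by rw [shift_fixed hx t, hcst t],
      Finset.sum_const, Finset.card_univ, ZMod.card, nsmul_eq_mul] at hd
    simp [u3] at hd
    omega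
  · rw [card_stab48 sqNorm_u3]; norm_num
  · rw [card_stab48 sqNorm_u3, card_point_stab] at hdvd
    refine Subgroup.eq_bot_of_card_eq _ (eq_one_of_parts Nat.card_pos.ne' (m := 48600)
      (Nat.dvd_of_mul_dvd_mul_right (by norm_num : 0 < 10200960) hdvd) (fun q k hq' hd hmod => ?_) hq)
    by_contra h0
    rcases prime_cases hq' hd h0 (a := 3) (b := 5) (c := 2) rfl with rfl | rfl | rfl
    · have := exp_le (e := 3) hd (by norm_num); interval_cases k <;> simp_all
    · have := exp_le (e := 5) hd (by norm_num); interval_cases k <;> simp_all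
    · have := exp_le (e := 2) hd (by norm_num); interval_cases k <;> simp_all

/-- A conjugate stabilizer. -/
def stabEquiv {g : Co0} {v w : leechLattice} (h : g • v = w) : stabilizer Co0 v ≃* stabilizer Co0 w where
  toFun x := ⟨g * x * g⁻¹, by
    rw [mem_stabilizer_iff, mul_smul, mul_smul, inv_smul_eq_iff.2 h.symm, mem_stabilizer_iff.1 x.2, h]⟩
  invFun y := ⟨g⁻¹ * y * g, by
    rw [mem_stabilizer_iff, mul_smul, mul_smul, h, mem_stabilizer_iff.1 y.2, inv_smul_eq_iff, h]⟩
  left_inv x := Subtype.ext (by show g⁻¹ * (g * x * g⁻¹) * g = x; group)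
  right_inv y := Subtype.ext (by show g * (g⁻¹ * y * g) * g⁻¹ = y; group)
  map_mul' x y := Subtype.ext (by show g * (x * y) * g⁻¹ = g * x * g⁻¹ * (g * y * g⁻¹); group)

theorem isCo3_stabilizer {v : leechLattice} (hv : sqNorm (v : GolayPt → ℤ) = 48) : IsCo3 (stabilizer Co0 v) := by
  obtain ⟨g, hg⟩ := transitive_norm (x := v) (y := u3) (Or.inr (Or.inl hv)) (sqNorm_u3.trans hv.symm)
  haveI := simple_co3_base
  exact ⟨(stabEquiv hg).isSimpleGroup, card_stab48 hv⟩

/-! ### Minimal vectors -/

/-- The base minimal vector. -/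
def o2 : leechLattice := ⟨oddVec, oddVec_mem⟩

theorem sqNorm_o2 : sqNorm (o2 : GolayPt → ℤ) = 32 := by decide +kernel

theorem fix_orth_pairs {n : Co0} (h : n • vP = vP)
    (hw : ∀ w : leechLattice, sqNorm (w : GolayPt → ℤ) = 32 → dotInt (vP : GolayPt → ℤ) w = 0 →
      n • w = w ∨ n • w = -w) : n = 1 := by
  obtain ⟨n1, -, -⟩ := marked_ne
  have hcr : n ∈ crossStab := by
    rcases hw oP sqNorm_marked.2.1 sqNorm_marked.2.2.2.2.1 with ho | ho
    · refine mem_crossStab_of_congr (i := pP) (j := pP) (Or.inl ?_)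
      rw [show eight pP = vP + oP by decide +kernel, co0_add, h, ho]
    · refine mem_crossStab_of_congr (i := pP) (j := pQ) (Or.inl ?_)
      rw [show eight pP = vP + oP by decide +kernel, co0_add, h, ho, ← sub_eq_add_neg]
      decide +kernel
  obtain ⟨σ, hσ, c, hc, rfl⟩ := exists_monoAut hcr
  have pair : ∀ a b, a ≠ b → a ≠ pP → a ≠ pQ → b ≠ pP → b ≠ pQ →
      ((σ a = a ∧ σ b = b) ∨ (σ a = b ∧ σ b = a)) ∧ (a ∈ c ↔ b ∈ c) := by
    intro a b hab haP haQ hbP hbQ
    have hd : dotInt (vP : GolayPt → ℤ) (⟨_, fourVec_mem a b⟩ : leechLattice) = 0 := by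
      show dotInt (Pi.single pP 4 + Pi.single pQ 4) (fourVec a b) = 0
      rw [dot_single_pair]
      simp [fourVec, haP.symm, haQ.symm, hbP.symm, hbQ.symm]
    obtain ⟨s, hs, e⟩ : ∃ s : ℤ, (s = 4 ∨ s = -4) ∧
        signedPerm σ c (Pi.single a (4 : ℤ) + Pi.single b (4 : ℤ)) = Pi.single a s + Pi.single b s := by
      rcases hw _ (sqNorm_single_pair hab (Or.inl rfl) (Or.inl rfl)) hd with h' | h'
      · exact ⟨4, Or.inl rfl, congrArg Subtype.val h'⟩
      · refine ⟨-4, Or.inr rfl, (congrArg Subtype.val h').trans ?_⟩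
        show -(Pi.single a (4 : ℤ) + Pi.single b (4 : ℤ) : GolayPt → ℤ) = _
        rw [neg_add, ← Pi.single_neg, ← Pi.single_neg]
    rw [signedPerm_add, signedPerm_eight, signedPerm_eight] at e
    have ea := congrFun e a
    have eb := congrFun e b
    have es := congrFun e (σ a)
    have et := congrFun e (σ b)
    have hne : σ a ≠ σ b := σ.injective.ne hab
    simp only [Pi.add_apply, Pi.single_eq_same, Pi.single_apply, hab, hab.symm, hne, hne.symm, if_false, add_zero,
      zero_add] at ea eb es et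
    by_cases h1 : σ a = a
    · by_cases h2 : σ b = b
      · refine ⟨Or.inl ⟨h1, h2⟩, ?_⟩
        simp only [h1, h2, hab, hab.symm, if_true, if_false, add_zero, zero_add] at ea eb
        split_ifs at ea eb <;> first | omega | tauto
      · exfalso
        have : σ b ≠ a := h1 ▸ hne.symm
        simp only [h2, this, if_false, add_zero] at et
        split_ifs at et <;> omega
    · by_cases h2 : σ a = b
      · by_cases h3 : σ b = a
        · refine ⟨Or.inr ⟨h2, h3⟩, ?_⟩
          simp only [h2, h3, hab, hab.symm, if_true, if_false, add_zero, zero_add] at ea eb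
          split_ifs at ea eb <;> first | omega | tauto
        · exfalso
          have : σ b ≠ b := h2 ▸ hne.symm
          simp only [h3, this, if_false, add_zero] at et
          split_ifs at et <;> omega
      · exfalso
        simp only [h1, h2, if_false, add_zero] at es
        split_ifs at es <;> omega
  have hthree : ∀ a : GolayPt, a ≠ pP → a ≠ pQ → ∃ b b', b ≠ b' ∧ a ≠ b ∧ b ≠ pP ∧ b ≠ pQ ∧ a ≠ b' ∧ b' ≠ pP ∧ b' ≠ pQ := by
    decide +kernel
  have hσfix : ∀ a, a ≠ pP → a ≠ pQ → σ a = a := by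
    intro a haP haQ
    obtain ⟨b, b', hbb, hab, hbP, hbQ, hab', hbP', hbQ'⟩ := hthree a haP haQ
    rcases (pair a b hab haP haQ hbP hbQ).1 with h1 | h1
    · exact h1.1
    · rcases (pair a b' hab' haP haQ hbP' hbQ').1 with h2 | h2
      · exact h2.1
      · exact absurd (h1.1.symm.trans h2.1) hbb
  have hσ1 : σ = 1 := by
    have hP : σ pP = pP := by
      by_contra hne
      have hPQ : σ pP = pQ := by
        by_contra hne'
        exact hne (σ.injective (hσfix _ hne hne'))
      obtain ⟨r, hr, hb⟩ := List.any_eq_true.1 (separates pP pQ n1)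
      have hrs : pts r ∈ supports (golayCode : Set (GolayPt → ZMod 2)) := ⟨word r, word_row_mem hr, support₂_word r⟩
      obtain ⟨u, hu, hue⟩ := supports_symmDiff hrs (smul_mem_supports hσ hrs)
      have hcard := code_card hu
      rw [hue] at hcard
      have hQP : σ pQ = pP := by
        by_contra hne'
        rcases eq_or_ne (σ pQ) pQ with h' | h'
        · exact n1 (σ.injective (hPQ.trans h'.symm))
        · exact h' (σ.injective (hσfix _ hne' h'))
      have hsub : symmDiff (pts r) (σ • pts r) ⊆ {pP, pQ} := by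
        intro i hi
        by_contra hn
        simp only [Finset.mem_insert, Finset.mem_singleton, not_or] at hn
        rw [Finset.mem_symmDiff, ← Finset.inv_smul_mem_iff (a := σ), Equiv.Perm.smul_def, Equiv.Perm.inv_def,
          σ.symm_apply_eq.2 (hσfix i hn.1 hn.2).symm] at hi
        tauto
      have hin : pP ∈ symmDiff (pts r) (σ • pts r) := by
        rw [Finset.mem_symmDiff, ← Finset.inv_smul_mem_iff (a := σ), Equiv.Perm.smul_def, Equiv.Perm.inv_def,
          σ.symm_apply_eq.2 hQP.symm, mem_pts, mem_pts]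
        revert hb
        cases r.testBit (ptIdx pP) <;> cases r.testBit (ptIdx pQ) <;> simp
      have h1 := Finset.card_pos.2 ⟨pP, hin⟩
      have h2 := (Finset.card_le_card hsub).trans Finset.card_le_two
      omega
    refine Equiv.ext fun a => ?_
    rcases eq_or_ne a pP with rfl | haP
    · exact hP
    · rcases eq_or_ne a pQ with rfl | haQ
      · by_contra hne
        refine hne (σ.injective (hσfix _ (fun h' => n1 (σ.injective (hP.trans h'.symm))) hne))
      · exact hσfix a haP haQ
  subst hσ1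
  have hv : signedPerm 1 c (vP : GolayPt → ℤ) = vP := congrArg Subtype.val h
  have hP : pP ∉ c := signs_trivial hv rfl (by simp [vP, n1])
  have hQ : pQ ∉ c := signs_trivial hv rfl (by simp [vP, n1.symm])
  obtain rfl : c = ∅ := by
    by_contra hne
    obtain ⟨a, ha⟩ := Finset.nonempty_iff_ne_empty.2 hne
    have haP : a ≠ pP := fun e => hP (e ▸ ha)
    have haQ : a ≠ pQ := fun e => hQ (e ▸ ha)
    have e : c = ({pP, pQ} : Finset GolayPt)ᶜ := by
      ext b
      simp only [Finset.mem_compl, Finset.mem_insert, Finset.mem_singleton, not_or]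
      refine ⟨fun hb => ⟨fun e => hP (e ▸ hb), fun e => hQ (e ▸ hb)⟩, fun hb => ?_⟩
      rcases eq_or_ne a b with rfl | hab
      · exact ha
      · exact (pair a b hab haP haQ hb.1 hb.2).2.1 ha
    obtain ⟨u, hu, hue⟩ := hc
    have := code_card hu
    rw [hue, e, Finset.card_compl, Finset.card_pair n1, card_golayPt] at this
    omega
  exact prmAut_one

theorem normal_two_trivial {v : leechLattice} (hv : sqNorm (v : GolayPt → ℤ) = 32)
    {N : Subgroup (stabilizer Co0 v)} [N.Normal] {k : ℕ} (hN : Nat.card N = 2 ^ k) : N = ⊥ := by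
  have hcross : ∀ w : leechLattice, sqNorm (w : GolayPt → ℤ) = 32 → dotInt (v : GolayPt → ℤ) w = 0 →
      ∀ n ∈ N, (n : Co0) • w = w ∨ (n : Co0) • w = -w := by
    intro w hw hd
    let H : Subgroup (stabilizer Co0 v) :=
      { carrier := {g | (g : Co0) • w = w ∨ (g : Co0) • w = -w}
        one_mem' := Or.inl (one_smul _ _)
        mul_mem' := by
          rintro a b (ha | ha) (hb | hb) <;>
            simp [Set.mem_ofPred_eq, mul_smul, ha, hb, co0_neg]
        inv_mem' := by
          rintro a (ha | ha)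
          · exact Or.inl (inv_smul_eq_iff.2 ha.symm)
          · exact Or.inr (inv_smul_eq_iff.2 (by rw [co0_neg, ha, neg_neg])) }
    obtain ⟨s, hs1, hs2⟩ := pair_transitive (Or.inl rfl) hv hw
      (show sqNorm ((-w : leechLattice) : GolayPt → ℤ) = 32 by simpa [sqNorm] using hw) hd
      (by simp only [AddSubgroup.coe_neg, dotInt, Pi.neg_apply, mul_neg, Finset.sum_neg_distrib]; exact neg_eq_zero.2 hd)
    let F : Bool × ↥((stabilizer Co0 v) ⊓ stabilizer Co0 w) → H := fun z =>
      ⟨(if z.1 then ⟨s, hs1⟩ else 1) * ⟨z.2, z.2.2.1⟩, by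
        rcases z with ⟨_ | _, g⟩
        · exact Or.inl (by simp [mul_smul, show (g : Co0) • w = w from g.2.2])
        · exact Or.inr (by simp [mul_smul, show (g : Co0) • w = w from g.2.2, hs2])⟩
    have hww : w ≠ -w := fun h => by
      have h0 : (w : GolayPt → ℤ) = 0 := funext fun i => by
        have := congrFun (congrArg Subtype.val h) i
        simp at this
        simp [Pi.zero_apply]; omega
      rw [h0] at hw; simp [sqNorm] at hw
    have hF : Function.Bijective F := by
      refine ⟨fun z z' e => ?_, fun g => ?_⟩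
      · have e' : ((if z.1 then s else 1 : Co0) * z.2) = (if z'.1 then s else 1) * z'.2 := by
          have := congrArg (fun x : H => ((x : (stabilizer Co0 v)) : Co0)) e
          rcases z with ⟨_ | _, g⟩ <;> rcases z' with ⟨_ | _, g'⟩ <;> simpa [F] using this
        have hb : z.1 = z'.1 := by
          have hw' := congrArg (fun x : Co0 => x • w) e'
          simp only [mul_smul, show (z.2 : Co0) • w = w from z.2.2.2, show (z'.2 : Co0) • w = w from z'.2.2.2] at hw'
          rcases h1 : z.1 <;> rcases h2 : z'.1 <;> simp [h1, h2, hs2] at hw' ⊢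
          · exact hww hw'
          · exact hww hw'.symm
        rw [hb, mul_right_inj] at e'
        exact Prod.ext hb (Subtype.ext e')
      · rcases g.2 with h | h
        · exact ⟨(false, ⟨g.1, g.1.2, h⟩), Subtype.ext (Subtype.ext (by simp [F]))⟩
        · refine ⟨(true, ⟨s⁻¹ * g.1, ⟨(stabilizer Co0 v).mul_mem ((stabilizer Co0 v).inv_mem hs1) g.1.2, ?_⟩⟩), Subtype.ext (Subtype.ext (by simp [F]))⟩
          show (s⁻¹ * (g.1 : Co0)) • w = w
          rw [mul_smul, h, inv_smul_eq_iff, hs2]
    have hHc := Nat.card_eq_of_bijective F hF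
    rw [Nat.card_prod, Nat.card_eq_fintype_card (α := Bool), Fintype.card_bool] at hHc
    have ho := orbit_count (v := v) (w := w) (S := dotSet v 0) fun w' => by
      constructor
      · rintro ⟨a, b⟩; exact pair_transitive (Or.inl rfl) hv hw a hd b
      · rintro ⟨g, hg, rfl⟩; exact ⟨(co0_norm g w).trans hw, by conv_lhs => rw [← hg, co0_dot]; exact hd⟩
    rw [ncard_dotSet_zero hv] at ho
    have hidx : H.index = 46575 := by
      have h1 := H.card_mul_index
      rw [← hHc, ← ho] at h1
      have hpos : 0 < Nat.card ↥((stabilizer Co0 v) ⊓ stabilizer Co0 w) := Nat.card_pos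
      refine Nat.eq_of_mul_eq_mul_left (show 0 < 2 * Nat.card ↥((stabilizer Co0 v) ⊓ stabilizer Co0 w) by omega) (h1.trans ?_)
      ring
    have hrel : H.relIndex N = 1 := by
      have h1 : H.relIndex N ∣ 2 ^ k := hN ▸ Subgroup.relIndex_dvd_card H N
      have h2 : H.relIndex N ∣ 46575 := by
        refine ⟨(H ⊔ N).index, ?_⟩
        have e1 : N.relIndex H = N.relIndex (H ⊔ N) := (Subgroup.relIndex_sup_right (H := H) (K := N)).symm
        have e2 := Subgroup.relIndex_mul_index (le_sup_right : N ≤ H ⊔ N)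
        have e3 := Subgroup.relIndex_mul_index (inf_le_left : H ⊓ N ≤ H)
        have e4 := Subgroup.relIndex_mul_index (inf_le_right : H ⊓ N ≤ N)
        rw [Subgroup.inf_relIndex_right] at e4
        rw [Subgroup.inf_relIndex_left, ← e4, ← e2, ← e1, hidx] at e3
        have hpos : 0 < N.relIndex H := Nat.pos_of_ne_zero Subgroup.index_ne_zero_of_finite
        exact Nat.eq_of_mul_eq_mul_left hpos (e3.trans (by ring))
      exact Nat.eq_one_of_dvd_coprimes (Nat.Coprime.pow_left k (by norm_num : Nat.Coprime 2 46575)) h1 h2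
    exact fun n hn => Subgroup.relIndex_eq_one.1 hrel hn
  obtain ⟨g, hg⟩ := transitive_norm (x := v) (y := vP) (Or.inl hv) (sqNorm_marked.1.trans hv.symm)
  refine (Subgroup.eq_bot_iff_forall N).2 fun n hn => ?_
  have h1 : g * (n : Co0) * g⁻¹ = 1 := by
    refine fix_orth_pairs ?_ fun w hw hd => ?_
    · rw [mul_smul, mul_smul, inv_smul_eq_iff.2 hg.symm, mem_stabilizer_iff.1 n.2, hg]
    · have hw' := hcross (g⁻¹ • w) ((co0_norm _ w).trans hw)
        (by rw [← co0_dot g, hg, smul_inv_smul]; exact hd) n hn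
      rw [mul_smul, mul_smul]
      rcases hw' with h | h
      · exact Or.inl (by rw [h, smul_inv_smul])
      · exact Or.inr (by rw [h, co0_neg, smul_inv_smul])
  exact Subtype.ext (by simpa using conj_eq_one_iff.1 h1)

theorem simple_co2_base : IsSimpleGroup (stabilizer Co0 o2) := by
  have hne : ∀ p, (o2 : GolayPt → ℤ) p ≠ 0 := by decide +kernel
  have hcst : ∀ t : ZMod 23, (o2 : GolayPt → ℤ) (some t) = (o2 : GolayPt → ℤ) (some 0) := by decide +kernel
  haveI : Fact (Nat.Prime 23) := ⟨by norm_num⟩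
  obtain ⟨hSG, hK⟩ := point_stab_mem hne hcst
  obtain ⟨f1, f2, f3⟩ := shiftEl_facts
  refine stab_simple _ _ (isSimpleGroup_stabilizer_point none) shiftEl f1 f2 f3 hSG (fun τ hτ => hτ) hK
    (fun g hg hx => ?_) ?_ fun N hN hdvd hq => ?_
  · refine shift_invariant hx ((co0_norm g _).trans (sqNorm_eight none)) (a := -3) ?_ (Or.inr rfl)
    have hd : dotInt (o2 : GolayPt → ℤ) (g • eight none : leechLattice) = -24 := by
      conv_lhs => rw [← mem_stabilizer_iff.1 hg, co0_dot]
      decide +kernel
    rw [dotInt, Fintype.sum_option, Finset.sum_congr rfl fun t _ => by rw [shift_fixed hx t, hcst t],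
      Finset.sum_const, Finset.card_univ, ZMod.card, nsmul_eq_mul] at hd
    simp [o2, oddVec] at hd
    omega
  · rw [card_stab32 sqNorm_o2]; norm_num
  · rw [card_stab32 sqNorm_o2, card_point_stab] at hdvd
    have hm : Nat.card N ∣ 4147200 := Nat.dvd_of_mul_dvd_mul_right (by norm_num : 0 < 10200960) hdvd
    haveI := hN
    obtain ⟨k, hk⟩ : ∃ k, Nat.card N = 2 ^ k := by
      refine ⟨_, Nat.eq_prime_pow_of_unique_prime_dvd Nat.card_pos.ne' fun {d} hd hdN => ?_⟩
      by_contra h2
      have h0 : (Nat.card N).factorization d ≠ 0 := Nat.pos_iff_ne_zero.1 (hd.factorization_pos_of_dvd Nat.card_pos.ne' hdN)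
      have hd' := (Nat.ordProj_dvd (Nat.card N) d).trans hm
      have hmod := hq d hd
      rcases prime_cases hd hd' h0 (a := 11) (b := 4) (c := 2) rfl with rfl | rfl | rfl
      · exact h2 rfl
      · have := exp_le (e := 4) hd' (by norm_num)
        generalize (Nat.card N).factorization 3 = k at *
        interval_cases k <;> simp_all
      · have := exp_le (e := 2) hd' (by norm_num)
        generalize (Nat.card N).factorization 5 = k at *
        interval_cases k <;> simp_all
    exact normal_two_trivial sqNorm_o2 hk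

theorem isCo2_stabilizer {v : leechLattice} (hv : sqNorm (v : GolayPt → ℤ) = 32) : IsCo2 (stabilizer Co0 v) := by
  obtain ⟨g, hg⟩ := transitive_norm (x := v) (y := o2) (Or.inl hv) (sqNorm_o2.trans hv.symm)
  haveI := simple_co2_base
  exact ⟨(stabEquiv hg).isSimpleGroup, card_stab32 hv⟩

end CfsgLib.Spor.Leech
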