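/-
The stabilizer of a triangle of type 2, 2, 3 is simple.
-/
import Cfsg.Agent.Lib.Spor.Leech.Stabilizers

namespace CfsgLib.Spor.Leech

open Cfsg MulAction
open scoped Pointwise

/-- The marked second point. -/
def p0 : GolayPt := some 0

/-- The marked minimal vector. -/
def v1 : leechLattice := ⟨fourVec none p0, fourVec_mem none p0⟩

/-- Its partner. -/
def w1 : leechLattice := ⟨fun p => if p = p0 then -3 else 1, leechTest_spec (by decide +kernel)⟩

theorem sqNorm_v1 : sqNorm (v1 : GolayPt → ℤ) = 32 ∧ sqNorm (w1 : GolayPt → ℤ) = 32 ∧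
    dotInt (v1 : GolayPt → ℤ) w1 = -8 := by decide +kernel

/-- Doubling as an element of the code's group. -/
noncomputable def doubleEl : M24 :=
  ⟨permOf mulTwoCode, permOf_mem_M24 (show isM24Code mulTwoCode = true by decide +kernel)⟩

theorem doubleEl_code : ∀ p : GolayPt, fnPt mulTwoCode p = p.map fun t => 2 * t := by decide +kernel

theorem doubleEl_apply (p : GolayPt) : (doubleEl : Equiv.Perm GolayPt) p = p.map fun t => 2 * t := by
  show permOf mulTwoCode p = _
  rw [permOf_apply (show isPermCode mulTwoCode = true by decide +kernel)]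
  exact doubleEl_code p

theorem doubleEl_facts : doubleEl ∈ stabilizer M24 (none : GolayPt) ⊓ stabilizer M24 p0 ∧ doubleEl ^ 11 = 1 ∧
    doubleEl ≠ 1 := by
  refine ⟨⟨doubleEl_apply none, doubleEl_apply p0⟩, Subtype.ext (Equiv.ext fun p => ?_), fun h => ?_⟩
  · show ((doubleEl : Equiv.Perm GolayPt) ^ 11) p = p
    rw [← Equiv.Perm.iterate_eq_pow, show (⇑(doubleEl : Equiv.Perm GolayPt)) = (fun q : GolayPt => q.map fun t => 2 * t) from
      funext doubleEl_apply]
    revert p; decide +kernel
  · have := doubleEl_apply (some 1)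
    rw [h] at this
    exact absurd this (by decide +kernel)

/-- The two classes of nonzero residues. -/
def qClass (t : ZMod 23) : Bool := (List.range 11).any fun k => decide (t = 2 ^ k)

theorem class_cover : ∀ t : ZMod 23, t ≠ 0 → ∃ k < 11, t = (if qClass t then 1 else 5) * 2 ^ k := by decide +kernel

theorem class_cards : (Finset.univ.filter fun t : ZMod 23 => t = 0).card = 1 ∧
    (Finset.univ.filter fun t : ZMod 23 => t ≠ 0 ∧ qClass t = true).card = 11 ∧
    (Finset.univ.filter fun t : ZMod 23 => t ≠ 0 ∧ qClass t = false).card = 11 := by decide +kernel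

theorem double_fixed {z : leechLattice} (h : prmHom doubleEl • z = z) (t : ZMod 23) (ht : t ≠ 0) :
    (z : GolayPt → ℤ) (some t) = if qClass t then (z : GolayPt → ℤ) (some 1) else (z : GolayPt → ℤ) (some 5) := by
  have step : ∀ t : ZMod 23, (z : GolayPt → ℤ) (some (t * 2)) = (z : GolayPt → ℤ) (some t) := fun t => by
    have h1 := congrFun (congrArg Subtype.val h) (some (t * 2))
    rw [show ((prmHom doubleEl • z : leechLattice) : GolayPt → ℤ) (some (t * 2)) =
      (z : GolayPt → ℤ) ((doubleEl : Equiv.Perm GolayPt).symm (some (t * 2))) from prmAut_smul doubleEl.2 z _] at h1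
    rw [← h1]
    exact congrArg _ ((Equiv.symm_apply_eq _).2 (by rw [doubleEl_apply, Option.map_some, mul_comm]))
  have key : ∀ (a : ZMod 23) (k : ℕ), (z : GolayPt → ℤ) (some (a * 2 ^ k)) = (z : GolayPt → ℤ) (some a) := by
    intro a k
    induction k with
    | zero => simp
    | succ k ih => rw [pow_succ, ← mul_assoc, step, ih]
  obtain ⟨k, -, e⟩ := class_cover t ht
  cases hq : qClass t <;> rw [hq] at e <;> simp only [if_true, Bool.false_eq_true, if_false] at e ⊢ <;>
    rw [e, key]

theorem sum_classes {z : leechLattice} (h : prmHom doubleEl • z = z) (F : GolayPt → ℤ → ℤ) {α β : ℤ → ℤ}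
    (hF : ∀ t : ZMod 23, t ≠ 0 → F (some t) = α) (h0 : F p0 = β) :
    ∑ p, F p ((z : GolayPt → ℤ) p) = F none ((z : GolayPt → ℤ) none) + β ((z : GolayPt → ℤ) p0) +
      11 * α ((z : GolayPt → ℤ) (some 1)) + 11 * α ((z : GolayPt → ℤ) (some 5)) := by
  obtain ⟨c0, c1, c2⟩ := class_cards
  set zn := (z : GolayPt → ℤ) p0
  set c := (z : GolayPt → ℤ) (some 1)
  set d := (z : GolayPt → ℤ) (some 5)
  have e : ∀ t : ZMod 23, F (some t) ((z : GolayPt → ℤ) (some t)) =
      (if t = 0 then β zn else 0) + ((if t ≠ 0 ∧ qClass t = true then α c else 0) +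
        if t ≠ 0 ∧ qClass t = false then α d else 0) := by
    intro t
    rcases eq_or_ne t 0 with rfl | ht
    · simp [zn, p0, ← h0]
    · rw [hF t ht, double_fixed h t ht]
      cases hq : qClass t <;> simp [ht, c, d]
  rw [Fintype.sum_option, Finset.sum_congr rfl fun t _ => e t, Finset.sum_add_distrib, Finset.sum_add_distrib,
    ← Finset.sum_filter, ← Finset.sum_filter, ← Finset.sum_filter, Finset.sum_const, Finset.sum_const,
    Finset.sum_const, c0, c1, c2, nsmul_eq_mul, nsmul_eq_mul, nsmul_eq_mul]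
  push_cast
  ring

theorem double_unique {z : leechLattice} (h : prmHom doubleEl • z = z) (hn : sqNorm (z : GolayPt → ℤ) = 64)
    (hv : dotInt (v1 : GolayPt → ℤ) z = 32) (hw : dotInt (w1 : GolayPt → ℤ) z = 8) : z = eight none := by
  have h1 := sum_classes h (fun _ x => x ^ 2) (α := fun x => x ^ 2) (β := fun x => x ^ 2) (fun _ _ => rfl) rfl
  have h2 := sum_classes h (fun p x => (v1 : GolayPt → ℤ) p * x) (α := fun _ => 0) (β := fun x => 4 * x)
    (fun t ht => funext fun x => by simp [v1, fourVec, p0, ht]) (funext fun x => by simp [v1, fourVec, p0])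
  have h3 := sum_classes h (fun p x => (w1 : GolayPt → ℤ) p * x) (α := fun x => x) (β := fun x => -3 * x)
    (fun t ht => funext fun x => by simp [w1, p0, ht]) (funext fun x => by simp [w1])
  rw [sqNorm, h1] at hn
  rw [dotInt, h2] at hv
  rw [dotInt, h3] at hw
  simp [v1, w1, fourVec, p0] at hv hw
  set a := (z : GolayPt → ℤ) none with ha
  set b := (z : GolayPt → ℤ) p0 with hb
  set c := (z : GolayPt → ℤ) (some 1) with hc
  set d := (z : GolayPt → ℤ) (some 5) with hd
  have key : a = 8 ∧ b = 0 ∧ c = 0 ∧ d = 0 := by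
    simp only [p0] at hb
    rw [← hb] at hv hw
    have hcb : -2 ≤ c ∧ c ≤ 2 := ⟨by nlinarith [sq_nonneg a, sq_nonneg b, sq_nonneg d], by
      nlinarith [sq_nonneg a, sq_nonneg b, sq_nonneg d]⟩
    have hdb : -2 ≤ d ∧ d ≤ 2 := ⟨by nlinarith [sq_nonneg a, sq_nonneg b, sq_nonneg c], by
      nlinarith [sq_nonneg a, sq_nonneg b, sq_nonneg c]⟩
    clear_value a b c d
    obtain rfl : b = 8 - a := by omega
    obtain ⟨c1, c2⟩ := hcb
    obtain ⟨d1, d2⟩ := hdb
    interval_cases c <;> interval_cases d <;>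
      first
        | omega
        | (exfalso; have : a = 8 := by omega
           subst this; norm_num at hn)
        | (exfalso; nlinarith [sq_nonneg (a - 4)])
  obtain ⟨k1, k2, k3, k4⟩ := key
  refine eq_eight_none k1 fun t => ?_
  rcases eq_or_ne t 0 with rfl | ht
  · exact k2
  · rw [double_fixed h t ht]; split_ifs <;> assumption

theorem card_stab_triangle {v w : leechLattice} (hv : sqNorm (v : GolayPt → ℤ) = 32) (hw : sqNorm (w : GolayPt → ℤ) = 32)
    (hd : dotInt (v : GolayPt → ℤ) w = -8) : Nat.card ↥(stabilizer Co0 v ⊓ stabilizer Co0 w) = 898128000 := by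
  have h := orbit_count (v := v) (w := w) (S := dotSet v (-8)) fun x => by
    constructor
    · rintro ⟨a, b⟩; exact pair_transitive (Or.inr (Or.inr rfl)) hv hw a hd b
    · rintro ⟨k, hk, rfl⟩
      exact ⟨(co0_norm k w).trans hw, by conv_lhs => rw [← hk, co0_dot]; exact hd⟩
  rw [(census hv).2.1, card_stab32 hv] at h
  exact Nat.eq_of_mul_eq_mul_left (by norm_num : 0 < 47104) (h.trans (by norm_num))

theorem simple_mcl_base : IsSimpleGroup ↥(stabilizer Co0 v1 ⊓ stabilizer Co0 w1) := by
  obtain ⟨f1, f2, f3⟩ := doubleEl_facts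
  have hne : ∀ p, (w1 : GolayPt → ℤ) p ≠ 0 := by decide +kernel
  have hz : ∀ {τ : Equiv.Perm GolayPt}, τ none = none → τ p0 = p0 → ∀ i,
      (w1 : GolayPt → ℤ) (τ.symm i) = (w1 : GolayPt → ℤ) i := by
    intro τ _ h0 i
    show (if τ.symm i = p0 then (-3 : ℤ) else 1) = if i = p0 then -3 else 1
    by_cases h : i = p0
    · rw [if_pos h, if_pos (τ.symm_apply_eq.2 (h0.symm ▸ h))]
    · rw [if_neg h, if_neg fun h' => h ((τ.symm_apply_eq.1 h').trans h0)]
  haveI : Fact (Nat.Prime 11) := ⟨by norm_num⟩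
  refine stab_simple _ _ (isSimpleGroup_stabilizer_two_points none p0 (by simp [p0])) doubleEl f1 f2 f3 ?_
    (fun τ hτ => hτ.1) (fun g hg h8 => ?_) (fun g hg hx => ?_) ?_ fun N _ hdvd hq => ?_
  · rintro _ ⟨τ, ⟨h1, h2⟩, rfl⟩
    refine ⟨Subtype.ext ?_, Subtype.ext (funext fun i => ?_)⟩
    · show signedPerm (τ : Equiv.Perm GolayPt) ∅ (Pi.single none 4 + Pi.single p0 4) = fourVec none p0
      rw [signedPerm_add, signedPerm_eight, signedPerm_eight, if_neg (Finset.notMem_empty _),
        if_neg (Finset.notMem_empty _), show (τ : Equiv.Perm GolayPt) none = none from h1,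
        show (τ : Equiv.Perm GolayPt) p0 = p0 from h2]
      rfl
    · exact (prmAut_smul τ.2 w1 i).trans (hz h1 h2 i)
  · obtain ⟨σ, hσ, c, hc, rfl⟩ := exists_monoAut (mem_crossStab_of_congr (Or.inl h8))
    obtain ⟨s1, -⟩ := monoAut_none_fixed h8
    have h0 : monoAut hσ hc • eight p0 = eight p0 := by
      have e : eight p0 = v1 + v1 - eight none := by decide +kernel
      rw [e, co0_sub, co0_add, mem_stabilizer_iff.1 hg.1, h8]
    have s2 : σ p0 = p0 := by
      have h' := congrArg Subtype.val h0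
      rw [monoAut_smul, show (eight p0 : GolayPt → ℤ) = Pi.single p0 8 from rfl, signedPerm_eight] at h'
      have h'' := congrFun h' (σ p0)
      rw [Pi.single_eq_same] at h''
      by_contra hne
      rw [Pi.single_eq_of_ne hne] at h''
      split_ifs at h'' <;> omega
    obtain rfl : c = ∅ := Finset.eq_empty_of_forall_notMem fun i =>
      signs_trivial (congrArg Subtype.val hg.2) (hz s1 s2 i) (hne i)
    exact ⟨⟨σ, hσ⟩, ⟨s1, s2⟩, rfl⟩
  · refine double_unique hx ((co0_norm g _).trans (sqNorm_eight none)) ?_ ?_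
    · conv_lhs => rw [← mem_stabilizer_iff.1 hg.1, co0_dot]
      decide +kernel
    · conv_lhs => rw [← mem_stabilizer_iff.1 hg.2, co0_dot]
      decide +kernel
  · rw [card_stab_triangle sqNorm_v1.1 sqNorm_v1.2.1 sqNorm_v1.2.2]; norm_num
  · rw [card_stab_triangle sqNorm_v1.1 sqNorm_v1.2.1 sqNorm_v1.2.2,
      card_stabilizer_two_points none p0 (by simp [p0])] at hdvd
    refine Subgroup.eq_bot_of_card_eq _ (eq_one_of_parts Nat.card_pos.ne' (m := 2025)
      (Nat.dvd_of_mul_dvd_mul_right (by norm_num : 0 < 443520) hdvd) (fun q k hq' hd hmod => ?_) hq)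
    by_contra h0
    rcases prime_cases hq' hd h0 (a := 0) (b := 4) (c := 2) rfl with rfl | rfl | rfl
    · have := exp_le (e := 0) hd (by norm_num); interval_cases k <;> simp_all
    · have := exp_le (e := 4) hd (by norm_num); interval_cases k <;> simp_all
    · have := exp_le (e := 2) hd (by norm_num); interval_cases k <;> simp_all

/-- Conjugate pair stabilizers. -/
noncomputable def pairStabEquiv {g : Co0} {v w v' w' : leechLattice} (h : g • v = v') (h' : g • w = w') :
    ↥(stabilizer Co0 v ⊓ stabilizer Co0 w) ≃* ↥(stabilizer Co0 v' ⊓ stabilizer Co0 w') :=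
  ((MulAut.conj g).subgroupMap (stabilizer Co0 v ⊓ stabilizer Co0 w)).trans (MulEquiv.subgroupCongr (by
    subst h h'
    rw [Subgroup.map_inf _ _ _ (MulAut.conj g).injective]
    congr 1 <;> exact (stabilizer_smul_eq_stabilizer_map_conj g _).symm))

theorem isMcL_stabilizer {v w : leechLattice} (hv : sqNorm (v : GolayPt → ℤ) = 32) (hw : sqNorm (w : GolayPt → ℤ) = 32)
    (hd : dotInt (v : GolayPt → ℤ) w = -8) : IsMcL ↥(stabilizer Co0 v ⊓ stabilizer Co0 w) := by
  obtain ⟨g, a, b⟩ := form8 hv hw hd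
  obtain ⟨g', a', b'⟩ := form8 sqNorm_v1.1 sqNorm_v1.2.1 sqNorm_v1.2.2
  haveI := simple_mcl_base
  have hv' : (g'⁻¹ * g) • v = v1 := by rw [mul_smul, a, ← a', inv_smul_smul]
  have hw' : (g'⁻¹ * g) • w = w1 := by rw [mul_smul, b, ← b', inv_smul_smul]
  exact ⟨(pairStabEquiv hv' hw').isSimpleGroup, card_stab_triangle hv hw hd⟩

end CfsgLib.Spor.Leech
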