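import Cfsg.Agent.Lib.Spor.Leech.CrossStab

/-!
# Lattice automorphisms given by the images of the standard frame
-/

set_option autoImplicit false

namespace CfsgLib.Spor.Leech

open Cfsg

/-- Entry of a table: coordinate `p` of the image of `8 e_i`. -/
def tabEntry (M : List (List ℤ)) (i p : GolayPt) : ℤ := (M.getD (ptIdx i) []).getD (ptIdx p) 0

/-- Eight times the image of a vector. -/
def matEight (M : List (List ℤ)) (x : GolayPt → ℤ) (p : GolayPt) : ℤ := ∑ i, x i * tabEntry M i p

/-- The image of a vector. -/
def matVec (M : List (List ℤ)) (x : GolayPt → ℤ) (p : GolayPt) : ℤ := matEight M x p / 8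

theorem matEight_add (M : List (List ℤ)) (x y : GolayPt → ℤ) : matEight M (x + y) = matEight M x + matEight M y := by
  funext p
  simp only [matEight, Pi.add_apply, add_mul, Finset.sum_add_distrib]

/-- The vectors with image in the lattice. -/
def matDom (M : List (List ℤ)) : AddSubgroup (GolayPt → ℤ) where
  carrier := {x | ∃ y ∈ leechLattice, matEight M x = fun p => 8 * y p}
  zero_mem' := ⟨0, zero_mem _, funext fun p => by simp [matEight]⟩
  add_mem' := by
    rintro a b ⟨y, hy, ha⟩ ⟨w, hw, hb⟩
    exact ⟨y + w, add_mem hy hw, by rw [matEight_add, ha, hb]; funext p; simp [mul_add]⟩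
  neg_mem' := by
    rintro a ⟨y, hy, ha⟩
    refine ⟨-y, neg_mem hy, funext fun p => ?_⟩
    have := congrFun ha p
    simp only [matEight, Pi.neg_apply, neg_mul, Finset.sum_neg_distrib] at this ⊢
    rw [this]; ring

/-- The test on a generator. -/
def matTest (M : List (List ℤ)) (x : GolayPt → ℤ) : Bool :=
  decide (∀ p, matEight M x p % 8 = 0) && leechTest (matVec M x)

theorem mem_matDom_of_test {M : List (List ℤ)} {x : GolayPt → ℤ} (h : matTest M x = true) : x ∈ matDom M := by
  simp only [matTest, Bool.and_eq_true, decide_eq_true_eq] at h
  exact ⟨matVec M x, leechTest_spec h.2, funext fun p => by have := h.1 p; simp only [matVec]; omega⟩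

/-- The certificate: a pair of transposed tables, mapping generators into the lattice, inverse to each other. -/
structure MatCert (M N : List (List ℤ)) : Prop where
  odd : matTest M oddVec = true
  two : rows.all (fun r => matTest M (twoVec r)) = true
  four : ∀ p, matTest M (fourVec p none) = true
  trans : ∀ i j, tabEntry N i j = tabEntry M j i
  orth : ∀ i j, ∑ p, tabEntry M i p * tabEntry M j p = if i = j then 64 else 0

theorem MatCert.le_dom {M N : List (List ℤ)} (h : MatCert M N) : leechLattice ≤ matDom M := by
  refine leech_le (mem_matDom_of_test h.odd) (fun r hr => mem_matDom_of_test (List.all_eq_true.1 h.two r hr))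
    fun p q => ?_
  have e : fourVec p q = fourVec p none + fourVec q none - fourVec none none := by simp only [fourVec]; abel
  rw [e]
  exact sub_mem (add_mem (mem_matDom_of_test (h.four p)) (mem_matDom_of_test (h.four q)))
    (mem_matDom_of_test (h.four none))

theorem MatCert.eight_vec {M N : List (List ℤ)} (h : MatCert M N) {x : GolayPt → ℤ} (hx : x ∈ leechLattice) :
    (∀ p, matEight M x p = 8 * matVec M x p) ∧ matVec M x ∈ leechLattice := by
  obtain ⟨y, hy, e⟩ := h.le_dom hx
  have e' : matVec M x = y := funext fun p => by rw [matVec, e]; simp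
  exact ⟨fun p => by rw [e', e], e' ▸ hy⟩

theorem MatCert.norm {M N : List (List ℤ)} (h : MatCert M N) {x : GolayPt → ℤ} (hx : x ∈ leechLattice) :
    sqNorm (matVec M x) = sqNorm x := by
  have key : ∑ p, matEight M x p * matEight M x p = 64 * sqNorm x := by
    calc ∑ p, matEight M x p * matEight M x p
        = ∑ p, ∑ i, ∑ j, x i * x j * (tabEntry M i p * tabEntry M j p) := by
          refine Finset.sum_congr rfl fun p _ => ?_
          rw [matEight, Finset.sum_mul_sum]
          exact Finset.sum_congr rfl fun i _ => Finset.sum_congr rfl fun j _ => by ring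
      _ = ∑ i, ∑ j, x i * x j * (∑ p, tabEntry M i p * tabEntry M j p) := by
          rw [Finset.sum_comm]
          refine Finset.sum_congr rfl fun i _ => ?_
          rw [Finset.sum_comm]
          simp only [Finset.mul_sum]
      _ = 64 * sqNorm x := by
          simp only [h.orth, mul_ite, mul_zero, Finset.sum_ite_eq, Finset.mem_univ, if_true, sqNorm, Finset.mul_sum]
          exact Finset.sum_congr rfl fun i _ => by ring
  have e : ∑ p, matEight M x p * matEight M x p = 64 * sqNorm (matVec M x) := by
    simp only [(h.eight_vec hx).1, sqNorm, Finset.mul_sum]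
    exact Finset.sum_congr rfl fun i _ => by ring
  omega

theorem MatCert.left_inverse {M N : List (List ℤ)} (h : MatCert M N) (hNM : MatCert N M) {x : GolayPt → ℤ}
    (hx : x ∈ leechLattice) : matVec N (matVec M x) = x := by
  funext p
  have e1 : matEight N (matVec M x) p = 8 * matVec N (matVec M x) p :=
    (hNM.eight_vec (h.eight_vec hx).2).1 p
  have e2 : 8 * matEight N (matVec M x) p = 64 * x p := by
    calc 8 * matEight N (matVec M x) p = ∑ i, (8 * matVec M x i) * tabEntry N i p := by
          rw [matEight, Finset.mul_sum]
          exact Finset.sum_congr rfl fun i _ => by ring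
      _ = ∑ i, ∑ j, x j * (tabEntry M j i * tabEntry M p i) := by
          refine Finset.sum_congr rfl fun i _ => ?_
          rw [← (h.eight_vec hx).1, matEight, Finset.sum_mul, h.trans]
          exact Finset.sum_congr rfl fun j _ => by ring
      _ = ∑ j, x j * ∑ i, tabEntry M j i * tabEntry M p i := by
          rw [Finset.sum_comm]
          simp only [Finset.mul_sum]
      _ = 64 * x p := by
          simp only [h.orth, mul_ite, mul_zero, Finset.sum_ite_eq', Finset.mem_univ, if_true]
          ring
  omega

/-- The automorphism of a pair of certified tables. -/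
def matAut (M N : List (List ℤ)) (h : MatCert M N) (h' : MatCert N M) : Co0 :=
  mkAut (fun v => ⟨matVec M v, (h.eight_vec v.2).2⟩) (fun v => ⟨matVec N v, (h'.eight_vec v.2).2⟩)
    (fun v => Subtype.ext (h'.left_inverse h v.2)) (fun v => Subtype.ext (h.left_inverse h' v.2))
    (fun v w => Subtype.ext (funext fun p => by
      have hv := (h.eight_vec v.2).1 p
      have hw := (h.eight_vec w.2).1 p
      simp only [AddSubgroup.coe_add, Pi.add_apply, matVec, matEight_add] at hv hw ⊢
      omega))
    (fun v => h.norm v.2)

theorem matAut_smul {M N : List (List ℤ)} (h : MatCert M N) (h' : MatCert N M) (v : leechLattice) :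
    ((matAut M N h h' • v : leechLattice) : GolayPt → ℤ) = matVec M v := rfl

theorem matAut_eight {M N : List (List ℤ)} (h : MatCert M N) (h' : MatCert N M) (i : GolayPt) :
    ((matAut M N h h' • eight i : leechLattice) : GolayPt → ℤ) = tabEntry M i := by
  funext p
  rw [matAut_smul, matVec, matEight, eight]
  simp [Pi.single_apply]

end CfsgLib.Spor.Leech
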