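/-
The lattice's automorphisms act faithfully modulo 13, and a stabilizer of a short vector on a hyperplane.
-/
import Cfsg.Agent.Lib.Spor.Leech.CrossStab
import Cfsg.Prelude.Def_Spor_Conway
import Mathlib.LinearAlgebra.Matrix.GeneralLinearGroup.Defs
import Mathlib.LinearAlgebra.Dual.Lemmas

set_option autoImplicit false

namespace CfsgLib.Spor.Leech.ModThirteen

open Cfsg Matrix MulAction

/-- Reduction of a vector. -/
def red (x : GolayPt → ℤ) : GolayPt → ZMod 13 := fun p => (x p : ZMod 13)

/-- The reduced matrix. -/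
def mat (g : Co0) : Matrix GolayPt GolayPt (ZMod 13) :=
  Matrix.of fun i j => 5 * red ((g • eight j : leechLattice) : GolayPt → ℤ) i

theorem mat_mulVec (g : Co0) (x : leechLattice) :
    mat g *ᵥ red (x : GolayPt → ℤ) = red ((g • x : leechLattice) : GolayPt → ℤ) := by
  have h8 : (8 : ℤ) • (g • x) = ∑ q, (x : GolayPt → ℤ) q • (g • eight q) := by
    rw [← co0_zsmul, eight_sum]
    have := map_sum (AddMonoidHom.mk' (fun v : leechLattice => g • v) (co0_add g))
      (fun q => (x : GolayPt → ℤ) q • eight q) Finset.univ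
    simp only [AddMonoidHom.mk'_apply] at this
    rw [this]
    exact Finset.sum_congr rfl fun q _ => co0_zsmul g _ _
  funext p
  have h := congrArg (fun z : ℤ => (z : ZMod 13)) (congrFun (congrArg Subtype.val h8) p)
  rw [AddSubgroup.val_finset_sum, Finset.sum_apply] at h
  simp only [AddSubgroup.coe_zsmul, Pi.smul_apply, smul_eq_mul] at h
  push_cast at h
  have h5 : (5 : ZMod 13) * 8 = 1 := by decide
  calc (mat g *ᵥ red (x : GolayPt → ℤ)) p
      = 5 * ∑ q, ((x : GolayPt → ℤ) q : ZMod 13) * (((g • eight q : leechLattice) : GolayPt → ℤ) p : ZMod 13) := by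
        simp only [Matrix.mulVec, dotProduct, Finset.mul_sum]
        refine Finset.sum_congr rfl fun q _ => ?_
        simp only [mat, Matrix.of_apply, red]
        ring
    _ = red ((g • x : leechLattice) : GolayPt → ℤ) p := by rw [← h, ← mul_assoc, h5, one_mul]; rfl

theorem red_eight (j : GolayPt) : red (eight j : GolayPt → ℤ) = (8 : ZMod 13) • Pi.single j (1 : ZMod 13) := by
  funext p
  simp only [red, eight, Pi.smul_apply, smul_eq_mul]
  rcases eq_or_ne p j with rfl | h
  · simp
  · simp [h]

theorem mat_col (g : Co0) (j : GolayPt) :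
    mat g *ᵥ Pi.single j 1 = (5 : ZMod 13) • red ((g • eight j : leechLattice) : GolayPt → ℤ) := by
  rw [← mat_mulVec, red_eight, Matrix.mulVec_smul, smul_smul, show (5 : ZMod 13) * 8 = 1 by decide, one_smul]

theorem mat_ext {A B : Matrix GolayPt GolayPt (ZMod 13)} (h : ∀ j, A *ᵥ Pi.single j 1 = B *ᵥ Pi.single j 1) : A = B := by
  ext i j
  simpa [Matrix.mulVec_single] using congrFun (h j) i

/-- The representation. -/
def rep : Co0 →* Matrix GolayPt GolayPt (ZMod 13) where
  toFun := mat
  map_one' := mat_ext fun j => by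
    rw [mat_col, one_smul, red_eight, smul_smul, show (5 : ZMod 13) * 8 = 1 by decide, one_smul, Matrix.one_mulVec]
  map_mul' g h := mat_ext fun j => by
    rw [mat_col, ← Matrix.mulVec_mulVec, mat_col, Matrix.mulVec_smul, mat_mulVec, mul_smul]

theorem rep_injective : Function.Injective rep := by
  refine (injective_iff_map_eq_one rep).2 fun g hg => ?_
  have hmin : ∀ x : leechLattice, sqNorm (x : GolayPt → ℤ) = 32 → g • x = x := by
    intro x hx
    have e : red ((g • x : leechLattice) : GolayPt → ℤ) = red (x : GolayPt → ℤ) := by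
      rw [← mat_mulVec, show mat g = 1 from hg, Matrix.one_mulVec]
    have hy : sqNorm ((g • x : leechLattice) : GolayPt → ℤ) = 32 := (co0_norm g x).trans hx
    refine Subtype.ext (funext fun p => ?_)
    have h13 : (13 : ℤ) ∣ ((g • x : leechLattice) : GolayPt → ℤ) p - (x : GolayPt → ℤ) p := by
      exact (ZMod.intCast_eq_intCast_iff_dvd_sub _ _ 13).1 (congrFun e p).symm
    have := natAbs_le_eight (x := ((g • x : leechLattice) : GolayPt → ℤ)) (by omega) p
    have := natAbs_le_eight (x := (x : GolayPt → ℤ)) (by omega) p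
    have hb : ∀ z : leechLattice, sqNorm (z : GolayPt → ℤ) = 32 → ((z : GolayPt → ℤ) p).natAbs ≤ 5 := by
      intro z hz
      have h : ((z : GolayPt → ℤ) p) ^ 2 ≤ 32 :=
        hz ▸ Finset.single_le_sum (f := fun i => ((z : GolayPt → ℤ) i) ^ 2) (fun i _ => sq_nonneg _) (Finset.mem_univ p)
      by_contra hc
      rcases le_or_gt 0 ((z : GolayPt → ℤ) p) with hs | hs <;> nlinarith [show (6 : ℤ) ≤ |(z : GolayPt → ℤ) p| by
        rw [Int.abs_eq_natAbs]; omega, sq_abs ((z : GolayPt → ℤ) p)]
    have := hb _ hy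
    have := hb _ hx
    obtain ⟨k, hk⟩ := h13
    omega
  refine co0_ext fun i => ?_
  rw [one_smul]
  have hmem : (eight i : GolayPt → ℤ) ∈ AddSubgroup.closure {x : GolayPt → ℤ | x ∈ leechLattice ∧ sqNorm x = 32} := by
    rw [closure_min]; exact (eight i).2
  suffices key : ∀ z ∈ AddSubgroup.closure {x : GolayPt → ℤ | x ∈ leechLattice ∧ sqNorm x = 32},
      ∃ hz : z ∈ leechLattice, g • (⟨z, hz⟩ : leechLattice) = ⟨z, hz⟩ by
    obtain ⟨hz, e⟩ := key _ hmem
    exact e
  intro z hz
  induction hz using AddSubgroup.closure_induction with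
  | mem x hx => exact ⟨hx.1, hmin ⟨x, hx.1⟩ hx.2⟩
  | zero =>
    refine ⟨zero_mem _, ?_⟩
    have := co0_sub g (eight none) (eight none)
    simp only [sub_self] at this
    exact this
  | add x y _ _ hx hy =>
    obtain ⟨a, ea⟩ := hx; obtain ⟨b, eb⟩ := hy
    refine ⟨add_mem a b, ?_⟩
    have := co0_add g ⟨x, a⟩ ⟨y, b⟩
    rw [ea, eb] at this
    exact this
  | neg x _ hx =>
    obtain ⟨a, ea⟩ := hx
    refine ⟨neg_mem a, ?_⟩
    have := co0_neg g ⟨x, a⟩
    rw [ea] at this
    exact this

/-- The product with the reduced fixed vector. -/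
noncomputable def phi : (GolayPt → ZMod 13) →ₗ[ZMod 13] ZMod 13 where
  toFun z := red (Cfsg.Spor.leechU : GolayPt → ℤ) ⬝ᵥ z
  map_add' := dotProduct_add _
  map_smul' c z := by simp [dotProduct_smul]

theorem red_dot (x y : GolayPt → ℤ) : red x ⬝ᵥ red y = (dotInt x y : ZMod 13) := by
  simp [red, dotProduct, dotInt]

theorem norm_leechU : sqNorm (Cfsg.Spor.leechU : GolayPt → ℤ) = 32 := by decide +kernel

theorem phi_invariant {g : Co0} (hg : g • Cfsg.Spor.leechU = Cfsg.Spor.leechU) (z : GolayPt → ZMod 13) :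
    phi (mat g *ᵥ z) = phi z := by
  have key : phi ∘ₗ Matrix.toLin' (mat g) = phi := by
    refine LinearMap.pi_ext' fun j => LinearMap.ext_ring ?_
    simp only [LinearMap.comp_apply, LinearMap.single_apply, Matrix.toLin'_apply]
    show red (Cfsg.Spor.leechU : GolayPt → ℤ) ⬝ᵥ (mat g *ᵥ Pi.single j 1) = red (Cfsg.Spor.leechU : GolayPt → ℤ) ⬝ᵥ Pi.single j 1
    rw [mat_col, dotProduct_smul, red_dot]
    conv_lhs => rw [← hg, co0_dot, ← red_dot, red_eight, dotProduct_smul, smul_smul,
      show (5 : ZMod 13) * 8 = 1 by decide, one_smul]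
  exact LinearMap.congr_fun key z

theorem nums : ((32 : ℤ) : ZMod 13) = 6 ∧ (11 : ZMod 13) * 6 = 1 := by decide

theorem exists_co2 : ∃ f : ↥Cfsg.Spor.Co2 →* GL (Fin 23) (ZMod 13), Function.Injective f := by
  let inc : Cfsg.Spor.Co2 →* Co0 := Subgroup.inclusion inf_le_left
  have hfix : ∀ g : Cfsg.Spor.Co2, inc g • Cfsg.Spor.leechU = Cfsg.Spor.leechU := fun g => g.2.2
  let W : Submodule (ZMod 13) (GolayPt → ZMod 13) := LinearMap.ker phi
  have hW : ∀ (g : Cfsg.Spor.Co2), ∀ z ∈ W, Matrix.toLin' (rep (inc g)) z ∈ W := fun g z hz => by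
    rw [LinearMap.mem_ker] at hz ⊢
    exact (phi_invariant (hfix g) z).trans hz
  let f : Cfsg.Spor.Co2 →* Module.End (ZMod 13) W :=
    { toFun := fun g => (Matrix.toLin' (rep (inc g))).restrict (hW g)
      map_one' := LinearMap.ext fun z => Subtype.ext (by simp)
      map_mul' := fun a b => LinearMap.ext fun z => Subtype.ext (by
        simp [Matrix.mulVec_mulVec]) }
  haveI : Fact (Nat.Prime 13) := ⟨by norm_num⟩
  have hu : phi (red (Cfsg.Spor.leechU : GolayPt → ℤ)) = 6 := by
    show red _ ⬝ᵥ red _ = _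
    rw [red_dot, show dotInt (Cfsg.Spor.leechU : GolayPt → ℤ) (Cfsg.Spor.leechU : GolayPt → ℤ) = 32 by decide +kernel]
    exact nums.1
  have hinj : Function.Injective f := by
    refine (injective_iff_map_eq_one f).2 fun g hg => ?_
    have h1 : rep (inc g) = 1 := by
      refine mat_ext fun j => ?_
      rw [Matrix.one_mulVec]
      set e : GolayPt → ZMod 13 := Pi.single j 1
      set u := red (Cfsg.Spor.leechU : GolayPt → ℤ)
      set c : ZMod 13 := phi e * 11
      have hw : e - c • u ∈ W := by
        rw [LinearMap.mem_ker, map_sub, map_smul, hu, smul_eq_mul, mul_assoc,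
          nums.2, mul_one, sub_self]
      have h := congrArg (fun (F : Module.End (ZMod 13) W) => (F ⟨_, hw⟩).1) hg
      simp only [f, MonoidHom.coe_mk, OneHom.coe_mk, LinearMap.coe_restrict_apply, Module.End.one_apply,
        Matrix.toLin'_apply, Matrix.mulVec_sub, Matrix.mulVec_smul] at h
      rw [show rep (inc g) *ᵥ u = u from (mat_mulVec _ _).trans (by rw [hfix g]), sub_left_inj] at h
      exact h
    have := rep_injective (h1.trans (map_one rep).symm)
    exact Subgroup.inclusion_injective inf_le_left (this.trans (map_one inc).symm)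
  have hdim : Module.finrank (ZMod 13) W = 23 := by
    have hs : Function.Surjective phi := fun c => ⟨(c * 11) • red (Cfsg.Spor.leechU : GolayPt → ℤ), by
      rw [map_smul, hu, smul_eq_mul, mul_assoc, nums.2, mul_one]⟩
    have h := LinearMap.finrank_range_add_finrank_ker phi
    rw [LinearMap.range_eq_top.2 hs, finrank_top, Module.finrank_self, Module.finrank_pi, card_golayPt] at h
    change Module.finrank (ZMod 13) (LinearMap.ker phi) = 23
    omega
  let b := Module.finBasisOfFinrankEq (ZMod 13) W hdim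
  let F : Cfsg.Spor.Co2 →* Matrix (Fin 23) (Fin 23) (ZMod 13) := (LinearMap.toMatrixAlgEquiv b).toMonoidHom.comp f
  have hF : Function.Injective F := (LinearMap.toMatrixAlgEquiv b).injective.comp hinj
  exact ⟨F.toHomUnits, fun x y h => hF (congrArg Units.val h)⟩

end CfsgLib.Spor.Leech.ModThirteen
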