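/-
An extraspecial group carrying the lattice modulo two, invariantly under its automorphisms, is of plus type.
-/
import Cfsg.Agent.Lib.Spor.Leech.CrossStab
import Cfsg.Agent.Lib.Spor.Leech.ModTwo
import Cfsg.Agent.Lib.Spor.M24Transitive
import Cfsg.Agent.Lib.Coprime.PGroupFrattini
import Cfsg.Prelude.Def_Transfer
import Cfsg.Prelude.Def_Sporadic

set_option autoImplicit false

namespace CfsgLib.Spor.Leech.Plus

open Cfsg

section Group

variable {P : Type*} [Group P]

/-- The commutator twist appearing in the square of a product. -/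
def K (a b : P) : P := a⁻¹ * b * a * b⁻¹

open scoped Classical in
/-- Indicator of being nontrivial. -/
noncomputable def χ (x : P) : ZMod 2 := if x = 1 then 0 else 1

/-- An invariant module map from the lattice to a group modulo its centre. -/
structure Setting (P : Type*) [Group P] where
  ψ : leechLattice → P ⧸ Subgroup.center P
  add : ∀ v w, ψ (v + w) = ψ v * ψ w
  ker : ∀ v, ψ v = 1 ↔ ∃ w : leechLattice, v = w + w
  inv : ∀ g : Co0, ∃ φ : P ≃* P, ∀ v q, ψ v = QuotientGroup.mk q → ψ (g • v) = QuotientGroup.mk (φ q)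
  card : Nat.card (Subgroup.center P) = 2
  sq : ∀ a : P, a * a ∈ Subgroup.center P
  comm : ∀ a b : P, K a b ∈ Subgroup.center P

variable (D : Setting P)

include D in
theorem Setting.center_cases (x y : P) (hx : x ∈ Subgroup.center P) (hy : y ∈ Subgroup.center P) (hx1 : x ≠ 1)
    (hy1 : y ≠ 1) : x = y := by
  obtain ⟨c, hc, hu⟩ := (Nat.card_eq_two_iff' (1 : Subgroup.center P)).1 D.card
  have e1 := hu ⟨x, hx⟩ (fun e => hx1 (congrArg Subtype.val e))
  have e2 := hu ⟨y, hy⟩ (fun e => hy1 (congrArg Subtype.val e))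
  exact congrArg Subtype.val (e1.trans e2.symm)

theorem χ_one : χ (1 : P) = 0 := if_pos rfl

theorem χ_eq_zero {x : P} : χ x = 0 ↔ x = 1 := by
  unfold χ; split_ifs with h <;> simp [h]

include D in
theorem Setting.central_sq {x : P} (hx : x ∈ Subgroup.center P) : x * x = 1 := by
  have := orderOf_dvd_natCard (⟨x, hx⟩ : Subgroup.center P)
  rw [D.card, orderOf_dvd_iff_pow_eq_one, pow_two] at this
  exact congrArg Subtype.val this

include D in
theorem Setting.χ_mul {x y : P} (hx : x ∈ Subgroup.center P) (hy : y ∈ Subgroup.center P) :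
    χ (x * y) = χ x + χ y := by
  by_cases h1 : x = 1
  · rw [h1, one_mul, χ_one, zero_add]
  by_cases h2 : y = 1
  · rw [h2, mul_one, χ_one, add_zero]
  rw [← D.center_cases x y hx hy h1 h2, D.central_sq hx, χ_one]
  unfold χ; rw [if_neg h1]; decide

theorem χ_map (φ : P ≃* P) (x : P) : χ (φ x) = χ x := by
  rcases eq_or_ne x 1 with rfl | h
  · rw [map_one]
  · unfold χ; rw [if_neg h, if_neg fun e => h ((map_eq_one_iff φ φ.injective).1 e)]

theorem K_central_right {a b u : P} (hu : u ∈ Subgroup.center P) : K a (b * u) = K a b := by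
  rw [K, K, show a⁻¹ * (b * u) * a * (b * u)⁻¹ = a⁻¹ * b * (u * a * u⁻¹) * b⁻¹ by group,
    ← Subgroup.mem_center_iff.1 hu a, mul_inv_cancel_right]

theorem K_central_left {a b u : P} (hu : u ∈ Subgroup.center P) : K (a * u) b = K a b := by
  rw [K, K, show (a * u)⁻¹ * b * (a * u) * b⁻¹ = u⁻¹ * (a⁻¹ * b * a) * (u * b⁻¹) by group,
    ← Subgroup.mem_center_iff.1 hu b⁻¹, ← mul_assoc, mul_assoc u⁻¹ (a⁻¹ * b * a) b⁻¹,
    mul_assoc u⁻¹ _ u, Subgroup.mem_center_iff.1 hu _, inv_mul_cancel_left]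

include D in
theorem Setting.K_mul (a b c : P) : K a (b * c) = K a b * K a c := by
  have h := Subgroup.mem_center_iff.1 (D.comm a c) b⁻¹
  calc K a (b * c) = a⁻¹ * b * a * (K a c * b⁻¹) := by simp only [K]; group
    _ = a⁻¹ * b * a * (b⁻¹ * K a c) := by rw [h]
    _ = K a b * K a c := by simp only [K]; group

/-- A representative of the image. -/
noncomputable def Setting.rep (v : leechLattice) : P := (D.ψ v).out

theorem Setting.mk_rep (v : leechLattice) : (QuotientGroup.mk (D.rep v) : P ⧸ Subgroup.center P) = D.ψ v :=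
  Quotient.out_eq _

theorem Setting.exists_central {v : leechLattice} {q : P} (h : D.ψ v = QuotientGroup.mk q) :
    ∃ u ∈ Subgroup.center P, D.rep v = q * u :=
  ⟨q⁻¹ * D.rep v, QuotientGroup.eq.1 (h.symm.trans (D.mk_rep v).symm), by rw [mul_inv_cancel_left]⟩

/-- The square form. -/
noncomputable def Setting.S (v : leechLattice) : ZMod 2 := χ (D.rep v * D.rep v)

/-- The commutator form. -/
noncomputable def Setting.B (v w : leechLattice) : ZMod 2 := χ (K (D.rep v) (D.rep w))

theorem Setting.S_eq {v : leechLattice} {q : P} (h : D.ψ v = QuotientGroup.mk q) : D.S v = χ (q * q) := by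
  obtain ⟨u, hu, e⟩ := D.exists_central h
  rw [Setting.S, e, mul_assoc q u, ← mul_assoc u q, ← Subgroup.mem_center_iff.1 hu q, mul_assoc q u, D.central_sq hu,
    mul_one]

theorem Setting.B_eq {v w : leechLattice} {a b : P} (ha : D.ψ v = QuotientGroup.mk a) (hb : D.ψ w = QuotientGroup.mk b) :
    D.B v w = χ (K a b) := by
  obtain ⟨u, hu, e⟩ := D.exists_central ha
  obtain ⟨u', hu', e'⟩ := D.exists_central hb
  rw [Setting.B, e, e', K_central_left hu, K_central_right hu']

theorem Setting.S_add (v w : leechLattice) : D.S (v + w) = D.S v + D.S w + D.B v w := by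
  have h : D.ψ (v + w) = QuotientGroup.mk (D.rep v * D.rep w) := by
    rw [D.add, QuotientGroup.mk_mul, D.mk_rep, D.mk_rep]
  rw [D.S_eq h, show D.rep v * D.rep w * (D.rep v * D.rep w)
      = D.rep v * D.rep v * K (D.rep v) (D.rep w) * (D.rep w * D.rep w) by simp only [K]; group,
    D.χ_mul (mul_mem (D.sq _) (D.comm _ _)) (D.sq _), D.χ_mul (D.sq _) (D.comm _ _), Setting.S, Setting.S, Setting.B]
  ring

theorem Setting.B_add (x v w : leechLattice) : D.B x (v + w) = D.B x v + D.B x w := by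
  have h : D.ψ (v + w) = QuotientGroup.mk (D.rep v * D.rep w) := by
    rw [D.add, QuotientGroup.mk_mul, D.mk_rep, D.mk_rep]
  rw [D.B_eq (D.mk_rep x).symm h, D.K_mul, D.χ_mul (D.comm _ _) (D.comm _ _)]
  rfl

theorem Setting.B_symm (v w : leechLattice) : D.B v w = D.B w v := by
  have h := (D.S_add v w).symm.trans ((congrArg D.S (add_comm v w)).trans (D.S_add w v))
  rw [add_comm (D.S w)] at h
  exact add_left_cancel h

theorem Setting.B_self (v : leechLattice) : D.B v v = 0 := by
  rw [Setting.B, show K (D.rep v) (D.rep v) = 1 by simp [K], χ_one]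

theorem Setting.B_twice (x w : leechLattice) : D.B x (w + w) = 0 := by
  rw [D.B_add]; exact CharTwo.add_self_eq_zero _

theorem Setting.B_congr (x v w : leechLattice) : D.B x (v + (w + w)) = D.B x v := by
  rw [D.B_add, D.B_twice, add_zero]

theorem Setting.S_congr (v w : leechLattice) : D.S (v + (w + w)) = D.S v := by
  rw [D.S_add, D.S_add w w, D.B_self, D.B_twice, CharTwo.add_self_eq_zero, add_zero, add_zero, add_zero]

theorem Setting.B_zero (x : leechLattice) : D.B x 0 = 0 := by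
  have := D.B_twice x 0; rwa [add_zero] at this

theorem Setting.S_zero : D.S 0 = 0 := by
  have := D.S_add 0 0
  rwa [add_zero, D.B_self, add_zero, CharTwo.add_self_eq_zero] at this

theorem Setting.B_neg (x v : leechLattice) : D.B x (-v) = D.B x v := by
  rw [← D.B_congr x (-v) v, neg_add_cancel_left]

theorem Setting.S_neg (v : leechLattice) : D.S (-v) = D.S v := by
  rw [← D.S_congr (-v) v, neg_add_cancel_left]

theorem Setting.S_smul (g : Co0) (v : leechLattice) : D.S (g • v) = D.S v := by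
  obtain ⟨φ, hφ⟩ := D.inv g
  rw [D.S_eq (hφ v _ (D.mk_rep v).symm), ← map_mul, χ_map]; rfl

theorem Setting.B_smul (g : Co0) (v w : leechLattice) : D.B (g • v) (g • w) = D.B v w := by
  obtain ⟨φ, hφ⟩ := D.inv g
  rw [D.B_eq (hφ v _ (D.mk_rep v).symm) (hφ w _ (D.mk_rep w).symm),
    show K (φ (D.rep v)) (φ (D.rep w)) = φ (K (D.rep v) (D.rep w)) by simp [K], χ_map]
  rfl

/-! ### The forms on pairs of coordinates -/

/-- The vector four times a pair of coordinates. -/
def P2 (i j : GolayPt) : leechLattice := ⟨fourVec i j, fourVec_mem i j⟩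

theorem co0_add (g : Co0) (v w : leechLattice) : g • (v + w) = g • v + g • w := g.2.1 v w

theorem P2_chain (i j k : GolayPt) : P2 i j + P2 j k = P2 i k + eight j := Subtype.ext (by
  show fourVec i j + fourVec j k = fourVec i k + Pi.single j 8
  simp only [fourVec, show (8 : ℤ) = 4 + 4 by rfl, Pi.single_add]
  abel)

theorem eight_congr (i j : GolayPt) : eight i = eight j + ((P2 i j - eight j) + (P2 i j - eight j)) := Subtype.ext (by
  show Pi.single i 8 = Pi.single j 8 + ((fourVec i j - Pi.single j 8) + (fourVec i j - Pi.single j 8))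
  simp only [fourVec, show (8 : ℤ) = 4 + 4 by rfl, Pi.single_add]
  abel)

/-- Arranging points by a permutation of the Golay code. -/
theorem exists_move {n : ℕ} (hn : n ≤ 5) {x y : Fin n → GolayPt} (hx : Function.Injective x)
    (hy : Function.Injective y) : ∃ g : Co0, (∀ a b, g • P2 (x a) (x b) = P2 (y a) (y b)) ∧
      ∀ p, ∃ q, g • eight p = eight q := by
  have ext : ∀ z : Fin n → GolayPt, Function.Injective z → ∃ σ ∈ M24, ∀ a : Fin n, σ (bpt a) = z a := fun z hz => by
    obtain ⟨σ, hσ, h⟩ := exists_mem_M24_bpt n hn (fun i => if h : i < n then z ⟨i, h⟩ else none)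
      (fun i hi j hj e => by simp only [dif_pos hi, dif_pos hj] at e; exact congrArg Fin.val (hz e))
    exact ⟨σ, hσ, fun a => (h a a.2).trans (dif_pos a.2)⟩
  obtain ⟨σ, hσ, hσx⟩ := ext x hx
  obtain ⟨τ, hτ, hτy⟩ := ext y hy
  have hm : τ * σ⁻¹ ∈ M24 := M24.mul_mem hτ (M24.inv_mem hσ)
  have hxy : ∀ a, (τ * σ⁻¹) (x a) = y a := fun a => by
    rw [Equiv.Perm.mul_apply, ← hσx a, Equiv.Perm.inv_def, Equiv.symm_apply_apply, hτy a]
  refine ⟨monoAut hm Spor.empty_mem_supports_golayCode, fun a b => Subtype.ext ?_, fun p => ⟨(τ * σ⁻¹) p, Subtype.ext ?_⟩⟩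
  · rw [monoAut_smul, ← hxy a, ← hxy b]
    funext i
    simp [signedPerm, P2, fourVec, Pi.single_apply, Equiv.symm_apply_eq]
  · rw [monoAut_smul]
    funext i
    simp [signedPerm, eight, Pi.single_apply, Equiv.symm_apply_eq]

theorem Setting.B_P2_eight {a b : GolayPt} (hab : a ≠ b) (k : GolayPt) : D.B (P2 a b) (eight k) = 0 := by
  have hF : ∀ v i, D.B v (eight i) = D.B v (eight none) := fun v i => by
    rw [eight_congr i none, D.B_congr]
  have key : ∀ a b c d : GolayPt, a ≠ b → c ≠ d → D.B (P2 a b) (eight none) = D.B (P2 c d) (eight none) := by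
    intro a b c d h h'
    obtain ⟨g, hg, hg8⟩ := exists_move (n := 2) (x := ![a, b]) (y := ![c, d]) (by norm_num)
      (fun i j e => by fin_cases i <;> fin_cases j <;> simp_all [eq_comm])
      (fun i j e => by fin_cases i <;> fin_cases j <;> simp_all [eq_comm])
    obtain ⟨q, hq⟩ := hg8 none
    have := D.B_smul g (P2 a b) (eight none)
    rw [show g • P2 a b = P2 c d from hg 0 1, hq, hF] at this
    exact this.symm
  have hne : idxPt 0 ≠ idxPt 1 ∧ idxPt 1 ≠ idxPt 2 ∧ idxPt 0 ≠ idxPt 2 := by decide +kernel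
  have h := D.B_add (eight none) (P2 (idxPt 0) (idxPt 1)) (P2 (idxPt 1) (idxPt 2))
  rw [P2_chain, D.B_add, D.B_symm _ (eight (idxPt 1)), hF (eight _), D.B_symm (eight (idxPt 1)), ← D.B_symm (P2 _ _),
    ← D.B_symm (P2 _ _), ← D.B_symm (P2 _ _), key _ _ a b hne.1 hab, key _ _ a b hne.2.1 hab, key _ _ a b hne.2.2 hab,
    hF (eight none), D.B_self, add_zero, CharTwo.add_self_eq_zero] at h
  rw [hF, h]

theorem Setting.B_disjoint {a b c d : GolayPt} (hab : a ≠ b) (hac : a ≠ c) (had : a ≠ d) (hbc : b ≠ c) (hbd : b ≠ d)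
    (hcd : c ≠ d) : D.B (P2 a b) (P2 c d) = 0 := by
  obtain ⟨e, hea, heb, hec, hed⟩ : ∃ e, e ≠ a ∧ e ≠ b ∧ e ≠ c ∧ e ≠ d := by
    by_contra hno
    push Not at hno
    have h : (Finset.univ : Finset GolayPt) ⊆ {a, b, c, d} := fun e _ => by
      simp only [Finset.mem_insert, Finset.mem_singleton]
      have := hno e; tauto
    have h1 := Finset.card_le_card h
    have h2 : ({a, b, c, d} : Finset GolayPt).card ≤ 4 := Finset.card_le_four
    rw [Finset.card_univ, card_golayPt] at h1
    omega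
  have key : ∀ p q : GolayPt, p ≠ q → a ≠ p → a ≠ q → b ≠ p → b ≠ q → D.B (P2 a b) (P2 p q) = D.B (P2 a b) (P2 c d) := by
    intro p q h1 h2 h3 h4 h5
    obtain ⟨g, hg, -⟩ := exists_move (n := 4) (x := ![a, b, p, q]) (y := ![a, b, c, d]) (by norm_num)
      (fun i j e => by fin_cases i <;> fin_cases j <;> simp_all [eq_comm])
      (fun i j e => by fin_cases i <;> fin_cases j <;> simp_all [eq_comm])
    have := D.B_smul g (P2 a b) (P2 p q)
    rw [show g • P2 a b = P2 a b from hg 0 1, show g • P2 p q = P2 c d from hg 2 3] at this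
    exact this.symm
  have h := D.B_add (P2 a b) (P2 c d) (P2 d e)
  rw [P2_chain, D.B_add, D.B_P2_eight hab, key c e hec.symm hac hea.symm hbc heb.symm,
    key d e hed.symm had hea.symm hbd heb.symm, add_zero, CharTwo.add_self_eq_zero] at h
  exact h

theorem Setting.B_shared {a b c : GolayPt} (hab : a ≠ b) (hac : a ≠ c) (hbc : b ≠ c) :
    D.B (P2 a b) (P2 a c) = 0 := by
  obtain ⟨g, hg, -⟩ := exists_move (n := 3) (x := ![a, b, c]) (y := ![idxPt 0, idxPt 4, idxPt 1]) (by norm_num)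
    (fun i j e => by fin_cases i <;> fin_cases j <;> simp_all [eq_comm])
    (by decide +kernel)
  rw [← D.B_smul g, show g • P2 a b = P2 (idxPt 0) (idxPt 4) from hg 0 1,
    show g • P2 a c = P2 (idxPt 0) (idxPt 1) from hg 0 2]
  let T : leechLattice := ⟨twoVec baseOctad, leechTest_spec (by decide +kernel)⟩
  have hrel : P2 (idxPt 0) (idxPt 1) + P2 (idxPt 2) (idxPt 3) + P2 (idxPt 5) (idxPt 14) + P2 (idxPt 17) (idxPt 23)
      = T + T := Subtype.ext (by
    show fourVec (idxPt 0) (idxPt 1) + fourVec (idxPt 2) (idxPt 3) + fourVec (idxPt 5) (idxPt 14)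
      + fourVec (idxPt 17) (idxPt 23) = twoVec baseOctad + twoVec baseOctad
    decide +kernel)
  have hne : ∀ i ∈ [2, 3, 5, 14, 17, 23], idxPt 0 ≠ idxPt i ∧ idxPt 4 ≠ idxPt i := by decide +kernel
  have h := D.B_twice (P2 (idxPt 0) (idxPt 4)) T
  rwa [← hrel, D.B_add, D.B_add, D.B_add,
    D.B_disjoint (c := idxPt 2) (d := idxPt 3) (by decide +kernel) (hne 2 (by simp)).1 (hne 3 (by simp)).1
      (hne 2 (by simp)).2 (hne 3 (by simp)).2 (by decide +kernel),
    D.B_disjoint (c := idxPt 5) (d := idxPt 14) (by decide +kernel) (hne 5 (by simp)).1 (hne 14 (by simp)).1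
      (hne 5 (by simp)).2 (hne 14 (by simp)).2 (by decide +kernel),
    D.B_disjoint (c := idxPt 17) (d := idxPt 23) (by decide +kernel) (hne 17 (by simp)).1 (hne 23 (by simp)).1
      (hne 17 (by simp)).2 (hne 23 (by simp)).2 (by decide +kernel),
    add_zero, add_zero, add_zero] at h

theorem P2_comm (i j : GolayPt) : P2 i j = P2 j i := Subtype.ext (add_comm _ _)

theorem Setting.B_shared_right {a b c : GolayPt} (hab : a ≠ b) (hcb : c ≠ b) (hac : a ≠ c) :
    D.B (P2 a b) (P2 c b) = 0 := by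
  rw [P2_comm a b, P2_comm c b]
  exact D.B_shared hab.symm hcb.symm hac

theorem Setting.S_eight_P2 : (∀ i, D.S (eight i) = 0) ∧ ∀ a b, a ≠ b → D.S (P2 a b) = 0 := by
  have h8 : ∀ i j, D.S (eight i) = D.S (eight j) := fun i j => by rw [eight_congr i j, D.S_congr]
  have h04 : idxPt 0 ≠ idxPt 4 ∧ idxPt 0 ∈ pts baseOctad ∧ idxPt 4 ∉ pts baseOctad := by decide +kernel
  have hflip : monoAut M24.one_mem (pts_supports (m := baseOctad) (by decide +kernel)) • P2 (idxPt 0) (idxPt 4)
      = P2 (idxPt 0) (idxPt 4) + -eight (idxPt 0) := Subtype.ext (by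
    rw [monoAut_smul]
    show signedPerm 1 (pts baseOctad) (fourVec (idxPt 0) (idxPt 4))
      = fourVec (idxPt 0) (idxPt 4) + -Pi.single (idxPt 0) 8
    decide +kernel)
  have h0 : D.S (eight (idxPt 0)) = 0 := by
    have h := congrArg D.S hflip
    rw [D.S_smul, D.S_add, D.S_neg, D.B_neg, D.B_P2_eight h04.1, add_zero] at h
    exact (add_left_cancel (a := D.S (P2 (idxPt 0) (idxPt 4))) (by rw [add_zero]; exact h.symm))
  have hE : ∀ i, D.S (eight i) = 0 := fun i => (h8 i _).trans h0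
  refine ⟨hE, fun a b hab => ?_⟩
  have key : ∀ c d : GolayPt, c ≠ d → D.S (P2 c d) = D.S (P2 a b) := fun c d h => by
    obtain ⟨g, hg, -⟩ := exists_move (n := 2) (x := ![c, d]) (y := ![a, b]) (by norm_num)
      (fun i j e => by fin_cases i <;> fin_cases j <;> simp_all [eq_comm])
      (fun i j e => by fin_cases i <;> fin_cases j <;> simp_all [eq_comm])
    rw [← D.S_smul g, show g • P2 c d = P2 a b from hg 0 1]
  have hne : idxPt 0 ≠ idxPt 1 ∧ idxPt 1 ≠ idxPt 2 ∧ idxPt 0 ≠ idxPt 2 := by decide +kernel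
  have h := congrArg D.S (P2_chain (idxPt 0) (idxPt 1) (idxPt 2))
  rw [D.S_add, D.S_add, hE, D.B_P2_eight hne.2.2, key _ _ hne.1, key _ _ hne.2.1, key _ _ hne.2.2,
    P2_comm (idxPt 0) (idxPt 1), D.B_shared hne.1.symm hne.2.1 hne.2.2, add_zero, add_zero, add_zero,
    CharTwo.add_self_eq_zero] at h
  exact h.symm

/-! ### The subgroup -/

/-- The twelve generators. -/
def gen (k : Fin 12) : leechLattice := if k.1 < 11 then P2 (idxPt k.1) (idxPt 11) else eight none

/-- The twelve test vectors. -/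
def test (l : Fin 12) : GolayPt → ℤ :=
  if l.1 < 11 then twoVec (rows.getD l.1 0) else oddVec + twoVec (rows.getD 11 0)

theorem test_mem (l : Fin 12) : test l ∈ leechLattice := by
  have h : ∀ i < 12, rows.getD i 0 ∈ rows := by decide +kernel
  rw [test]; split_ifs
  · exact twoVec_mem (word_row_mem (h _ l.2))
  · exact add_mem oddVec_mem (twoVec_mem (word_row_mem (h 11 (by norm_num))))

theorem pairing_table : ∀ k l : Fin 12, ((dotInt (gen k : GolayPt → ℤ) (test l) / 8 : ℤ) : ZMod 2)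
    = if k = l then 1 else 0 := by
  decide +kernel

/-- The pairing with the test vectors. -/
noncomputable def pairing : leechLattice →+ (Fin 12 → ZMod 2) :=
  AddMonoidHom.mk' (fun v l => ((dotInt (v : GolayPt → ℤ) (test l) / 8 : ℤ) : ZMod 2)) fun v w => funext fun l => by
    rw [Pi.add_apply, AddSubgroup.coe_add, dotInt_add_left', Int.add_ediv_of_dvd_left (dot_dvd v.2 (test_mem l)),
      Int.cast_add]
where
  dotInt_add_left' : ∀ {x y u : GolayPt → ℤ}, dotInt (x + y) u = dotInt x u + dotInt y u := by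
    intro x y u; simp only [dotInt, Pi.add_apply, add_mul, Finset.sum_add_distrib]

theorem pairing_sum (x : Fin 12 → ZMod 2) : pairing (∑ k, (x k).val • gen k) = x := by
  funext l
  simp only [map_sum, map_nsmul, Finset.sum_apply, Pi.smul_apply]
  rw [Finset.sum_eq_single l]
  · show (x l).val • ((dotInt (gen l : GolayPt → ℤ) (test l) / 8 : ℤ) : ZMod 2) = x l
    rw [pairing_table, if_pos rfl, nsmul_one, ZMod.natCast_zmod_val]
  · intro k _ hk
    show (x k).val • ((dotInt (gen k : GolayPt → ℤ) (test l) / 8 : ℤ) : ZMod 2) = 0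
    rw [pairing_table, if_neg hk, smul_zero]
  · simp

include D in
theorem Setting.exists_elementary [Finite P] :
    ∃ E : Subgroup P, IsElementaryAbelian 2 E ∧ Nat.card E = 2 ^ 13 := by
  obtain ⟨hS8, hSP⟩ := D.S_eight_P2
  have hne : ∀ k : Fin 12, k.1 < 11 → idxPt k.1 ≠ idxPt 11 := by decide +kernel
  have hne' : ∀ k l : Fin 12, k ≠ l → idxPt k.1 ≠ idxPt l.1 := by decide +kernel
  have hSg : ∀ k, D.S (gen k) = 0 := fun k => by
    rw [gen]; split_ifs with h
    · exact hSP _ _ (hne k h)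
    · exact hS8 _
  have hBg : ∀ k l, D.B (gen k) (gen l) = 0 := fun k l => by
    rcases eq_or_ne k l with rfl | hkl
    · exact D.B_self _
    rw [gen, gen]; split_ifs with h h'
    · exact D.B_shared_right (hne k h) (hne l h') (hne' k l hkl)
    · exact D.B_P2_eight (hne k h) _
    · rw [D.B_symm]; exact D.B_P2_eight (hne l ‹_›) _
    · exact D.B_self _
  let V := AddSubgroup.closure (Set.range gen)
  have hBV : ∀ v ∈ V, ∀ w ∈ V, D.B v w = 0 := by
    have h1 : ∀ k, ∀ w ∈ V, D.B (gen k) w = 0 := fun k w hw => by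
      refine AddSubgroup.closure_induction (p := fun w _ => D.B (gen k) w = 0) ?_ (D.B_zero _) ?_ ?_ hw
      · rintro _ ⟨l, rfl⟩; exact hBg k l
      · intro a b _ _ ha hb; rw [D.B_add, ha, hb, add_zero]
      · intro a _ ha; rw [D.B_neg, ha]
    intro v hv w hw
    rw [D.B_symm]
    refine AddSubgroup.closure_induction (p := fun v _ => D.B w v = 0) ?_ (D.B_zero _) ?_ ?_ hv
    · rintro _ ⟨k, rfl⟩; rw [D.B_symm]; exact h1 k w hw
    · intro a b _ _ ha hb; rw [D.B_add, ha, hb, add_zero]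
    · intro a _ ha; rw [D.B_neg, ha]
  have hSV : ∀ v ∈ V, D.S v = 0 := fun v hv => by
    refine AddSubgroup.closure_induction (p := fun v _ => D.S v = 0) ?_ D.S_zero ?_ ?_ hv
    · rintro _ ⟨k, rfl⟩; exact hSg k
    · intro a b ha' hb' ha hb; rw [D.S_add, ha, hb, hBV a ha' b hb', add_zero, add_zero]
    · intro a _ ha; rw [D.S_neg, ha]
  have hψ0 : D.ψ 0 = 1 := (D.ker 0).2 ⟨0, (add_zero 0).symm⟩
  have hψneg : ∀ v, D.ψ (-v) = (D.ψ v)⁻¹ := fun v => eq_inv_of_mul_eq_one_left (by rw [← D.add, neg_add_cancel, hψ0])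
  let E : Subgroup P :=
    { carrier := {q | ∃ v ∈ V, D.ψ v = QuotientGroup.mk q}
      one_mem' := ⟨0, zero_mem V, hψ0.trans (QuotientGroup.mk_one _).symm⟩
      mul_mem' := fun ⟨v, hv, e⟩ ⟨w, hw, e'⟩ => ⟨v + w, add_mem hv hw, by rw [D.add, e, e', QuotientGroup.mk_mul]⟩
      inv_mem' := fun ⟨v, hv, e⟩ => ⟨-v, neg_mem hv, by rw [hψneg, e, QuotientGroup.mk_inv]⟩ }
  have hcomm : ∀ a ∈ E, ∀ b ∈ E, a * b = b * a := fun a ⟨v, hv, e⟩ b ⟨w, hw, e'⟩ => by
    have h := hBV v hv w hw
    rw [D.B_eq e e', χ_eq_zero, K, mul_inv_eq_one, mul_assoc, inv_mul_eq_iff_eq_mul] at h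
    exact h.symm
  have hsq : ∀ a ∈ E, a ^ 2 = 1 := fun a ⟨v, hv, e⟩ => by
    have h := hSV v hv
    rw [D.S_eq e, χ_eq_zero] at h
    rwa [pow_two]
  have hvec : ∀ x : Fin 12 → ZMod 2, (∑ k, (x k).val • gen k) ∈ V := fun x =>
    sum_mem fun k _ => nsmul_mem (show gen k ∈ V from AddSubgroup.subset_closure ⟨k, rfl⟩) _
  let f : (Fin 12 → ZMod 2) × Subgroup.center P → E := fun p =>
    ⟨D.rep (∑ k, (p.1 k).val • gen k) * p.2,
      (show ∃ v ∈ V, D.ψ v = QuotientGroup.mk (D.rep (∑ k, (p.1 k).val • gen k) * (p.2 : P)) from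
        ⟨_, hvec p.1, by rw [QuotientGroup.mk_mul_of_mem _ p.2.2, D.mk_rep]⟩)⟩
  have hf : Function.Injective f := fun ⟨x, u⟩ ⟨y, u'⟩ e => by
    have e0 : D.rep (∑ k, (x k).val • gen k) * u = D.rep (∑ k, (y k).val • gen k) * u' := congrArg Subtype.val e
    have e1 := congrArg (QuotientGroup.mk : P → P ⧸ Subgroup.center P) e0
    rw [QuotientGroup.mk_mul_of_mem _ u.2, QuotientGroup.mk_mul_of_mem _ u'.2, D.mk_rep, D.mk_rep] at e1
    have hk : D.ψ ((∑ k, (x k).val • gen k) - ∑ k, (y k).val • gen k) = 1 := by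
      rw [sub_eq_add_neg, D.add, hψneg, e1, mul_inv_cancel]
    obtain ⟨w, hw⟩ := (D.ker _).1 hk
    have hxy : x = y := by
      have h := congrArg pairing hw
      rw [map_sub, map_add, pairing_sum, pairing_sum] at h
      rw [← sub_eq_zero, h]
      funext l; exact CharTwo.add_self_eq_zero _
    subst hxy
    exact Prod.ext rfl (Subtype.ext (mul_left_cancel e0))
  have hcard : 2 ^ 13 ≤ Nat.card E := by
    refine le_trans (le_of_eq ?_) (Nat.card_le_card_of_injective f hf)
    rw [Nat.card_prod, D.card, Nat.card_eq_fintype_card, Fintype.card_fun, ZMod.card, Fintype.card_fin]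
    norm_num
  haveI : Fact (Nat.Prime 2) := ⟨Nat.prime_two⟩
  obtain ⟨n, hn⟩ := IsPGroup.iff_card.1 (show IsPGroup 2 E from fun a => ⟨1, Subtype.ext (by simpa using hsq a a.2)⟩)
  have hn13 : 13 ≤ n := (Nat.pow_le_pow_iff_right (by norm_num)).1 (hn ▸ hcard)
  obtain ⟨H, hH⟩ := Sylow.exists_subgroup_card_pow_prime 2 (n := 13) (hn ▸ pow_dvd_pow 2 hn13 : 2 ^ 13 ∣ Nat.card E)
  refine ⟨H.map E.subtype, ⟨⟨⟨?_⟩⟩, ?_⟩, by rw [Subgroup.card_map_of_injective E.subtype_injective, hH]⟩
  · rintro ⟨_, a, -, rfl⟩ ⟨_, b, -, rfl⟩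
    exact Subtype.ext (hcomm a a.2 b b.2)
  · rintro _ ⟨a, -, rfl⟩
    exact hsq a a.2

end Group

end CfsgLib.Spor.Leech.Plus
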